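import Groth.Agent.EtQCoh.Main
import Mathlib.RingTheory.Flat.Basic

/-!
# Modules cartesian on affine objects are quasi-coherent
-/

set_option backward.isDefEq.respectTransparency false
set_option backward.isDefEq.respectTransparency.types false
set_option linter.style.haveILetI false

noncomputable section

universe u

open CategoryTheory CategoryTheory.Limits AlgebraicGeometry Opposite AlgSp TensorProduct

namespace Groth.Agent.EtQCoh5

open Groth.Agent.AlgSpQ4.MV Groth.Agent.AlgSpDec Groth.Agent.EtQCoh

variable {S : Scheme.{u}} {X : Sp S}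

/-- Every object has a covering by affine open subobjects. -/
theorem exists_affine_open_cover (T : EtOver X) :
    ∃ (ι : Type u) (Y : ι → EtOver X) (_ : ∀ i, IsAffine (Y i).obj.left.left) (h : ∀ i, Y i ⟶ T),
      (∀ i, IsOpenImmersion (h i).hom.left.left) ∧
      ∀ x : ↥T.obj.left.left, ∃ i, x ∈ Set.range (h i).hom.left.left := by
  have h : ∀ x : ↥T.obj.left.left, ∃ O : T.obj.left.left.Opens, IsAffineOpen O ∧ x ∈ O := fun x => by
    obtain ⟨O, hO, hx, -⟩ := exists_isAffineOpen_mem_and_subset (U := (⊤ : T.obj.left.left.Opens)) (x := x) trivial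
    exact ⟨O, hO, hx⟩
  choose O hO hx using h
  exact ⟨_, fun x => etOpen T (O x), fun x => hO x, fun x => etOpenι T (O x),
    fun x => inferInstanceAs (IsOpenImmersion (O x).ι), fun x => ⟨x, (range_etOpenι T (O x)).ge (hx x)⟩⟩

variable {U : EtOver X}

/-- The map of an object over `U` to the terminal one. -/
def toTop (V : Over U) : V ⟶ Over.mk (𝟙 U) := Over.homMk V.hom (Category.comp_id _)

/-- The global section given by a section on the terminal object. -/
def sectionsOfTop (N : ModEtOn U) (z : osect N (𝟙 U)) : N.sections :=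
  PresheafOfModules.sectionsMk (fun V => N.val.map (toTop V.unop).op z) fun V W f => by
    have e : toTop W.unop = f.unop ≫ toTop V.unop := by
      ext1
      exact (Over.w f.unop).symm
    show N.val.presheaf.map f (N.val.presheaf.map (toTop V.unop).op z) = N.val.presheaf.map (toTop W.unop).op z
    rw [e, op_comp, Functor.map_comp]
    rfl

theorem sectionsOfTop_val (N : ModEtOn U) (z : osect N (𝟙 U)) {T : EtOver X} (a : T ⟶ U) :
    (sectionsOfTop N z).val (op (Over.mk a)) = ores N a (Category.comp_id a) z := rfl

/-- A map of modules over `U` surjective on affine objects is epi. -/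
theorem epi_of_surjective {N' N : ModEtOn U} (φ : N' ⟶ N)
    (h : ∀ {T : EtOver X} [IsAffine T.obj.left.left] (a : T ⟶ U), Function.Surjective (oapp φ a)) : Epi φ := by
  refine ⟨fun {Z} f g e => SheafOfModules.hom_ext (PresheafOfModules.hom_ext fun ⟨V⟩ => ?_)⟩
  refine ModuleCat.hom_ext (LinearMap.ext fun x => ?_)
  obtain ⟨ι, Y, hY, k, -, hc⟩ := exists_affine_open_cover V.left
  refine osect_ext Z V.hom Y k hc (s := oapp f V.hom x) (t := oapp g V.hom x) fun i => ?_
  rw [← oapp_ores, ← oapp_ores]
  obtain ⟨z, hz⟩ := h (k i ≫ V.hom) (ores N (k i) rfl x)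
  rw [← hz]
  exact congrArg (fun ψ : N' ⟶ Z => oapp ψ (k i ≫ V.hom) z) e

theorem oapp_basis {I : Type (u + 1)} {N : ModEtOn U} (s : I → N.sections) {T : EtOver X} (a : T ⟶ U) (i : I) :
    oapp (N.freeHomEquiv.symm s) a (obasis I a i) = (s i).val (op (Over.mk a)) := by
  refine (Free.app_basis (N.freeHomEquiv.symm s) i (Over.mk a)).trans ?_
  rw [Equiv.apply_symm_apply]

variable (M : ModEt X)

/-- The sections over `U`, as generators. -/
def genMap (U : EtOver X) : ofree U (sectModEt M U) ⟶ SheafOfModules.over M U :=
  (SheafOfModules.over M U).freeHomEquiv.symm fun x => sectionsOfTop (SheafOfModules.over M U) x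

theorem genMap_ocomb {T : EtOver X} (a : T ⟶ U) (c : sectModEt M U →₀ gam T) :
    (oapp (genMap M U) a (ocomb _ a c) : sectModEt M T) =
      Finsupp.linearCombination (gam T) (fun x : sectModEt M U => res M a x) c := by
  induction c using Finsupp.induction_linear with
  | zero => simp only [map_zero]
  | add c d hc hd => rw [map_add, map_add, map_add, ← hc, ← hd]
  | single x r =>
    rw [ocomb, Finsupp.linearCombination_single, Finsupp.linearCombination_single, map_smul]
    exact congrArg (fun y : sectModEt M T => r • y)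
      ((oapp_basis (fun x => sectionsOfTop (SheafOfModules.over M U) x) a x).trans rfl)

theorem θ_lTensor {T : EtOver X} (a : T ⟶ U) (c : sectModEt M U →₀ gam T) :
    letI := (pb a).toAlgebra
    θ M a ((Finsupp.linearCombination (gam U) (id : sectModEt M U → sectModEt M U)).lTensor (gam T)
      (c.sum fun x r => r ⊗ₜ[gam U] Finsupp.single x 1)) =
      Finsupp.linearCombination (gam T) (fun x : sectModEt M U => res M a x) c := by
  let := (pb a).toAlgebra
  induction c using Finsupp.induction_linear with
  | zero => simp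
  | add c d hc hd =>
    rw [Finsupp.sum_add_index' (by simp) (by simp [add_tmul]), map_add, map_add, map_add, hc, hd]
  | single x r =>
    rw [Finsupp.sum_single_index (by simp), LinearMap.lTensor_tmul, Finsupp.linearCombination_single, one_smul, id,
      θ_tmul, Finsupp.linearCombination_single]

/-- The relations between the sections over `U`. -/
abbrev RelIdx (U : EtOver X) : Type (u + 1) :=
  LinearMap.ker (Finsupp.linearCombination (gam U) (id : sectModEt M U → sectModEt M U))

/-- The map given by the relations. -/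
def relsMap (U : EtOver X) : ofree U (RelIdx M U) ⟶ ofree U (sectModEt M U) :=
  (ofree U (sectModEt M U)).freeHomEquiv.symm fun c => sectionsOfTop _ (ocomb _ (𝟙 U) c.1)

theorem relsMap_basis {T : EtOver X} (a : T ⟶ U) (c : RelIdx M U) :
    oapp (relsMap M U) a (obasis _ a c) = ocomb _ a (c.1.mapRange (pb a) (map_zero _)) := by
  refine (oapp_basis (fun c : RelIdx M U => sectionsOfTop _ (ocomb _ (𝟙 U) c.1)) a c).trans ?_
  rw [sectionsOfTop_val, ores_ocomb]

theorem relsMap_genMap : relsMap M U ≫ genMap M U = 0 := by
  apply ((SheafOfModules.over M U)).freeHomEquiv.injective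
  funext c
  refine Subtype.ext (funext fun ⟨V⟩ => ?_)
  show oapp (genMap M U) V.hom (oapp (relsMap M U) V.hom (obasis _ V.hom c)) = _
  rw [relsMap_basis, ← ores_ocomb _ V.hom (Category.comp_id V.hom), oapp_ores]
  have h0 : oapp (genMap M U) (𝟙 U) (ocomb _ (𝟙 U) c.1) = (0 : sectModEt M U) := by
    rw [genMap_ocomb]
    refine Eq.trans ?_ c.2
    congr 2
    funext x
    exact res_id M x
  rw [h0, map_zero]
  rfl

variable {M}

theorem genMap_surjective (hU : CartAt M U) {T : EtOver X} [IsAffine T.obj.left.left] (a : T ⟶ U) :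
    Function.Surjective (oapp (genMap M U) a) := by
  intro y
  let := (pb a).toAlgebra
  obtain ⟨t, ht⟩ := (hU T ‹_› a).2 y
  suffices h : ∀ t, ∃ z, oapp (genMap M U) a z = θ M a t by
    obtain ⟨z, hz⟩ := h t
    exact ⟨z, hz.trans ht⟩
  intro t
  induction t with
  | zero => exact ⟨0, by rw [map_zero, map_zero]⟩
  | add t t' h h' =>
    obtain ⟨z, hz⟩ := h
    obtain ⟨z', hz'⟩ := h'
    exact ⟨z + z', by rw [map_add, map_add, ← hz, ← hz']⟩
  | tmul r x =>
    refine ⟨ocomb _ a (Finsupp.single x r), ?_⟩
    rw [genMap_ocomb, Finsupp.linearCombination_single, θ_tmul]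

theorem relsMap_exact (hU : CartAt M U) {T : EtOver X} [IsAffine T.obj.left.left] (a : T ⟶ U)
    (y : osect (ofree U (sectModEt M U)) a) (hy : oapp (genMap M U) a y = 0) :
    ∃ w, oapp (relsMap M U) a w = y := by
  classical
  let := (pb a).toAlgebra
  obtain ⟨c, rfl⟩ := ocomb_surjective _ a y
  let tot : (sectModEt M U →₀ gam U) →ₗ[gam U] sectModEt M U := Finsupp.linearCombination (gam U) id
  let t : gam T ⊗[gam U] (sectModEt M U →₀ gam U) := c.sum fun x r => r ⊗ₜ[gam U] Finsupp.single x 1
  have ht : tot.lTensor (gam T) t = 0 := by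
    refine (hU T ‹_› a).1 ?_
    rw [θ_lTensor, map_zero]
    exact (genMap_ocomb M a c).symm.trans hy
  have hsurj : Function.Surjective tot := fun x => ⟨Finsupp.single x 1, by simp [tot]⟩
  have hex : Function.Exact (LinearMap.ker tot).subtype tot := LinearMap.exact_subtype_ker_map tot
  obtain ⟨v, hv⟩ := (lTensor_exact (gam T) (M := ↥(LinearMap.ker tot)) (f := (LinearMap.ker tot).subtype) (g := tot) hex hsurj t).1 ht
  let L : gam T ⊗[gam U] (sectModEt M U →₀ gam U) →ₗ[gam T] (sectModEt M U →₀ gam T) :=
    (TensorProduct.finsuppScalarRight (gam U) (gam T) (gam T) (sectModEt M U)).toLinearMap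
  have hL : ∀ (r : gam T) (d : sectModEt M U →₀ gam U), L (r ⊗ₜ d) = r • d.mapRange (pb a) (map_zero _) := fun r d => by
    ext x
    simp only [L, LinearEquiv.coe_coe, TensorProduct.finsuppScalarRight_apply_tmul_apply, Finsupp.smul_apply,
      Finsupp.mapRange_apply, smul_eq_mul]
    rw [Algebra.smul_def, mul_comm]
    rfl
  have hc : L t = c := by
    simp only [t, map_finsuppSum, hL, Finsupp.mapRange_single, map_one, Finsupp.smul_single, smul_eq_mul, mul_one]
    exact Finsupp.sum_single c
  suffices h : ∀ v, ∃ w, oapp (relsMap M U) a w = ocomb _ a (L ((LinearMap.ker tot).subtype.lTensor (gam T) v)) by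
    obtain ⟨w, hw⟩ := h v
    refine ⟨w, hw.trans ?_⟩
    rw [hv, hc]
  intro v
  induction v with
  | zero => exact ⟨0, by simp only [map_zero]⟩
  | add v v' h h' =>
    obtain ⟨w, hw⟩ := h
    obtain ⟨w', hw'⟩ := h'
    exact ⟨w + w', by simp only [map_add, hw, hw']⟩
  | tmul r d =>
    refine ⟨r • obasis _ a (d : RelIdx M U), ?_⟩
    rw [map_smul, LinearMap.lTensor_tmul, Submodule.subtype_apply, hL, map_smul]
    exact congrArg (fun z => r • z) (relsMap_basis M a d)

/-- Sections of a kernel inject. -/
theorem oapp_injective_of_mono {N' N : ModEtOn U} (φ : N' ⟶ N) [Mono φ] {T : EtOver X} (a : T ⟶ U) :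
    Function.Injective (oapp φ a) :=
  (ModuleCat.mono_iff_injective ((SheafOfModules.forget _ ⋙ PresheafOfModules.evaluation _ (op (Over.mk a))).map φ)).1
    inferInstance

/-- The relations as a map to the kernel of the generators. -/
def relsLift (M : ModEt X) (U : EtOver X) : ofree U (RelIdx M U) ⟶ kernel (genMap M U) :=
  kernel.lift (genMap M U) (relsMap M U) (relsMap_genMap M)

theorem relsLift_ι (M : ModEt X) (U : EtOver X) : relsLift M U ≫ kernel.ι (genMap M U) = relsMap M U :=
  kernel.lift_ι _ _ _

theorem epi_relsLift (hU : CartAt M U) : Epi (relsLift M U) := by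
  refine epi_of_surjective _ fun {T} _ a y => ?_
  have h0 : oapp (genMap M U) a (oapp (kernel.ι (genMap M U)) a y) = 0 :=
    congrArg (fun ψ : kernel (genMap M U) ⟶ SheafOfModules.over M U => oapp ψ a y) (kernel.condition (genMap M U))
  obtain ⟨w, hw⟩ := relsMap_exact hU a _ h0
  refine ⟨w, oapp_injective_of_mono (kernel.ι (genMap M U)) a ?_⟩
  exact (congrArg (fun ψ : ofree U _ ⟶ ofree U _ => oapp ψ a w) (relsLift_ι M U)).trans hw

/-- The generating sections. -/
def gens (M : ModEt X) (U : EtOver X) (hU : CartAt M U) : (SheafOfModules.over M U).GeneratingSections where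
  I := sectModEt M U
  s := fun x => sectionsOfTop (SheafOfModules.over M U) x
  epi := epi_of_surjective _ (genMap_surjective hU)

/-- The generating relations. -/
def relsGen (M : ModEt X) (U : EtOver X) (hU : CartAt M U) : (kernel (genMap M U)).GeneratingSections where
  I := RelIdx M U
  s := (kernel (genMap M U)).freeHomEquiv (relsLift M U)
  epi := by
    rw [Equiv.symm_apply_apply]
    exact epi_relsLift hU

/-- The presentation by all sections over an affine object at which the module is cartesian. -/
def presentation (M : ModEt X) (U : EtOver X) (hU : CartAt M U) : (SheafOfModules.over M U).Presentation where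
  generators := gens M U hU
  relations := relsGen M U hU

/-- A module cartesian on affine objects is quasi-coherent. -/
theorem isQuasicoherent_of_cartAt (h : ∀ E : EtOver X, IsAffine E.obj.left.left → CartAt M E) :
    M.IsQuasicoherent := by
  refine SheafOfModules.QuasicoherentData.isQuasicoherent.{u + 1} (M := M)
    { I := {E : EtOver X // IsAffine E.obj.left.left}
      X := fun i => i.1
      coversTop := fun T => ?_
      presentation := fun i => presentation M i.1 (h i.1 i.2) }
  obtain ⟨ι, Y, hY, k, -, hc⟩ := exists_affine_open_cover T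
  refine (etTop X).superset_covering ?_ (AlgSp.ofArrows_mem_etTop Y k hc)
  rw [Sieve.generate_le_iff]
  intro Z f hf
  obtain ⟨i⟩ := hf
  exact ⟨⟨_, hY i⟩, ⟨𝟙 _⟩⟩

theorem isQuasicoherent_iff_cartAt : M.IsQuasicoherent ↔ ∀ E : EtOver X, IsAffine E.obj.left.left → CartAt M E :=
  ⟨fun _ E _ => cartAt M E, isQuasicoherent_of_cartAt⟩

end Groth.Agent.EtQCoh5
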