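import Groth.Agent.EtQCoh5.Converse
import Groth.Agent.AlgSpDec.EtSite
import Groth.Agent.AlgSpPts.Misc
import Groth.Agent.AlgSpLib.Rep
import Groth.Prelude.Def_AlgSp4

/-!
# Direct images of quasi-coherent modules along quasi-compact quasi-separated morphisms
-/

set_option backward.isDefEq.respectTransparency false
set_option backward.isDefEq.respectTransparency.types false
set_option linter.style.haveILetI false

noncomputable section

universe u

open CategoryTheory CategoryTheory.Limits AlgebraicGeometry Opposite AlgSp TensorProduct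

namespace Groth.Agent.EtQCoh5

universe v w in
/-- Base change of an equalizer along a flat algebra. -/
theorem bijective_of_equalizer {A B : Type u} [CommRing A] [CommRing B] [Algebra A B] [Module.Flat A B]
    {M P R : Type v} [AddCommGroup M] [Module A M] [AddCommGroup P] [Module A P] [AddCommGroup R] [Module A R]
    {M' P' R' : Type w} [AddCommGroup M'] [AddCommGroup P'] [AddCommGroup R']
    (η : M →ₗ[A] P) (δ : P →ₗ[A] R) (η' : M' →+ P') (δ' : P' →+ R') (hη : Function.Injective η)
    (hex : Function.Exact η δ) (hη' : Function.Injective η') (hδη : ∀ x, δ' (η' x) = 0)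
    (θ : B ⊗[A] M →+ M') (φ : B ⊗[A] P →+ P') (ψ : B ⊗[A] R →+ R')
    (hθφ : ∀ t, φ (η.lTensor B t) = η' (θ t)) (hφψ : ∀ t, ψ (δ.lTensor B t) = δ' (φ t))
    (hφ : Function.Bijective φ) (hψ : Function.Injective ψ) : Function.Bijective θ := by
  refine ⟨fun a b h => Module.Flat.lTensor_preserves_injective_linearMap η hη (hφ.1 (by rw [hθφ, hθφ, h])),
    fun x => ?_⟩
  obtain ⟨t, ht⟩ := hφ.2 (η' x)
  have h0 : δ.lTensor B t = 0 := hψ (by rw [hφψ, ht, hδη, map_zero])
  obtain ⟨s, rfl⟩ := (Module.Flat.lTensor_exact B hex t).1 h0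
  exact ⟨s, hη' (by rw [← hθφ, ht])⟩

open Groth.Agent.AlgSpQ4.MV Groth.Agent.AlgSpDec Groth.Agent.EtQCoh Groth.Agent.AlgSpLib

variable {S : Scheme.{u}} {X Y : Sp S} {f : X ⟶ Y}

theorem etOpen_hom_ext {E W : EtOver X} {O : E.obj.left.left.Opens} {a b : W ⟶ etOpen E O}
    (h : a ≫ etOpenι E O = b ≫ etOpenι E O) : a = b :=
  EtOver.hom_ext _ _ (Over.OverMorphism.ext ((cancel_mono O.ι).1 (congrArg (fun k => k.hom.left.left) h)))

theorem exists_etOpen_lift {E W : EtOver X} {O : E.obj.left.left.Opens} (a : W ⟶ E)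
    (h : Set.range a.hom.left.left ⊆ O) : ∃ l : W ⟶ etOpen E O, l ≫ etOpenι E O = a := by
  let l₀ := IsOpenImmersion.lift O.ι a.hom.left.left (by rw [Scheme.Opens.range_ι]; exact h)
  have hl₀ : l₀ ≫ O.ι = a.hom.left.left := IsOpenImmersion.lift_fac _ _ _
  let l₁ : W.obj.left ⟶ (etOpen E O).obj.left := CategoryTheory.Over.homMk l₀ (by
    show l₀ ≫ O.ι ≫ E.obj.left.hom = W.obj.left.hom
    rw [← Category.assoc, hl₀]
    exact Over.w a.hom.left)
  refine ⟨EtOver.homMk l₁ ?_, EtOver.hom_ext _ _ (Over.OverMorphism.ext hl₀)⟩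
  show (yon S).map l₁ ≫ (yon S).map _ ≫ E.obj.hom = W.obj.hom
  rw [← Category.assoc, ← Functor.map_comp, ← EtOver.w a]
  congr 2
  exact Over.OverMorphism.ext hl₀

theorem exists_finite_affine {W : Scheme.{u}} (U : W.Opens) (hU : IsCompact (U : Set ↥W)) :
    ∃ (ι : Type u) (_ : Finite ι) (O : ι → W.Opens), (∀ j, IsAffineOpen (O j)) ∧ (∀ j, O j ≤ U) ∧
      ∀ x ∈ U, ∃ j, x ∈ O j := by
  have key : ∀ x : ↥(U : Set ↥W), ∃ O : W.Opens, IsAffineOpen O ∧ (x : ↥W) ∈ O ∧ O ≤ U := fun x => by
    obtain ⟨O, hO, hx, hle⟩ := exists_isAffineOpen_mem_and_subset (x := (x : ↥W)) x.2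
    exact ⟨O, hO, hx, hle⟩
  choose O hO hx hle using key
  obtain ⟨s, hs⟩ := hU.elim_finite_subcover (fun x => (O x : Set ↥W)) (fun x => (O x).isOpen)
    fun x h => Set.mem_iUnion.2 ⟨⟨x, h⟩, hx ⟨x, h⟩⟩
  refine ⟨↥s, Finite.of_fintype _, fun j => O j.1, fun j => hO j.1, fun j => hle j.1, fun x h => ?_⟩
  simp only [Set.subset_def, Set.mem_iUnion] at hs
  obtain ⟨y, hy, hxy⟩ := hs x h
  exact ⟨⟨y, hy⟩, hxy⟩

variable (hf : Representable f) {E T : EtOver Y} (g : T ⟶ E)

/-- The base change of an object. -/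
abbrev bb (E : EtOver Y) : EtOver X := (EtOver.bc hf).obj E

/-- The preimage of an open of the base change. -/
abbrev pre (O : (bb hf E).obj.left.left.Opens) : (bb hf T).obj.left.left.Opens :=
  ((EtOver.bc hf).map g).hom.left.left ⁻¹ᵁ O

theorem exists_qO (O : (bb hf E).obj.left.left.Opens) :
    ∃ l : etOpen (bb hf T) (pre hf g O) ⟶ etOpen (bb hf E) O,
      l ≫ etOpenι _ O = etOpenι _ (pre hf g O) ≫ (EtOver.bc hf).map g :=
  exists_etOpen_lift _ (by
    rintro _ ⟨x, rfl⟩
    exact (range_etOpenι (bb hf T) (pre hf g O)).le ⟨x, rfl⟩)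

/-- The map on opens. -/
def qO (O : (bb hf E).obj.left.left.Opens) : etOpen (bb hf T) (pre hf g O) ⟶ etOpen (bb hf E) O :=
  (exists_qO hf g O).choose

theorem qO_ι (O : (bb hf E).obj.left.left.Opens) :
    qO hf g O ≫ etOpenι _ O = etOpenι _ (pre hf g O) ≫ (EtOver.bc hf).map g :=
  (exists_qO hf g O).choose_spec

/-- Functions on the base restricted to an open of the base change. -/
def rho (E : EtOver Y) (O : (bb hf E).obj.left.left.Opens) : gam E →+* gam (etOpen (bb hf E) O) :=
  (pb (etOpenι (bb hf E) O)).comp (EtOver.bcπ hf E).left.appTop.hom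

theorem bcπ_naturality (a : gam E) :
    pb ((EtOver.bc hf).map g) ((EtOver.bcπ hf E).left.appTop.hom a) = (EtOver.bcπ hf T).left.appTop.hom (pb g a) := by
  have h := congrArg (fun k => k.left.appTop.hom a) (EtOver.bcMap_snd hf g)
  simp only [Over.comp_left, Scheme.Hom.comp_appTop, CommRingCat.comp_apply] at h
  exact h

theorem pb_qO_rho (O : (bb hf E).obj.left.left.Opens) (a : gam E) :
    pb (qO hf g O) (rho hf E O a) = rho hf T (pre hf g O) (pb g a) := by
  show pb (qO hf g O) (pb (etOpenι _ O) _) = pb (etOpenι _ (pre hf g O)) _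
  rw [← pb_comp, qO_ι, pb_comp]
  exact congrArg _ (bcπ_naturality hf g a)

theorem isPullback_qO (O : (bb hf E).obj.left.left.Opens) :
    IsPullback (qO hf g O).hom.left.left ((etOpenι _ (pre hf g O)).hom.left.left ≫ (EtOver.bcπ hf T).left)
      ((etOpenι _ O).hom.left.left ≫ (EtOver.bcπ hf E).left) g.hom.left.left := by
  have h : (qO hf g O).hom.left.left = ((EtOver.bc hf).map g).hom.left.left ∣_ O := by
    rw [← cancel_mono O.ι, morphismRestrict_ι]
    exact congrArg (fun k => k.hom.left.left) (qO_ι hf g O)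
  rw [h]
  exact (isPullback_morphismRestrict _ O).paste_vert (EtOver.isPullback_bcMap_left hf g)

theorem isAffine_pre [IsAffine E.obj.left.left] [IsAffine T.obj.left.left] (O : (bb hf E).obj.left.left.Opens)
    (hO : IsAffineOpen O) : IsAffine (etOpen (bb hf T) (pre hf g O)).obj.left.left :=
  haveI : IsAffine (etOpen (bb hf E) O).obj.left.left := hO
  IsAffine.of_isIso (isPullback_qO hf g O).isoPullback.hom

variable (F : ModEt X)

/-- Sections over opens as modules over the base. -/
@[implicit_reducible]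
def secMod (O : (bb hf E).obj.left.left.Opens) : Module (gam E) (sectModEt F (etOpen (bb hf E) O)) :=
  Module.compHom _ (rho hf E O)

/-- Base change of sections over an open. -/
def κO (O : (bb hf E).obj.left.left.Opens) :
    letI := (pb g).toAlgebra; letI := secMod hf F O
    gam T ⊗[gam E] sectModEt F (etOpen (bb hf E) O) →+ sectModEt F (etOpen (bb hf T) (pre hf g O)) :=
  letI := (pb g).toAlgebra
  letI := secMod hf F O
  TensorProduct.liftAddHom
    { toFun := fun r =>
        { toFun := fun x => rho hf T (pre hf g O) r • res F (qO hf g O) x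
          map_zero' := by rw [map_zero, smul_zero]
          map_add' := fun x y => by rw [map_add, smul_add] }
      map_zero' := by
        ext x
        show rho hf T (pre hf g O) 0 • res F (qO hf g O) x = 0
        rw [map_zero, zero_smul]
      map_add' := fun r r' => by
        ext x
        show rho hf T (pre hf g O) (r + r') • res F (qO hf g O) x = _
        rw [map_add, add_smul]
        rfl }
    fun a r x => by
      show rho hf T (pre hf g O) (pb g a * r) • res F (qO hf g O) x =
        rho hf T (pre hf g O) r • res F (qO hf g O) (rho hf E O a • x)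
      rw [res_smul, pb_qO_rho, map_mul, mul_comm, mul_smul]

theorem κO_tmul (O : (bb hf E).obj.left.left.Opens) (r : gam T) (x : sectModEt F (etOpen (bb hf E) O)) :
    letI := (pb g).toAlgebra; letI := secMod hf F O
    κO hf g F O (r ⊗ₜ[gam E] x) = rho hf T (pre hf g O) r • res F (qO hf g O) x := rfl

theorem κO_bijective [IsAffine E.obj.left.left] [IsAffine T.obj.left.left] [F.IsQuasicoherent]
    (O : (bb hf E).obj.left.left.Opens) (hO : IsAffineOpen O) : Function.Bijective (κO hf g F O) := by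
  haveI : IsAffine (etOpen (bb hf E) O).obj.left.left := hO
  haveI := isAffine_pre hf g O hO
  let := (pb g).toAlgebra; let := secMod hf F O
  let := (rho hf E O).toAlgebra; let := (rho hf T (pre hf g O)).toAlgebra
  let := (pb (qO hf g O)).toAlgebra
  let := ((rho hf T (pre hf g O)).comp (pb g)).toAlgebra
  have : IsScalarTower (gam E) (gam T) (gam (etOpen (bb hf T) (pre hf g O))) := .of_algebraMap_eq fun _ => rfl
  have : IsScalarTower (gam E) (gam (etOpen (bb hf E) O)) (gam (etOpen (bb hf T) (pre hf g O))) :=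
    .of_algebraMap_eq fun a => (pb_qO_rho hf g O a).symm
  have : IsScalarTower (gam E) (gam (etOpen (bb hf E) O)) (sectModEt F (etOpen (bb hf E) O)) := ⟨fun a b x => by
    show (rho hf E O a * b) • x = rho hf E O a • b • x
    rw [mul_smul]⟩
  have : Algebra.IsPushout (gam E) (gam T) (gam (etOpen (bb hf E) O)) (gam (etOpen (bb hf T) (pre hf g O))) :=
    (CommRingCat.isPushout_iff_isPushout (R := gam E) (S := gam (etOpen (bb hf E) O)) (R' := gam T)
      (S' := gam (etOpen (bb hf T) (pre hf g O)))).mp (isPushout_appTop_of_isPullback (isPullback_qO hf g O).flip)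
  let c := Algebra.IsPushout.cancelBaseChange (gam E) (gam T) (gam (etOpen (bb hf E) O))
    (gam (etOpen (bb hf T) (pre hf g O))) (sectModEt F (etOpen (bb hf E) O))
  have key : ∀ t, κO hf g F O t = θ F (qO hf g O) (c.symm t) := fun t => by
    induction t with
    | zero => simp only [map_zero]
    | add a b ha hb => simp only [map_add, ha, hb]
    | tmul r x => rw [Algebra.IsPushout.cancelBaseChange_symm_tmul, θ_tmul, κO_tmul]; rfl
  rw [show (κO hf g F O : _ → _) = (θ F (qO hf g O) : _ → _) ∘ c.symm from funext key]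
  exact (cartAt F (etOpen (bb hf E) O) _ (isAffine_pre hf g O hO) (qO hf g O)).comp c.symm.bijective

theorem rho_res {O P : (bb hf E).obj.left.left.Opens} (l : etOpen (bb hf E) P ⟶ etOpen (bb hf E) O)
    (hl : l ≫ etOpenι _ O = etOpenι _ P) (a : gam E) : pb l (rho hf E O a) = rho hf E P a := by
  show pb l (pb (etOpenι _ O) _) = pb (etOpenι _ P) _
  rw [← pb_comp, hl]

theorem qO_naturality {O P : (bb hf E).obj.left.left.Opens} (l : etOpen (bb hf E) P ⟶ etOpen (bb hf E) O)
    (hl : l ≫ etOpenι _ O = etOpenι _ P) (l' : etOpen (bb hf T) (pre hf g P) ⟶ etOpen (bb hf T) (pre hf g O))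
    (hl' : l' ≫ etOpenι _ (pre hf g O) = etOpenι _ (pre hf g P)) : l' ≫ qO hf g O = qO hf g P ≫ l :=
  etOpen_hom_ext (by rw [Category.assoc, Category.assoc, qO_ι, ← Category.assoc, hl', hl, qO_ι])

/-- The inclusion of a smaller open. -/
theorem exists_incl {O P : (bb hf E).obj.left.left.Opens} (h : P ≤ O) :
    ∃ l : etOpen (bb hf E) P ⟶ etOpen (bb hf E) O, l ≫ etOpenι _ O = etOpenι _ P :=
  exists_etOpen_lift _ ((range_etOpenι (bb hf E) P).le.trans h)

theorem res_push_smul {O : (bb hf E).obj.left.left.Opens} (a : gam E) (x : sectModEt ((pushModEt hf).obj F) E) :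
    res F (etOpenι (bb hf E) O) (show sectModEt F (bb hf E) from a • x) =
      rho hf E O a • res F (etOpenι (bb hf E) O) (show sectModEt F (bb hf E) from x) :=
  res_smul _ _ _

theorem res_incl_smul {O P : (bb hf E).obj.left.left.Opens} (l : etOpen (bb hf E) P ⟶ etOpen (bb hf E) O)
    (hl : l ≫ etOpenι _ O = etOpenι _ P) (a : gam E) (x : sectModEt F (etOpen (bb hf E) O)) :
    res F l (rho hf E O a • x) = rho hf E P a • res F l x := by
  rw [res_smul, rho_res hf l hl]

theorem κO_res {O P : (bb hf E).obj.left.left.Opens} (l : etOpen (bb hf E) P ⟶ etOpen (bb hf E) O)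
    (hl : l ≫ etOpenι _ O = etOpenι _ P) (l' : etOpen (bb hf T) (pre hf g P) ⟶ etOpen (bb hf T) (pre hf g O))
    (hl' : l' ≫ etOpenι _ (pre hf g O) = etOpenι _ (pre hf g P)) (r : gam T) (x : sectModEt F (etOpen (bb hf E) O)) :
    letI := (pb g).toAlgebra; letI := secMod hf F O; letI := secMod hf F P
    res F l' (κO hf g F O (r ⊗ₜ[gam E] x)) = κO hf g F P (r ⊗ₜ[gam E] res F l x) := by
  rw [κO_tmul, κO_tmul, res_smul, rho_res hf l' hl', ← res_comp, ← res_comp, qO_naturality hf g l hl l' hl']

theorem θ_res_open (O : (bb hf E).obj.left.left.Opens) (r : gam T) (x : sectModEt ((pushModEt hf).obj F) E) :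
    letI := (pb g).toAlgebra; letI := secMod hf F O
    κO hf g F O (r ⊗ₜ[gam E] res F (etOpenι (bb hf E) O) (show sectModEt F (bb hf E) from x)) =
      res F (etOpenι (bb hf T) (pre hf g O))
        (show sectModEt F (bb hf T) from θ ((pushModEt hf).obj F) g (r ⊗ₜ[gam E] x)) := by
  have h : rho hf T (pre hf g O) r • res F (qO hf g O) (res F (etOpenι (bb hf E) O) (show sectModEt F (bb hf E) from x)) =
      res F (etOpenι (bb hf T) (pre hf g O)) ((show gam (bb hf T) from (EtOver.bcπ hf T).left.appTop.hom r) •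
        res F ((EtOver.bc hf).map g) (show sectModEt F (bb hf E) from x)) := by
    rw [res_smul, ← res_comp, qO_ι, ← res_comp]
    rfl
  exact h

theorem glue_of_pairs {W : EtOver X} {ι κ : Type*} (O : ι → W.obj.left.left.Opens) (P : κ → W.obj.left.left.Opens)
    (a b : κ → ι) (hcO : ∀ x, ∃ i, x ∈ O i) (hcP : ∀ i j x, x ∈ O i → x ∈ O j → ∃ k, a k = i ∧ b k = j ∧ x ∈ P k)
    (la : ∀ k, etOpen W (P k) ⟶ etOpen W (O (a k))) (hla : ∀ k, la k ≫ etOpenι W (O (a k)) = etOpenι W (P k))
    (lb : ∀ k, etOpen W (P k) ⟶ etOpen W (O (b k))) (hlb : ∀ k, lb k ≫ etOpenι W (O (b k)) = etOpenι W (P k))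
    (s : ∀ i, sectModEt F (etOpen W (O i))) (h : ∀ k, res F (la k) (s (a k)) = res F (lb k) (s (b k))) :
    ∃ z : sectModEt F W, ∀ i, res F (etOpenι W (O i)) z = s i := by
  refine exists_glue F (fun i => etOpen W (O i)) (fun i => etOpenι W (O i)) (fun x => ?_) s fun i j V p q hpq => ?_
  · obtain ⟨i, hi⟩ := hcO x
    exact ⟨i, (range_etOpenι W (O i)).ge hi⟩
  · let w : V ⟶ W := p ≫ etOpenι W (O i)
    let Q : {k // a k = i ∧ b k = j} → V.obj.left.left.Opens := fun k => w.hom.left.left ⁻¹ᵁ P k.1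
    refine sect_ext' F (fun k => etOpen V (Q k)) (fun k => etOpenι V (Q k)) (fun v => ?_) ?_
    · have hvi : w.hom.left.left v ∈ O i := (range_etOpenι W (O i)).le ⟨p.hom.left.left v, rfl⟩
      have hvj : w.hom.left.left v ∈ O j := by
        show (p ≫ etOpenι W (O i)).hom.left.left v ∈ O j
        rw [hpq]
        exact (range_etOpenι W (O j)).le ⟨q.hom.left.left v, rfl⟩
      obtain ⟨k, hka, hkb, hk⟩ := hcP i j _ hvi hvj
      exact ⟨⟨k, hka, hkb⟩, (range_etOpenι V _).ge hk⟩
    · rintro ⟨k, rfl, rfl⟩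
      obtain ⟨l, hl⟩ := exists_etOpen_lift (O := P k) (etOpenι V (Q ⟨k, rfl, rfl⟩) ≫ w) (by
        rintro _ ⟨x, rfl⟩
        exact (range_etOpenι V (Q ⟨k, rfl, rfl⟩)).le ⟨x, rfl⟩)
      have ea : etOpenι V (Q ⟨k, rfl, rfl⟩) ≫ p = l ≫ la k :=
        etOpen_hom_ext (by rw [Category.assoc, Category.assoc, hla, hl])
      have eb : etOpenι V (Q ⟨k, rfl, rfl⟩) ≫ q = l ≫ lb k :=
        etOpen_hom_ext (by rw [Category.assoc, Category.assoc, hlb, hl, ← hpq])
      rw [← res_comp, ← res_comp, ea, eb, res_comp, res_comp, h]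

set_option maxHeartbeats 2000000 in
theorem cartMap_pushModEt [IsAffine E.obj.left.left] [IsAffine T.obj.left.left] [F.IsQuasicoherent]
    {ι κ : Type u} [Finite ι] [Finite κ] (O : ι → (bb hf E).obj.left.left.Opens)
    (P : κ → (bb hf E).obj.left.left.Opens) (a b : κ → ι) (hO : ∀ i, IsAffineOpen (O i))
    (hP : ∀ k, IsAffineOpen (P k)) (ha : ∀ k, P k ≤ O (a k)) (hb : ∀ k, P k ≤ O (b k))
    (hcO : ∀ x, ∃ i, x ∈ O i) (hcP : ∀ i j x, x ∈ O i → x ∈ O j → ∃ k, a k = i ∧ b k = j ∧ x ∈ P k) :
    CartMap ((pushModEt hf).obj F) g := by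
  classical
  have := Fintype.ofFinite ι
  have := Fintype.ofFinite κ
  choose la hla using fun k => exists_incl hf (ha k)
  choose lb hlb using fun k => exists_incl hf (hb k)
  choose la' hla' using fun k => exists_incl hf (E := T) (show pre hf g (P k) ≤ pre hf g (O (a k)) from fun _ h => ha k h)
  choose lb' hlb' using fun k => exists_incl hf (E := T) (show pre hf g (P k) ≤ pre hf g (O (b k)) from fun _ h => hb k h)
  let := (pb g).toAlgebra
  have : Module.Flat (gam E) (gam T) := flat_pb g
  let : ∀ i, Module (gam E) (sectModEt F (etOpen (bb hf E) (O i))) := fun i => secMod hf F (O i)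
  let : ∀ k, Module (gam E) (sectModEt F (etOpen (bb hf E) (P k))) := fun k => secMod hf F (P k)
  let η : sectModEt ((pushModEt hf).obj F) E →ₗ[gam E] ∀ i, sectModEt F (etOpen (bb hf E) (O i)) :=
    LinearMap.pi fun i =>
      { toFun := fun x => res F (etOpenι (bb hf E) (O i)) (show sectModEt F (bb hf E) from x)
        map_add' := fun x y => map_add (res F (etOpenι (bb hf E) (O i))) _ _
        map_smul' := fun c x => res_push_smul hf F c x }
  let δ : (∀ i, sectModEt F (etOpen (bb hf E) (O i))) →ₗ[gam E] ∀ k, sectModEt F (etOpen (bb hf E) (P k)) :=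
    LinearMap.pi fun k =>
      { toFun := fun s => res F (la k) (s (a k)) - res F (lb k) (s (b k))
        map_add' := fun s t => by
          simp only [Pi.add_apply, map_add]
          abel
        map_smul' := fun c s => by
          show res F (la k) (rho hf E (O (a k)) c • s (a k)) - res F (lb k) (rho hf E (O (b k)) c • s (b k)) =
            rho hf E (P k) c • (res F (la k) (s (a k)) - res F (lb k) (s (b k)))
          rw [res_incl_smul hf F (la k) (hla k), res_incl_smul hf F (lb k) (hlb k), smul_sub] }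
  let η' : sectModEt F (bb hf T) →+ ∀ i, sectModEt F (etOpen (bb hf T) (pre hf g (O i))) :=
    AddMonoidHom.mk' (fun x i => res F (etOpenι _ _) x) fun x y => funext fun i => map_add _ x y
  let δ' : (∀ i, sectModEt F (etOpen (bb hf T) (pre hf g (O i)))) →+
      ∀ k, sectModEt F (etOpen (bb hf T) (pre hf g (P k))) :=
    AddMonoidHom.mk' (fun s k => res F (la' k) (s (a k)) - res F (lb' k) (s (b k))) fun s t => funext fun k => by
      simp only [Pi.add_apply, map_add]
      abel
  let φ : gam T ⊗[gam E] (∀ i, sectModEt F (etOpen (bb hf E) (O i))) →+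
      ∀ i, sectModEt F (etOpen (bb hf T) (pre hf g (O i))) :=
    AddMonoidHom.mk' (fun t i => κO hf g F (O i) (TensorProduct.piRight (gam E) (gam E) (gam T) _ t i)) fun x y =>
      funext fun i => by rw [map_add, Pi.add_apply, map_add]; rfl
  let ψ : gam T ⊗[gam E] (∀ k, sectModEt F (etOpen (bb hf E) (P k))) →+
      ∀ k, sectModEt F (etOpen (bb hf T) (pre hf g (P k))) :=
    AddMonoidHom.mk' (fun t k => κO hf g F (P k) (TensorProduct.piRight (gam E) (gam E) (gam T) _ t k)) fun x y =>
      funext fun k => by rw [map_add, Pi.add_apply, map_add]; rfl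
  refine bijective_of_equalizer η δ η' δ' (fun s t h => ?_) (fun s => ⟨fun hs => ?_, ?_⟩) (fun s t h => ?_)
    (fun x => funext fun k => ?_) (θ ((pushModEt hf).obj F) g) φ ψ ?_ ?_ ?_ ?_
  · exact sect_ext' F _ (fun i => etOpenι (bb hf E) (O i))
      (fun x => (hcO x).imp fun i hi => (range_etOpenι (bb hf E) (O i)).ge hi) fun i => congrFun h i
  · obtain ⟨z, hz⟩ := glue_of_pairs F O P a b hcO hcP la hla lb hlb s fun k => sub_eq_zero.1 (congrFun hs k)
    exact ⟨z, funext hz⟩
  · rintro ⟨z, rfl⟩
    funext k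
    show res F (la k) (res F (etOpenι _ (O (a k))) _) - res F (lb k) (res F (etOpenι _ (O (b k))) _) = 0
    rw [← res_comp, ← res_comp, hla, hlb, sub_self]
  · exact sect_ext' F _ (fun i => etOpenι (bb hf T) (pre hf g (O i)))
      (fun x => (hcO (((EtOver.bc hf).map g).hom.left.left x)).imp fun i hi => (range_etOpenι (bb hf T) _).ge hi)
      fun i => congrFun h i
  · show res F (la' k) (res F (etOpenι _ _) x) - res F (lb' k) (res F (etOpenι _ _) x) = 0
    rw [← res_comp, ← res_comp, hla', hlb', sub_self]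
  · intro t
    refine tensor_addHom_ext (f := φ.comp (η.lTensor (gam T)).toAddMonoidHom)
      (g := η'.comp (θ ((pushModEt hf).obj F) g)) (fun r x => funext fun i => ?_) t
    show κO hf g F (O i) (TensorProduct.piRight (gam E) (gam E) (gam T) _ (r ⊗ₜ[gam E] η x) i) = _
    rw [TensorProduct.piRight_apply, TensorProduct.piRightHom_tmul]
    exact θ_res_open hf g F (O i) r x
  · intro t
    refine tensor_addHom_ext (f := ψ.comp (δ.lTensor (gam T)).toAddMonoidHom) (g := δ'.comp φ)
      (fun r s => funext fun k => ?_) t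
    show κO hf g F (P k) (TensorProduct.piRight (gam E) (gam E) (gam T) _ (r ⊗ₜ[gam E] δ s) k) =
      res F (la' k) (κO hf g F (O (a k)) (TensorProduct.piRight (gam E) (gam E) (gam T) _ (r ⊗ₜ[gam E] s) (a k))) -
      res F (lb' k) (κO hf g F (O (b k)) (TensorProduct.piRight (gam E) (gam E) (gam T) _ (r ⊗ₜ[gam E] s) (b k)))
    simp only [TensorProduct.piRight_apply, TensorProduct.piRightHom_tmul]
    rw [κO_res hf g F (la k) (hla k) (la' k) (hla' k), κO_res hf g F (lb k) (hlb k) (lb' k) (hlb' k), ← map_sub,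
      ← TensorProduct.tmul_sub]
    rfl
  · refine ⟨fun x y h => (TensorProduct.piRight (gam E) (gam E) (gam T) _).injective (funext fun i =>
      (κO_bijective hf g F (O i) (hO i)).1 (congrFun h i)), fun y => ?_⟩
    choose t ht using fun i => (κO_bijective hf g F (O i) (hO i)).2 (y i)
    refine ⟨(TensorProduct.piRight (gam E) (gam E) (gam T) _).symm t, funext fun i => ?_⟩
    show κO hf g F (O i) (TensorProduct.piRight (gam E) (gam E) (gam T) _
      ((TensorProduct.piRight (gam E) (gam E) (gam T) _).symm t) i) = y i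
    rw [LinearEquiv.apply_symm_apply, ht]
  · exact fun x y h => (TensorProduct.piRight (gam E) (gam E) (gam T) _).injective (funext fun k =>
      (κO_bijective hf g F (P k) (hP k)).1 (congrFun h k))

theorem compactSpace_bb (hqc : IsQuasiCompactMor f) (E : EtOver Y) [IsAffine E.obj.left.left] :
    CompactSpace ↥(bb hf E).obj.left.left := by
  have : CompactSpace ↥E.obj.left.left := ⟨(isAffineOpen_top E.obj.left.left).isCompact⟩
  exact (AlgSpPts.isQuasiCompactSp_yon_iff _).1 (hqc (IsAlgSpace.yon_obj E.obj.left)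
    ((AlgSpPts.isQuasiCompactSp_yon_iff _).2 this) E.obj.hom _ _ (hf.isPullback E.obj.hom))

theorem quasiSeparatedSpace_bb (hqs : IsQuasiSeparatedMor f) (E : EtOver Y) [IsAffine E.obj.left.left] :
    QuasiSeparatedSpace ↥(bb hf E).obj.left.left := by
  have h : IsQuasiSeparatedMor ((yon S).map (hf.snd E.obj.hom)) :=
    MorphismProperty.of_isPullback (P := (RepWith (S := S) @QuasiCompact).diagonal) (hf.isPullback E.obj.hom) hqs
  have : QuasiSeparated (hf.snd E.obj.hom).left := (isQuasiSeparatedMor_yon_map_iff _).1 h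
  exact quasiSeparatedSpace_of_quasiSeparated (hf.snd E.obj.hom).left

theorem isQuasicoherent_pushModEt (hqc : IsQuasiCompactMor f) (hqs : IsQuasiSeparatedMor f) [F.IsQuasicoherent] :
    ((pushModEt hf).obj F).IsQuasicoherent := by
  refine isQuasicoherent_of_cartAt fun E hE T hT g => ?_
  haveI := compactSpace_bb hf hqc E
  haveI := quasiSeparatedSpace_bb hf hqs E
  obtain ⟨ι, hι, O, hO, -, hcO⟩ := exists_finite_affine (⊤ : (bb hf E).obj.left.left.Opens) isCompact_univ
  have hc : ∀ p : ι × ι, IsCompact ((O p.1 ⊓ O p.2 : (bb hf E).obj.left.left.Opens) : Set ↥(bb hf E).obj.left.left) :=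
    fun p => QuasiSeparatedSpace.inter_isCompact _ _ (O p.1).isOpen (hO p.1).isCompact (O p.2).isOpen (hO p.2).isCompact
  choose κ hκ P hP hle hcP using fun p => exists_finite_affine _ (hc p)
  refine cartMap_pushModEt hf g F O (fun k : Σ p : ι × ι, κ p => P k.1 k.2) (fun k => k.1.1) (fun k => k.1.2) hO
    (fun k => hP k.1 k.2) (fun k x hx => (hle k.1 k.2 hx).1) (fun k x hx => (hle k.1 k.2 hx).2)
    (fun x => hcO x trivial) fun i j x hi hj => ?_
  obtain ⟨k, hk⟩ := hcP (i, j) x ⟨hi, hj⟩
  exact ⟨⟨(i, j), k⟩, rfl, rfl, hk⟩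

end Groth.Agent.EtQCoh5
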