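import Groth.Agent.EtQCoh5.CoverAlg
import Groth.Agent.EtQCoh5.PushQcqs
import Groth.Agent.EtQCoh.PushAss
import Groth.Agent.AlgSpDec.AffineLocal
import Groth.Agent.AlgSpLib.AffineDescProps
import Groth.Prelude.Def_AlgSpMor5
import Mathlib.Algebra.Category.ModuleCat.Sheaf.LocallyFree
import Mathlib.RingTheory.Spectrum.Prime.FreeLocus
import Mathlib.RingTheory.Localization.Free

/-!
# Finite locally free morphisms and the direct image of the structure sheaf
-/

set_option backward.isDefEq.respectTransparency false
set_option backward.isDefEq.respectTransparency.types false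
set_option linter.style.haveILetI false

noncomputable section

universe u

open CategoryTheory CategoryTheory.Limits AlgebraicGeometry Opposite AlgSp TensorProduct

namespace Groth.Agent.EtQCoh5

open Groth.Agent.AlgSpQ4.MV Groth.Agent.AlgSpDec Groth.Agent.EtQCoh

section free

variable {S : Scheme.{u}} {X : Sp S} {U : EtOver X}

theorem mono_of_injective {N' N : ModEtOn U} (φ : N' ⟶ N)
    (h : ∀ {T : EtOver X} [IsAffine T.obj.left.left] (a : T ⟶ U), Function.Injective (oapp φ a)) : Mono φ := by
  refine ⟨fun {Z} f g e => SheafOfModules.hom_ext (PresheafOfModules.hom_ext fun ⟨V⟩ => ?_)⟩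
  refine ModuleCat.hom_ext (LinearMap.ext fun x => ?_)
  obtain ⟨ι, Y, hY, k, -, hc⟩ := exists_affine_open_cover V.left
  refine osect_ext N' V.hom Y k hc (s := oapp f V.hom x) (t := oapp g V.hom x) fun i => ?_
  have := hY i
  apply h
  rw [← oapp_ores, ← oapp_ores]
  exact congrArg (fun ψ : Z ⟶ N => oapp ψ (k i ≫ V.hom) (ores Z (k i) rfl x)) e

variable (M : ModEt X) {I : Type (u + 1)} (b : I → sectModEt M U)

/-- The map given by a family of sections. -/
def famMap : ofree U I ⟶ SheafOfModules.over M U :=
  (SheafOfModules.over M U).freeHomEquiv.symm fun i => sectionsOfTop (SheafOfModules.over M U) (b i)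

theorem famMap_ocomb {T : EtOver X} (a : T ⟶ U) (c : I →₀ gam T) :
    (oapp (famMap M b) a (ocomb _ a c) : sectModEt M T) =
      Finsupp.linearCombination (gam T) (fun i => res M a (b i)) c := by
  induction c using Finsupp.induction_linear with
  | zero => simp only [map_zero]
  | add c d hc hd => rw [map_add, map_add, map_add, ← hc, ← hd]
  | single x r =>
    rw [ocomb, Finsupp.linearCombination_single, Finsupp.linearCombination_single, map_smul]
    exact congrArg (fun y : sectModEt M T => r • y)
      ((oapp_basis (fun i => sectionsOfTop (SheafOfModules.over M U) (b i)) a x).trans rfl)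

theorem isIso_famMap (hb : ∀ {T : EtOver X} [IsAffine T.obj.left.left] (a : T ⟶ U),
    Function.Bijective (Finsupp.linearCombination (gam T) fun i => res M a (b i))) : IsIso (famMap M b) := by
  have key : ∀ {T : EtOver X} [IsAffine T.obj.left.left] (a : T ⟶ U), Function.Bijective (oapp (famMap M b) a) := by
    intro T _ a
    have h : Function.Bijective ((oapp (famMap M b) a : _ → _) ∘ ocomb I a) := by
      rw [show (oapp (famMap M b) a : _ → _) ∘ ocomb I a =
        (Finsupp.linearCombination (gam T) fun i => res M a (b i) : _ → _) from funext (famMap_ocomb M b a)]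
      exact hb a
    exact (Function.Bijective.of_comp_iff _ ⟨ocomb_injective I a, ocomb_surjective I a⟩).1 h
  haveI := mono_of_injective (famMap M b) fun a => (key a).1
  haveI := epi_of_surjective (famMap M b) fun a => (key a).2
  exact isIso_of_mono_of_epi _

theorem bijective_of_basis [M.IsQuasicoherent] [IsAffine U.obj.left.left] (B : Module.Basis I (gam U) (sectModEt M U))
    {T : EtOver X} [IsAffine T.obj.left.left] (a : T ⟶ U) :
    Function.Bijective (Finsupp.linearCombination (gam T) fun i => res M a (B i)) := by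
  let := (pb a).toAlgebra
  let e := LinearEquiv.ofBijective (θLin M a) (θ_bijective M a)
  let B' := (B.baseChange (gam T)).map e
  have hB : (fun i => res M a (B i)) = B' := funext fun i => by
    rw [Module.Basis.map_apply, Module.Basis.baseChange_apply]
    exact ((θ_tmul M a 1 (B i)).trans (one_smul _ _)).symm
  rw [hB, ← Module.Basis.coe_repr_symm]
  exact B'.repr.symm.bijective

theorem free_of_generators [IsAffine U.obj.left.left] {V : EtOver X} (a : U ⟶ V)
    (σ : (SheafOfModules.over M V).GeneratingSections) [IsIso σ.π] [Finite σ.I] :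
    Module.Free (gam U) (sectModEt M U) ∧ Module.Finite (gam U) (sectModEt M U) := by
  have hiso : Function.Bijective (oapp σ.π a) :=
    Function.bijective_iff_has_inverse.2 ⟨oapp (inv σ.π) a,
      fun x => congrArg (fun ψ : ofree V σ.I ⟶ ofree V σ.I => oapp ψ a x) (IsIso.hom_inv_id σ.π),
      fun x => congrArg (fun ψ : SheafOfModules.over M V ⟶ SheafOfModules.over M V => oapp ψ a x)
        (IsIso.inv_hom_id σ.π)⟩
  let L : (σ.I →₀ gam U) →ₗ[gam U] sectModEt M U := (oapp σ.π a).comp (ocomb σ.I a)
  have hL : Function.Bijective L := hiso.comp ⟨ocomb_injective σ.I a, ocomb_surjective σ.I a⟩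
  exact ⟨Module.Free.of_equiv (LinearEquiv.ofBijective L hL), Module.Finite.equiv (LinearEquiv.ofBijective L hL)⟩

end free

section push

variable {S : Scheme.{u}} {X Y : Sp S} {f : X ⟶ Y} (hf : Representable f)

/-- Functions restricted to the base change. -/
def piF (E : EtOver Y) : gam E →+* gam (bb hf E) := (EtOver.bcπ hf E).left.appTop.hom

/-- The direct image of the structure sheaf. -/
abbrev pushUnit : ModEt Y := (pushModEt hf).obj (unitModEt X)

/-- Sections of the direct image of the structure sheaf. -/
def secEquiv (E : EtOver Y) :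
    letI := (piF hf E).toAlgebra
    sectModEt (pushUnit hf) E ≃ₗ[gam E] gam (bb hf E) :=
  letI := (piF hf E).toAlgebra
  { toFun := fun x => ULift.down (show ULift.{u + 1} (gam (bb hf E)) from x)
    invFun := fun x => (show sectModEt (pushUnit hf) E from ULift.up x)
    map_add' := fun _ _ => rfl
    map_smul' := fun _ _ => rfl
    left_inv := fun _ => rfl
    right_inv := fun _ => rfl }

/-- Sections of the structure sheaf as a module. -/
def unitEquiv (E : EtOver X) : sectModEt (unitModEt X) E ≃ₗ[gam E] gam E where
  toFun x := ULift.down (show ULift.{u + 1} (gam E) from x)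
  invFun x := (show sectModEt (unitModEt X) E from ULift.up x)
  map_add' _ _ := rfl
  map_smul' _ _ := rfl
  left_inv _ := rfl
  right_inv _ := rfl

theorem θ_unit {E T : EtOver X} (g : T ⟶ E) :
    letI := (pb g).toAlgebra
    ∀ t, unitEquiv T (θ (unitModEt X) g t) =
      TensorProduct.rid (gam E) (gam T) ((unitEquiv E).lTensor (gam T) t) := by
  letI := (pb g).toAlgebra
  intro t
  induction t with
  | zero => simp only [map_zero]
  | add a b ha hb => simp only [map_add, ha, hb]
  | tmul r x =>
    rw [θ_tmul, map_smul, LinearEquiv.lTensor_tmul, TensorProduct.rid_tmul]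
    exact mul_comm r (unitEquiv T (res (unitModEt X) g x))

theorem isQuasicoherent_unit : (unitModEt X).IsQuasicoherent := by
  refine isQuasicoherent_of_cartAt fun E hE T hT g => ?_
  letI := (pb g).toAlgebra
  have h : Function.Bijective ((unitEquiv T : _ → _) ∘ θ (unitModEt X) g) := by
    rw [show (unitEquiv T : _ → _) ∘ θ (unitModEt X) g =
      (TensorProduct.rid (gam E) (gam T) : _ → _) ∘ (unitEquiv E).lTensor (gam T) from funext (θ_unit g)]
    exact (TensorProduct.rid (gam E) (gam T)).bijective.comp ((unitEquiv E).lTensor (gam T)).bijective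
  exact (Function.Bijective.of_comp_iff' (unitEquiv T).bijective _).1 h

theorem isQuasicoherent_pushUnit (haff : IsAffineMor f) : (pushUnit hf).IsQuasicoherent := by
  refine isQuasicoherent_of_cartAt fun E hE T hT g => ?_
  haveI := isAffine_bc hf haff E
  haveI := isQuasicoherent_unit (X := X)
  exact cartMap_pushModEt hf g (unitModEt X) (fun _ : PUnit.{u + 1} => ⊤) (fun _ : PUnit.{u + 1} => ⊤)
    (fun _ => ⟨⟩) (fun _ => ⟨⟩) (fun _ => isAffineOpen_top _) (fun _ => isAffineOpen_top _) (fun _ => le_rfl)
    (fun _ => le_rfl) (fun _ => ⟨⟨⟩, trivial⟩) fun _ _ _ _ _ => ⟨⟨⟩, rfl, rfl, trivial⟩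

theorem exists_free_nbhd (hM : (pushUnit hf).IsQuasicoherent) (E : EtOver Y) [IsAffine E.obj.left.left]
    [Module.FinitePresentation (gam E) (sectModEt (pushUnit hf) E)]
    [Module.Flat (gam E) (sectModEt (pushUnit hf) E)] (x : ↥E.obj.left.left) :
    ∃ O : E.obj.left.left.Opens, x ∈ O ∧ IsAffine (etOpen E O).obj.left.left ∧
      Module.Free (gam (etOpen E O)) (sectModEt (pushUnit hf) (etOpen E O)) ∧
      Module.Finite (gam (etOpen E O)) (sectModEt (pushUnit hf) (etOpen E O)) := by
  let p : PrimeSpectrum (gam E) := ⟨primeAtPt E.obj.left.left x, isPrime_primeAtPt _ x⟩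
  haveI : Module.Free (Localization.AtPrime p.asIdeal)
      (LocalizedModule p.asIdeal.primeCompl (sectModEt (pushUnit hf) E)) :=
    Module.mem_freeLocus.1 (Module.freeLocus_eq_univ (R := gam E) (M := sectModEt (pushUnit hf) E) ▸ Set.mem_univ p)
  obtain ⟨r, hr, hfree, -⟩ := Module.FinitePresentation.exists_free_localizedModule_powers p.asIdeal.primeCompl
    (LocalizedModule.mkLinearMap p.asIdeal.primeCompl (sectModEt (pushUnit hf) E)) (Localization.AtPrime p.asIdeal)
  let O := E.obj.left.left.basicOpen r
  have hx : x ∈ O := by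
    rw [E.obj.left.left.mem_basicOpen r x trivial]
    by_contra h
    exact hr h
  haveI hO : IsAffine (etOpen E O).obj.left.left := (isAffineOpen_top E.obj.left.left).basicOpen r
  refine ⟨O, hx, hO, ?_⟩
  let g := etOpenι E O
  let := (pb g).toAlgebra
  have hu : IsUnit (algebraMap (gam E) (gam (etOpen E O)) r) := isUnit_appTop_of_le_basicOpen O r le_rfl
  let φ : Localization.Away r →+* gam (etOpen E O) := IsLocalization.Away.lift r hu
  let := φ.toAlgebra
  haveI : IsScalarTower (gam E) (Localization.Away r) (gam (etOpen E O)) :=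
    .of_algebraMap_eq fun a => (IsLocalization.Away.lift_eq r hu a).symm
  haveI : Module.Free (Localization.Away r) (Localization.Away r ⊗[gam E] sectModEt (pushUnit hf) E) :=
    Module.Free.of_equiv (LocalizedModule.equivTensorProduct (Submonoid.powers r) (sectModEt (pushUnit hf) E))
  have e₁ : gam (etOpen E O) ⊗[Localization.Away r] (Localization.Away r ⊗[gam E] sectModEt (pushUnit hf) E)
      ≃ₗ[gam (etOpen E O)] gam (etOpen E O) ⊗[gam E] sectModEt (pushUnit hf) E :=
    AlgebraTensorModule.cancelBaseChange (gam E) (Localization.Away r) (gam (etOpen E O)) (gam (etOpen E O)) _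
  let e₂ := e₁.trans (LinearEquiv.ofBijective (θLin (pushUnit hf) g) (θ_bijective (pushUnit hf) g))
  exact ⟨Module.Free.of_equiv e₂, Module.Finite.equiv e₂⟩

theorem isAffineMor_of_finLocFree (h : IsFinLocFreeMor f) : IsAffineMor f := fun Z hZ g => by
  have : IsFinite (h.1.snd g).left := (h.property_snd g).1
  exact ⟨h.1.pullback g, h.1.snd g, h.1.fst g, h.1.isPullback g, isAffine_of_isAffineHom (h.1.snd g).left⟩

set_option maxHeartbeats 1000000 in
set_option synthInstance.maxHeartbeats 100000 in
theorem exists_locallyFreeData (h : IsFinLocFreeMor f) :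
    ∃ q : SheafOfModules.LocalGeneratorsData.{u + 1} (pushUnit hf), q.IsLocallyFreeData ∧ q.IsFiniteType := by
  have hM := isQuasicoherent_pushUnit hf (isAffineMor_of_finLocFree h)
  let I := {E : EtOver Y // IsAffine E.obj.left.left ∧ Module.Free (gam E) (sectModEt (pushUnit hf) E) ∧
    Module.Finite (gam E) (sectModEt (pushUnit hf) E)}
  have hcov : (etTop Y).CoversTop fun i : I => i.1 := by
    intro T
    obtain ⟨ι, Z, hZ, k, -, hc⟩ := exists_affine_open_cover T
    have key : ∀ t : ↥T.obj.left.left, ∃ (i : I) (a : i.1 ⟶ T), t ∈ Set.range a.hom.left.left := fun t => by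
      obtain ⟨j, z, rfl⟩ := hc t
      have := hZ j
      have hfl : Mor2.IsFinLocFree (EtOver.bcπ hf (Z j)).left := h.property_snd (Z j).obj.hom
      obtain ⟨hfin, hflat, hfp⟩ := hfl
      haveI := isAffine_bc hf (isAffineMor_of_finLocFree h) (Z j)
      haveI : IsAffine (EtOver.bcObj hf (Z j)).obj.left.left := isAffine_bc hf (isAffineMor_of_finLocFree h) (Z j)
      haveI : IsAffine (hf.pullback (Z j).obj.hom).left := isAffine_bc hf (isAffineMor_of_finLocFree h) (Z j)
      let := (piF hf (Z j)).toAlgebra
      haveI : Module.Finite (gam (Z j)) (gam (bb hf (Z j))) :=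
        ((HasAffineProperty.iff_of_isAffine (P := @IsFinite) (f := (EtOver.bcπ hf (Z j)).left)).1 hfin).2
      haveI : Module.Flat (gam (Z j)) (gam (bb hf (Z j))) :=
        (HasRingHomProperty.appTop (P := @Flat) (EtOver.bcπ hf (Z j)).left hflat : (piF hf (Z j)).Flat)
      haveI : Algebra.FinitePresentation (gam (Z j)) (gam (bb hf (Z j))) :=
        (HasRingHomProperty.appTop (P := @LocallyOfFinitePresentation) (EtOver.bcπ hf (Z j)).left hfp :
          (piF hf (Z j)).FinitePresentation)
      haveI := Module.FinitePresentation.of_finite_of_finitePresentation (R := gam (Z j)) (S := gam (bb hf (Z j)))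
      haveI := Module.FinitePresentation.of_equiv (secEquiv hf (Z j)).symm
      haveI := Module.Flat.of_linearEquiv (secEquiv hf (Z j))
      obtain ⟨O, hzO, hO, hfree, hfinite⟩ := exists_free_nbhd hf hM (Z j) z
      obtain ⟨w, hw⟩ := (range_etOpenι (Z j) O).ge hzO
      refine ⟨⟨_, hO, hfree, hfinite⟩, etOpenι (Z j) O ≫ k j, w, ?_⟩
      show (k j).hom.left.left ((etOpenι (Z j) O).hom.left.left w) = _
      rw [hw]
    choose i a ha using key
    refine (etTop Y).superset_covering ?_ (AlgSp.ofArrows_mem_etTop _ a fun t => ⟨t, ha t⟩)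
    rw [Sieve.generate_le_iff]
    intro W m hm
    obtain ⟨t⟩ := hm
    exact ⟨i t, ⟨𝟙 _⟩⟩
  have hiso : ∀ i : I, IsIso (famMap (pushUnit hf) (U := i.1)
      (@Module.Free.chooseBasis _ _ _ _ _ i.2.2.1)) := fun i => by
    haveI := hM
    haveI := i.2.1
    exact isIso_famMap _ _ fun {T} _ a => bijective_of_basis _ _ a
  let q : SheafOfModules.LocalGeneratorsData.{u + 1} (pushUnit hf) :=
    { I := I
      X := fun i => i.1
      coversTop := hcov
      generators := fun i =>
        { I := @Module.Free.ChooseBasisIndex _ _ _ _ _ i.2.2.1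
          s := fun j => sectionsOfTop _ (@Module.Free.chooseBasis _ _ _ _ _ i.2.2.1 j)
          epi := (hiso i).epi_of_iso } }
  refine ⟨q, ({ isIso := fun i => hiso i } : q.IsLocallyFreeData), ({ isFiniteType := fun i => ⟨?_⟩ } : q.IsFiniteType)⟩
  haveI := i.2.2.2
  haveI := i.2.2.1
  show Finite (Module.Free.ChooseBasisIndex (gam i.1) (sectModEt (pushUnit hf) i.1))
  infer_instance

set_option maxHeartbeats 1000000 in
set_option synthInstance.maxHeartbeats 100000 in
theorem isFinLocFree_bc (haff : IsAffineMor f) (q : SheafOfModules.LocalGeneratorsData.{u + 1} (pushUnit hf))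
    [q.IsLocallyFreeData] [q.IsFiniteType] (E : EtOver Y) [IsAffine E.obj.left.left] :
    Mor2.IsFinLocFree (EtOver.bcπ hf E).left := by
  haveI := isQuasicoherent_pushUnit hf haff
  haveI := isAffine_bc hf haff E
  haveI : IsAffine (hf.pullback E.obj.hom).left := isAffine_bc hf haff E
  haveI : IsAffine (EtOver.bcObj hf E).obj.left.left := isAffine_bc hf haff E
  obtain ⟨ι, hι, F, hF, e, hm, hc⟩ := exists_finite_affine_cover (T := E) (Sieve.ofObjects q.X E) (q.coversTop E)
  let := fun i => (pb (e i)).toAlgebra
  have hfree : ∀ i, Module.Free (gam (F i)) (gam (F i) ⊗[gam E] sectModEt (pushUnit hf) E) ∧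
      Module.Finite (gam (F i)) (gam (F i) ⊗[gam E] sectModEt (pushUnit hf) E) := fun i => by
    obtain ⟨k, ⟨g⟩⟩ := (Sieve.mem_ofObjects_iff ..).1 (hm i)
    have := hF i
    have := (SheafOfModules.LocalGeneratorsData.IsFiniteType.isFiniteType (p := q) k).finite
    obtain ⟨h₁, h₂⟩ := free_of_generators (pushUnit hf) g (q.generators k)
    let eq := (LinearEquiv.ofBijective (θLin (pushUnit hf) (e i)) (θ_bijective (pushUnit hf) (e i))).symm
    exact ⟨Module.Free.of_equiv eq, Module.Finite.equiv eq⟩
  have hcv := isCoverAlg_of_cover F e hc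
  haveI := finitePresentation_of_cover hcv (P := sectModEt (pushUnit hf) E) fun i => by
    obtain ⟨_, _⟩ := hfree i
    exact Module.finitePresentation_of_projective _ _
  haveI := flat_of_cover hcv (P := sectModEt (pushUnit hf) E) fun i => by
    obtain ⟨_, _⟩ := hfree i
    exact Module.Flat.of_free
  let := (piF hf E).toAlgebra
  haveI : Module.FinitePresentation (gam E) (gam (bb hf E)) := Module.FinitePresentation.of_equiv (secEquiv hf E)
  haveI : Module.Flat (gam E) (gam (bb hf E)) := Module.Flat.of_linearEquiv (secEquiv hf E).symm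
  haveI : Algebra.FinitePresentation (gam E) (gam (bb hf E)) := Algebra.FinitePresentation.of_finitePresentation _ _
  refine ⟨(HasAffineProperty.iff_of_isAffine (P := @IsFinite)).2 ⟨inferInstance, ?_⟩,
    (HasRingHomProperty.iff_of_isAffine (P := @Flat)).2 ?_,
    (HasRingHomProperty.iff_of_isAffine (P := @LocallyOfFinitePresentation)).2 ?_⟩
  · show (piF hf E).Finite
    exact RingHom.finite_algebraMap.2 inferInstance
  · show (piF hf E).Flat
    exact RingHom.flat_algebraMap_iff.2 inferInstance
  · show (piF hf E).FinitePresentation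
    exact RingHom.finitePresentation_algebraMap.2 inferInstance

theorem isFinLocFreeMor_of_data (hY : IsAlgSpace Y) (haff : IsAffineMor f)
    (q : SheafOfModules.LocalGeneratorsData.{u + 1} (pushUnit hf)) [q.IsLocallyFreeData] [q.IsFiniteType] :
    IsFinLocFreeMor f := by
  haveI := EtFound.fpqc_isFinite.{u}
  haveI : IsZariskiLocalAtTarget (finLocFree : MorphismProperty Scheme.{u}) := by
    rw [AlgSpLib.finLocFree_eq]; infer_instance
  haveI : (finLocFree : MorphismProperty Scheme.{u}).DescendsAlong (@Surjective ⊓ @Flat ⊓ @QuasiCompact) := by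
    rw [AlgSpLib.finLocFree_eq]; infer_instance
  obtain ⟨U, a, ha, has⟩ := hY.atlas
  refine repWith_of_etale_cover (P := finLocFree) (fun _ _ g hg => ?_) ha has (hf.isPullback a)
    ((repWith_yon_map_iff _ _).2 ?_)
  · have : IsFinite g := hg.1
    exact inferInstanceAs (IsAffineHom g)
  let E := EtOver.mk a ha
  rw [IsZariskiLocalAtTarget.iff_of_openCover (P := finLocFree)
    (Scheme.openCoverOfIsOpenCover _ _ (iSup_affineOpens_eq_top U.left))]
  intro O
  haveI : IsAffine (etOpen E O.1).obj.left.left := O.2
  have h := isFinLocFree_bc hf haff q (etOpen E O.1)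
  have sq := (EtOver.isPullback_bcMap_left hf (etOpenι E O.1))
  exact ((finLocFree : MorphismProperty Scheme.{u}).arrow_mk_iso_iff
    (Arrow.isoMk sq.isoPullback (Iso.refl _) (by
      rw [Iso.refl_hom, Category.comp_id]
      exact IsPullback.isoPullback_hom_snd _))).1 h

end push

end Groth.Agent.EtQCoh5
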