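import Groth.Agent.EtQCoh.Descent

/-!
# A module which is locally cartesian at an affine object is cartesian there
-/

set_option backward.isDefEq.respectTransparency false
set_option backward.isDefEq.respectTransparency.types false
set_option linter.style.haveILetI false

noncomputable section

universe u

open CategoryTheory CategoryTheory.Limits AlgebraicGeometry Opposite AlgSp TensorProduct

namespace Groth.Agent.EtQCoh5

open Groth.Agent.AlgSpQ4.MV Groth.Agent.AlgSpDec Groth.Agent.EtQCoh

variable {S : Scheme.{u}} {X : Sp S} {M : ModEt X} {E T : EtOver X} (g : T ⟶ E)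

/-- The comparison map on a member of a covering. -/
def Psi {Y : EtOver X} (h : Y ⟶ T) :
    letI := (pb g).toAlgebra; letI := (pb h).toAlgebra
    gam Y ⊗[gam T] (gam T ⊗[gam E] sectModEt M E) →+ sectModEt M Y :=
  letI := (pb g).toAlgebra
  letI := (pb h).toAlgebra
  (θ M h).comp ((θLin M g).lTensor (gam Y)).toAddMonoidHom

theorem Psi_tmul {Y : EtOver X} (h : Y ⟶ T) :
    letI := (pb g).toAlgebra; letI := (pb h).toAlgebra
    ∀ (s : gam Y) (p : gam T ⊗[gam E] sectModEt M E), Psi g h (s ⊗ₜ[gam T] p) = s • res M h (θ M g p) :=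
  fun _ _ => rfl

theorem exists_Psi_eq {Y : EtOver X} (h : Y ⟶ T) :
    letI := (pb g).toAlgebra; letI := (pb h).toAlgebra; letI := (pb (h ≫ g)).toAlgebra
    ∃ c : gam Y ⊗[gam T] (gam T ⊗[gam E] sectModEt M E) ≃+ gam Y ⊗[gam E] sectModEt M E,
      ∀ z, Psi g h z = θ M (h ≫ g) (c z) := by
  let := (pb g).toAlgebra; let := (pb h).toAlgebra; let := (pb (h ≫ g)).toAlgebra
  have : IsScalarTower (gam E) (gam T) (gam Y) := .of_algebraMap_eq fun _ => rfl
  refine ⟨(AlgebraTensorModule.cancelBaseChange (gam E) (gam T) (gam Y) (gam Y) (sectModEt M E)).toAddEquiv, fun z => ?_⟩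
  induction z with
  | zero => simp only [map_zero]
  | add a b ha hb => simp only [map_add, ha, hb]
  | tmul s p =>
    rw [Psi_tmul]
    induction p with
    | zero => simp only [TensorProduct.tmul_zero, map_zero, smul_zero]
    | add a b ha hb => simp only [TensorProduct.tmul_add, map_add, smul_add, ha, hb]
    | tmul r m =>
      rw [show (AlgebraTensorModule.cancelBaseChange (gam E) (gam T) (gam Y) (gam Y) (sectModEt M E)).toAddEquiv
        (s ⊗ₜ[gam T] (r ⊗ₜ[gam E] m)) = (r • s) ⊗ₜ[gam E] m from AlgebraTensorModule.cancelBaseChange_tmul _ _ _ _ _ _,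
        θ_tmul, θ_tmul, res_smul, res_comp, Algebra.smul_def, smul_smul, mul_comm]
      rfl

theorem Psi_bijective {Y : EtOver X} (h : Y ⟶ T) (hc : CartMap M (h ≫ g)) : Function.Bijective (Psi (M := M) g h) := by
  obtain ⟨c, hcz⟩ := exists_Psi_eq (M := M) g h
  let := (pb g).toAlgebra; let := (pb h).toAlgebra; let := (pb (h ≫ g)).toAlgebra
  rw [show (Psi (M := M) g h : _ → _) = (θ M (h ≫ g) : _ → _) ∘ c from funext hcz]
  exact hc.comp c.bijective

/-- A family of affine objects covering `T`, cartesian over `E`. -/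
def LocallyCart (M : ModEt X) (E : EtOver X) : Prop :=
  ∀ (T : EtOver X) (_ : IsAffine T.obj.left.left) (g : T ⟶ E),
    ∃ (ι : Type u) (_ : Finite ι) (Y : ι → EtOver X) (_ : ∀ i, IsAffine (Y i).obj.left.left) (h : ∀ i, Y i ⟶ T),
      (∀ x : ↥T.obj.left.left, ∃ i, x ∈ Set.range (h i).hom.left.left) ∧ ∀ i, CartMap M (h i ≫ g)

variable {g}

theorem θ_injective_of_locallyCart (H : LocallyCart M E) [IsAffine T.obj.left.left] (g : T ⟶ E) :
    Function.Injective (θ M g) := by
  obtain ⟨ι, hι, Y, hY, h, hcov, hh⟩ := H T ‹_› g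
  let := (pb g).toAlgebra
  let := fun i => (pb (h i)).toAlgebra
  refine (injective_iff_map_eq_zero _).2 fun t ht => eq_zero_of_cover (isCoverAlg_of_cover Y h hcov) fun i => ?_
  apply (Psi_bijective g (h i) (hh i)).1
  rw [Psi_tmul, ht, map_zero, smul_zero, map_zero]

set_option maxHeartbeats 1000000 in
theorem cartAt_of_locallyCart (H : LocallyCart M E) : CartAt M E := by
  intro T hT g
  refine ⟨θ_injective_of_locallyCart H g, fun x => ?_⟩
  obtain ⟨ι, hι, Y, hY, h, hcov, hh⟩ := H T hT g
  let := (pb g).toAlgebra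
  let := fun i => (pb (h i)).toAlgebra
  choose t ht using fun i => (Psi_bijective g (h i) (hh i)).2 (res M (h i) x)
  have htt : ∀ m j, (TensorProduct.mk (gam T) (gam (Y j)) (gam T ⊗[gam E] sectModEt M E) 1).lTensor (gam (Y m))
      (t m) = (1 : gam (Y m)) ⊗ₜ[gam T] t j := by
    intro m j
    obtain ⟨W, hW, r, q, hw, hp, -⟩ := exists_affine_pullback (h m) (h j)
    let := (pb r).toAlgebra; let := (pb q).toAlgebra; let := (pb (r ≫ h m)).toAlgebra
    have : IsScalarTower (gam T) (gam (Y m)) (gam W) := .of_algebraMap_eq fun _ => rfl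
    have : IsScalarTower (gam T) (gam (Y j)) (gam W) := .of_algebraMap_eq fun y =>
      (DFunLike.congr_fun (congrArg pb hw) y : pb (r ≫ h m) y = pb (q ≫ h j) y)
    have := isPushout_gam hw hp
    obtain ⟨e, he⟩ := exists_pushout_tensor (gam T) (gam (Y m)) (gam (Y j)) (gam W) (gam T ⊗[gam E] sectModEt M E)
    have hinj : Function.Injective (Psi (M := M) g (r ≫ h m)) := by
      obtain ⟨c, hc⟩ := exists_Psi_eq (M := M) g (r ≫ h m)
      intro a b hab
      rw [hc, hc] at hab
      exact c.injective (θ_injective_of_locallyCart H ((r ≫ h m) ≫ g) hab)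
    have e₁ : ∀ z, Psi g (r ≫ h m) (e ((TensorProduct.mk (gam T) (gam (Y j)) (gam T ⊗[gam E] sectModEt M E) 1).lTensor
        (gam (Y m)) z)) = res M r (Psi g (h m) z) := fun z => by
      refine tensor_addHom_ext
        (f := (Psi g (r ≫ h m)).comp (e.toAddMonoidHom.comp ((TensorProduct.mk (gam T) (gam (Y j))
          (gam T ⊗[gam E] sectModEt M E) 1).lTensor (gam (Y m))).toAddMonoidHom))
        (g := (res M r).comp (Psi g (h m))) (fun s p => ?_) z
      refine (congrArg (Psi g (r ≫ h m)) (he s 1 p)).trans ?_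
      show (pb r s * pb q 1) • res M (r ≫ h m) (θ M g p) = res M r (s • res M (h m) (θ M g p))
      rw [map_one, mul_one, res_smul, res_comp]
    have e₂ : ∀ z, Psi g (r ≫ h m) (e ((1 : gam (Y m)) ⊗ₜ[gam T] z)) = res M q (Psi g (h j) z) := fun z => by
      refine tensor_addHom_ext
        (f := (Psi g (r ≫ h m)).comp (e.toAddMonoidHom.comp
          (TensorProduct.mk (gam T) (gam (Y m)) (gam (Y j) ⊗[gam T] (gam T ⊗[gam E] sectModEt M E)) 1).toAddMonoidHom))
        (g := (res M q).comp (Psi g (h j))) (fun s p => ?_) z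
      refine (congrArg (Psi g (r ≫ h m)) (he 1 s p)).trans ?_
      show (pb r 1 * pb q s) • res M (r ≫ h m) (θ M g p) = res M q (s • res M (h j) (θ M g p))
      rw [map_one, one_mul, res_smul, hw, res_comp]
    apply e.injective
    apply hinj
    rw [e₁, e₂, ht, ht, ← res_comp, ← res_comp, hw]
  obtain ⟨p, hp⟩ := amitsur (isCoverAlg_of_cover Y h hcov) t htt
  refine ⟨p, sect_ext' M Y h hcov fun i => ?_⟩
  rw [← ht, ← hp, Psi_tmul, one_smul]

end Groth.Agent.EtQCoh5
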