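import Groth.Agent.EtQCoh5.Dense
import Groth.Agent.EtQCoh.Basic
import Mathlib.AlgebraicGeometry.Morphisms.ClosedImmersion

/-!
# Direct images of modules along closed immersions are fully faithful
-/

set_option backward.isDefEq.respectTransparency false
set_option backward.isDefEq.respectTransparency.types false

noncomputable section

universe u

open CategoryTheory CategoryTheory.Limits AlgebraicGeometry Opposite AlgSp

namespace Groth.Agent.EtQCoh5

open Groth.Agent.AlgSpQ4.MV Groth.Agent.AlgSpDec Groth.Agent.EtQCoh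

variable {S : Scheme.{u}} {Z X : Sp S} {i : Z ⟶ X} (hi : RepWith @IsClosedImmersion i) (hX : IsAlgSpace X)

include hi hX

theorem exists_bc_affine_cover (V : EtOver Z) :
    ∃ (ι : Type u) (E : ι → EtOver X) (_ : ∀ j, IsAffine (E j).obj.left.left)
      (l : ∀ j, (EtOver.bc hi.1).obj (E j) ⟶ V),
      ∀ v : ↥V.obj.left.left, ∃ j, v ∈ Set.range (l j).hom.left.left := by
  have key : ∀ v : ↥V.obj.left.left, ∃ (E : EtOver X) (_ : IsAffine E.obj.left.left)
      (l : (EtOver.bc hi.1).obj E ⟶ V), v ∈ Set.range l.hom.left.left := fun v => by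
    obtain ⟨E, l, w, hw⟩ := exists_bc_nbhd (intUnivInj_of_closedImmersion hi) hX V v
    obtain ⟨O, hO, hwO, -⟩ := exists_isAffineOpen_mem_and_subset (U := (⊤ : E.obj.left.left.Opens))
      (x := (hi.1.snd E.obj.hom).left w) trivial
    refine ⟨etOpen E O, hO, (EtOver.bc hi.1).map (etOpenι E O) ≫ l, ?_⟩
    obtain ⟨y, hy⟩ := (range_etOpenι E O).ge hwO
    obtain ⟨z, hz, -⟩ := Scheme.exists_preimage_of_isPullback (EtOver.isPullback_bcMap_left hi.1 (etOpenι E O)) w y hy.symm
    refine ⟨z, ?_⟩
    show l.hom.left.left ((EtOver.bcMap hi.1 (etOpenι E O)).hom.left.left z) = v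
    rw [hz, hw]
  choose E hE l hl using key
  exact ⟨_, E, hE, l, fun v => ⟨v, hl v⟩⟩

theorem pushModEt_faithful : (pushModEt hi.1).Faithful where
  map_injective {G G'} φ ψ hφψ := by
    refine SheafOfModules.hom_ext (PresheafOfModules.hom_ext fun ⟨V⟩ => ?_)
    refine ModuleCat.hom_ext (LinearMap.ext fun x => ?_)
    obtain ⟨ι, E, -, l, hc⟩ := exists_bc_affine_cover hi hX V
    refine sect_ext' G' _ l hc (s := φ.val.app (op V) x) (t := ψ.val.app (op V) x) fun j => ?_
    rw [← app_res, ← app_res]
    exact congrArg (fun k : (pushModEt hi.1).obj G ⟶ (pushModEt hi.1).obj G' =>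
      k.val.app (op (E j)) (res G (l j) x)) hφψ

set_option maxHeartbeats 1000000 in
theorem pushModEt_full : (pushModEt hi.1).Full where
  map_surjective {G G'} α := by
    obtain ⟨h₁, -⟩ := pushEt_full_faithful (intUnivInj_of_closedImmersion hi) hX AddCommGrpCat.{u + 1}
    let FG : AbEt Z := (SheafOfModules.toSheaf.{u + 1} (OEtRing Z)).obj G
    let FG' : AbEt Z := (SheafOfModules.toSheaf.{u + 1} (OEtRing Z)).obj G'
    let αs : (pushEt hi.1 AddCommGrpCat.{u + 1}).obj FG ⟶ (pushEt hi.1 AddCommGrpCat.{u + 1}).obj FG' :=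
      (SheafOfModules.toSheaf.{u + 1} (OEtRing X)).map α
    obtain ⟨β, hβ⟩ := (pushEt hi.1 AddCommGrpCat.{u + 1}).map_surjective αs
    let b : ∀ V : EtOver Z, sectModEt G V →+ sectModEt G' V := fun V => (β.hom.app (op V)).hom
    have hres : ∀ {V W : EtOver Z} (g : W ⟶ V) (x : sectModEt G V), b W (res G g x) = res G' g (b V x) :=
      fun g x => ConcreteCategory.congr_hom (β.hom.naturality g.op) x
    have hb : ∀ (E : EtOver X) (x : sectModEt ((pushModEt hi.1).obj G) E),
        b ((EtOver.bc hi.1).obj E) x = α.val.app (op E) x := fun E x =>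
      congrArg (fun k : (pushEt hi.1 AddCommGrpCat.{u + 1}).obj FG ⟶ (pushEt hi.1 AddCommGrpCat.{u + 1}).obj FG' =>
        k.hom.app (op E) x) hβ
    have hlin : ∀ (V : EtOver Z) (a : gam V) (x : sectModEt G V), b V (a • x) = a • b V x := by
      intro V a x
      obtain ⟨ι, E, hE, l, hc⟩ := exists_bc_affine_cover hi hX V
      refine sect_ext' G' _ l hc fun j => ?_
      rw [← hres, res_smul, res_smul, ← hres]
      have : IsAffine (E j).obj.left.left := hE j
      have : IsClosedImmersion (hi.1.snd (E j).obj.hom).left := hi.property_snd _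
      obtain ⟨-, hs⟩ := IsClosedImmersion.isAffine_surjective_of_isAffine (f := (hi.1.snd (E j).obj.hom).left)
      obtain ⟨c, hc'⟩ := hs (pb (l j) a)
      rw [← hc']
      have h₂ : ∀ y : sectModEt ((pushModEt hi.1).obj G) (E j), α.val.app (op (E j)) (c • y) = c • α.val.app (op (E j)) y :=
        fun y => app_smul α c y
      exact (hb (E j) (c • (show sectModEt ((pushModEt hi.1).obj G) (E j) from res G (l j) x))).trans
        ((h₂ _).trans (congrArg (fun z : sectModEt ((pushModEt hi.1).obj G') (E j) => c • z) (hb (E j) _).symm))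
    let γ : G ⟶ G' :=
      { val := PresheafOfModules.homMk β.hom (fun V r x => hlin V.unop (ULift.down r) x) }
    refine ⟨γ, SheafOfModules.hom_ext (PresheafOfModules.hom_ext fun ⟨E⟩ => ModuleCat.hom_ext (LinearMap.ext fun x => ?_))⟩
    exact hb E x

end Groth.Agent.EtQCoh5
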