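import Groth.Agent.EtQCoh5.Supp
import Groth.Agent.EtQCoh5.PushFF
import Groth.Agent.EtQCoh5.LocalCart
import Groth.Agent.EtQCoh5.Converse
import Groth.Agent.AlgSpDec.IdealEt

/-!
# Modules annihilated by the ideal of a closed immersion
-/

set_option backward.isDefEq.respectTransparency false
set_option backward.isDefEq.respectTransparency.types false
set_option linter.style.haveILetI false

noncomputable section

universe u

open CategoryTheory CategoryTheory.Limits AlgebraicGeometry Opposite AlgSp TensorProduct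

namespace Groth.Agent.EtQCoh5

open Groth.Agent.AlgSpQ4.MV Groth.Agent.AlgSpDec Groth.Agent.EtQCoh Groth.Agent.AlgSpLib

variable {S : Scheme.{u}} {Z X : Sp S} {i : Z ⟶ X} (hi : RepWith @IsClosedImmersion i)

/-- Base change of objects. -/
abbrev bo (E : EtOver X) : EtOver Z := (EtOver.bc hi.1).obj E

/-- Functions restricted to the base change. -/
def piB (E : EtOver X) : gam E →+* gam (bo hi E) := (EtOver.bcπ hi.1 E).left.appTop.hom

theorem piB_naturality {E T : EtOver X} (g : T ⟶ E) (a : gam E) :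
    pb ((EtOver.bc hi.1).map g) (piB hi E a) = piB hi T (pb g a) := by
  have h := congrArg (fun k => k.left.appTop.hom a) (EtOver.bcMap_snd hi.1 g)
  simp only [Over.comp_left, Scheme.Hom.comp_appTop, CommRingCat.comp_apply] at h
  exact h

theorem isAffine_bo (E : EtOver X) [IsAffine E.obj.left.left] :
    IsAffine (bo hi E).obj.left.left ∧ Function.Surjective (piB hi E) := by
  have : IsClosedImmersion (hi.1.snd E.obj.hom).left := hi.property_snd _
  exact IsClosedImmersion.isAffine_surjective_of_isAffine (f := (hi.1.snd E.obj.hom).left)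

theorem smul_push (G : ModEt Z) (E : EtOver X) (a : gam E) (x : sectModEt ((pushModEt hi.1).obj G) E) :
    a • x = piB hi E a • (show sectModEt G (bo hi E) from x) := rfl

theorem res_push (G : ModEt Z) {E T : EtOver X} (g : T ⟶ E) (x : sectModEt ((pushModEt hi.1).obj G) E) :
    res ((pushModEt hi.1).obj G) g x = res G ((EtOver.bc hi.1).map g) x := rfl

theorem isPushout_bo {E T : EtOver X} [IsAffine E.obj.left.left] [IsAffine T.obj.left.left] (g : T ⟶ E) :
    letI := (pb g).toAlgebra; letI := (piB hi E).toAlgebra; letI := (piB hi T).toAlgebra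
    letI := (pb ((EtOver.bc hi.1).map g)).toAlgebra
    letI := ((piB hi T).comp (pb g)).toAlgebra
    haveI : IsScalarTower (gam E) (gam T) (gam (bo hi T)) := .of_algebraMap_eq fun _ => rfl
    haveI : IsScalarTower (gam E) (gam (bo hi E)) (gam (bo hi T)) :=
      .of_algebraMap_eq fun a => (piB_naturality hi g a).symm
    Algebra.IsPushout (gam E) (gam T) (gam (bo hi E)) (gam (bo hi T)) := by
  let := (pb g).toAlgebra; let := (piB hi E).toAlgebra; let := (piB hi T).toAlgebra
  let := (pb ((EtOver.bc hi.1).map g)).toAlgebra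
  let := ((piB hi T).comp (pb g)).toAlgebra
  haveI : IsScalarTower (gam E) (gam T) (gam (bo hi T)) := .of_algebraMap_eq fun _ => rfl
  haveI : IsScalarTower (gam E) (gam (bo hi E)) (gam (bo hi T)) :=
    .of_algebraMap_eq fun a => (piB_naturality hi g a).symm
  haveI : IsAffine (hi.1.pullback E.obj.hom).left := (isAffine_bo hi E).1
  haveI : IsAffine (bo hi E).obj.left.left := (isAffine_bo hi E).1
  exact (CommRingCat.isPushout_iff_isPushout (R := gam E) (S := gam (bo hi E)) (R' := gam T)
    (S' := gam (bo hi T))).mp (isPushout_appTop_of_isPullback (EtOver.isPullback_bcMap_left hi.1 g).flip)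

theorem cartMap_bo (G : ModEt Z) {E T : EtOver X} [IsAffine E.obj.left.left] [IsAffine T.obj.left.left] (g : T ⟶ E)
    (h : CartMap ((pushModEt hi.1).obj G) g) : CartMap G ((EtOver.bc hi.1).map g) := by
  let := (pb g).toAlgebra; let := (piB hi E).toAlgebra; let := (piB hi T).toAlgebra
  let := (pb ((EtOver.bc hi.1).map g)).toAlgebra
  let := ((piB hi T).comp (pb g)).toAlgebra
  let : Module (gam E) (sectModEt G (bo hi E)) := Module.compHom _ (piB hi E)
  haveI : IsScalarTower (gam E) (gam T) (gam (bo hi T)) := .of_algebraMap_eq fun _ => rfl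
  haveI : IsScalarTower (gam E) (gam (bo hi E)) (gam (bo hi T)) :=
    .of_algebraMap_eq fun a => (piB_naturality hi g a).symm
  haveI : IsScalarTower (gam E) (gam (bo hi E)) (sectModEt G (bo hi E)) := ⟨fun a b x => by
    show (piB hi E a * b) • x = piB hi E a • b • x
    rw [mul_smul]⟩
  haveI := isPushout_bo hi g
  let c := Algebra.IsPushout.cancelBaseChange (gam E) (gam T) (gam (bo hi E)) (gam (bo hi T)) (sectModEt G (bo hi E))
  let idE : sectModEt ((pushModEt hi.1).obj G) E ≃ₗ[gam E] sectModEt G (bo hi E) :=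
    { toFun := fun x => x
      invFun := fun x => x
      map_add' := fun _ _ => rfl
      map_smul' := fun a x => smul_push hi G E a x
      left_inv := fun _ => rfl
      right_inv := fun _ => rfl }
  let d := (idE.lTensor (gam T)).toAddEquiv.trans c.symm.toAddEquiv
  have key : ∀ t, θ ((pushModEt hi.1).obj G) g t = θ G ((EtOver.bc hi.1).map g) (d t) := fun t => by
    refine tensor_addHom_ext (f := θ ((pushModEt hi.1).obj G) g)
      (g := (θ G ((EtOver.bc hi.1).map g)).comp d.toAddMonoidHom) (fun r x => ?_) t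
    show θ ((pushModEt hi.1).obj G) g (r ⊗ₜ[gam E] x) = θ G ((EtOver.bc hi.1).map g) (c.symm (r ⊗ₜ[gam E] idE x))
    rw [Algebra.IsPushout.cancelBaseChange_symm_tmul, θ_tmul, θ_tmul]
    exact smul_push hi G T r _
  have h' : Function.Bijective ((θ G ((EtOver.bc hi.1).map g) : _ → _) ∘ d) := by
    rw [← (funext key : _ = (θ G ((EtOver.bc hi.1).map g) : _ → _) ∘ d)]
    exact h
  exact (Function.Bijective.of_comp_iff (θ G ((EtOver.bc hi.1).map g)) d.bijective).1 h'

variable (hX : IsAlgSpace X)

include hX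

theorem locallyCart_bo (G : ModEt Z) (hG : ((pushModEt hi.1).obj G).IsQuasicoherent) (E : EtOver X)
    [IsAffine E.obj.left.left] : LocallyCart G (bo hi E) := by
  intro T hT g
  have key : ∀ t : ↥T.obj.left.left, ∃ (E' : EtOver X) (_ : IsAffine E'.obj.left.left) (k : E' ⟶ E)
      (l : bo hi E' ⟶ T), l ≫ g = (EtOver.bc hi.1).map k ∧ t ∈ Set.range l.hom.left.left := fun t => by
    obtain ⟨E', k, l, hl, w, hw⟩ := exists_split (intUnivInj_of_closedImmersion hi) E g t
    obtain ⟨O, hO, hwO, -⟩ := exists_isAffineOpen_mem_and_subset (U := (⊤ : E'.obj.left.left.Opens))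
      (x := (hi.1.snd E'.obj.hom).left w) trivial
    refine ⟨etOpen E' O, hO, etOpenι E' O ≫ k, (EtOver.bc hi.1).map (etOpenι E' O) ≫ l,
      by rw [Category.assoc, hl, Functor.map_comp], ?_⟩
    obtain ⟨y, hy⟩ := (range_etOpenι E' O).ge hwO
    obtain ⟨z, hz, -⟩ := Scheme.exists_preimage_of_isPullback (EtOver.isPullback_bcMap_left hi.1 (etOpenι E' O)) w y hy.symm
    refine ⟨z, ?_⟩
    show l.hom.left.left ((EtOver.bcMap hi.1 (etOpenι E' O)).hom.left.left z) = t
    rw [hz, hw]
  choose E' hE' k l hl ht using key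
  have hopen : ∀ t, IsOpen (Set.range (l t).hom.left.left) := fun t => by
    have : Etale (l t).hom.left.left := EtOver.etale_left _
    exact (l t).hom.left.left.isOpenMap.isOpen_range
  obtain ⟨s, hs⟩ := (isAffineOpen_top T.obj.left.left).isCompact.elim_finite_subcover _ hopen
    fun x _ => Set.mem_iUnion.2 ⟨x, ht x⟩
  refine ⟨↥s, Finite.of_fintype _, fun t => bo hi (E' t), fun t => (@isAffine_bo _ _ _ _ hi (E' t) (hE' t)).1,
    fun t => l t, fun x => ?_, fun t => ?_⟩
  · simp only [Set.subset_def, Set.mem_iUnion] at hs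
    obtain ⟨y, hy, hx⟩ := hs x trivial
    exact ⟨⟨y, hy⟩, hx⟩
  · have := hE' t
    rw [hl]
    have := hG
    exact cartMap_bo hi G (k t) (cartAt _ E (E' t) (hE' t) (k t))

theorem isQuasicoherent_of_push (G : ModEt Z) (hG : ((pushModEt hi.1).obj G).IsQuasicoherent) :
    G.IsQuasicoherent := by
  refine isQuasicoherent_of_cartAt fun V hV => ?_
  obtain ⟨ι, E, hE, l, hc⟩ := exists_bc_affine_cover hi hX V
  obtain ⟨ι', hι', F, hF, e, hm, hcov⟩ := exists_cover_of_sieve (T := V)
    (fun W a => ∃ (j : ι) (b : W ⟶ bo hi (E j)), b ≫ l j = a)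
    (fun W W' a b ⟨j, c, hc⟩ => ⟨j, b ≫ c, by rw [Category.assoc, hc]⟩) (fun x => by
      obtain ⟨j, hj⟩ := hc x
      exact ⟨_, l j, hj, j, 𝟙 _, Category.id_comp _⟩)
  refine cartAt_of_cover F e hcov fun q => ?_
  obtain ⟨j, b, -⟩ := hm q
  have := hE j
  exact cartAt_of_map (hF q) (cartAt_of_locallyCart (locallyCart_bo hi hX G hG (E j))) b

omit hX

/-- The ideal of the immersion kills the sections over affine objects. -/
def Kills (F : ModEt X) : Prop :=
  ∀ (E : EtOver X) (_ : IsAffine E.obj.left.left) (a : gam E) (x : sectModEt F E), piB hi E a = 0 → a • x = 0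

theorem kills_push (G : ModEt Z) : Kills hi ((pushModEt hi.1).obj G) := fun E _ a x h =>
  (smul_push hi G E a x).trans ((congrArg (fun b : gam (bo hi E) => b • (show sectModEt G (bo hi E) from x)) h).trans
    (zero_smul (gam (bo hi E)) (show sectModEt G (bo hi E) from x)))

section action

variable {F : ModEt X} (hF : Kills hi F)

/-- The action of a function on the base change. -/
def MuRel (E : EtOver X) (r : gam (bo hi E)) (x y : sectModEt F E) : Prop :=
  ∀ (T : EtOver X) (_ : IsAffine T.obj.left.left) (g : T ⟶ E) (c : gam T),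
    piB hi T c = pb ((EtOver.bc hi.1).map g) r → res F g y = c • res F g x

theorem muRel_unique {E : EtOver X} {r : gam (bo hi E)} {x y y' : sectModEt F E} (h : MuRel hi E r x y)
    (h' : MuRel hi E r x y') : y = y' := by
  obtain ⟨ι, Y, hY, g, -, hc⟩ := exists_affine_open_cover E
  refine sect_ext' F Y g hc fun j => ?_
  have := hY j
  obtain ⟨c, hcj⟩ := (isAffine_bo hi (Y j)).2 (pb ((EtOver.bc hi.1).map (g j)) r)
  rw [h _ (hY j) (g j) c hcj, h' _ (hY j) (g j) c hcj]

include hF

theorem muRel_compat {E T₁ T₂ W : EtOver X} {r : gam (bo hi E)} (x : sectModEt F E) (g₁ : T₁ ⟶ E) (g₂ : T₂ ⟶ E)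
    {c₁ : gam T₁} {c₂ : gam T₂} (h₁ : piB hi T₁ c₁ = pb ((EtOver.bc hi.1).map g₁) r)
    (h₂ : piB hi T₂ c₂ = pb ((EtOver.bc hi.1).map g₂) r) (a : W ⟶ T₁) (b : W ⟶ T₂) (hab : a ≫ g₁ = b ≫ g₂) :
    res F a (c₁ • res F g₁ x) = res F b (c₂ • res F g₂ x) := by
  obtain ⟨κ, Y, hY, k, -, hcov⟩ := exists_affine_open_cover W
  refine sect_ext' F Y k hcov fun j => ?_
  rw [← res_comp, ← res_comp, res_smul, res_smul, ← res_comp, ← res_comp, Category.assoc, Category.assoc, hab,
    ← sub_eq_zero, ← sub_smul]
  refine hF _ (hY j) _ _ ?_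
  rw [map_sub, ← piB_naturality, ← piB_naturality, h₁, h₂, ← pb_comp, ← pb_comp, ← Functor.map_comp,
    ← Functor.map_comp, Category.assoc, Category.assoc, hab, sub_self]

/-- The affine test objects of a function on the base change. -/
def MuIdx (E : EtOver X) (r : gam (bo hi E)) : Type (u + 1) :=
  {p : Σ T : EtOver X, (T ⟶ E) × gam T //
    IsAffine p.1.obj.left.left ∧ piB hi p.1 p.2.2 = pb ((EtOver.bc hi.1).map p.2.1) r}

omit hF in
theorem exists_muIdx_cover (E : EtOver X) (r : gam (bo hi E)) (z : ↥E.obj.left.left) :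
    ∃ q : MuIdx hi E r, z ∈ Set.range q.1.2.1.hom.left.left := by
  obtain ⟨κ, Y, hY, g, -, hcov⟩ := exists_affine_open_cover E
  obtain ⟨j, hj⟩ := hcov z
  have := hY j
  obtain ⟨c, hcj⟩ := (isAffine_bo hi (Y j)).2 (pb ((EtOver.bc hi.1).map (g j)) r)
  exact ⟨⟨⟨Y j, g j, c⟩, hY j, hcj⟩, hj⟩

theorem exists_muRel (E : EtOver X) (r : gam (bo hi E)) (x : sectModEt F E) : ∃ y, MuRel hi E r x y := by
  obtain ⟨y, hy⟩ := exists_glue F (fun q : MuIdx hi E r => q.1.1) (fun q => q.1.2.1) (exists_muIdx_cover hi E r)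
    (fun q => q.1.2.2 • res F q.1.2.1 x)
    (fun p q W a b hab => muRel_compat hi hF x p.1.2.1 q.1.2.1 p.2.2 q.2.2 a b hab)
  exact ⟨y, fun T hT g c hcr => hy ⟨⟨T, g, c⟩, hT, hcr⟩⟩

/-- Multiplication by a function on the base change. -/
def muF (E : EtOver X) (r : gam (bo hi E)) (x : sectModEt F E) : sectModEt F E := (exists_muRel hi hF E r x).choose

theorem muF_spec (E : EtOver X) (r : gam (bo hi E)) (x : sectModEt F E) : MuRel hi E r x (muF hi hF E r x) :=
  (exists_muRel hi hF E r x).choose_spec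

theorem muF_eq {E : EtOver X} {r : gam (bo hi E)} {x y : sectModEt F E} (h : MuRel hi E r x y) :
    muF hi hF E r x = y :=
  muRel_unique hi (muF_spec hi hF E r x) h

theorem muF_one (E : EtOver X) (x : sectModEt F E) : muF hi hF E 1 x = x :=
  muF_eq hi hF fun T hT g c h => by
    rw [eq_comm, ← sub_eq_zero]
    nth_rw 2 [← one_smul (gam T) (res F g x)]
    rw [← sub_smul]
    exact hF T hT _ _ (by rw [map_sub, h, map_one, map_one, sub_self])

theorem muF_zero (E : EtOver X) (x : sectModEt F E) : muF hi hF E 0 x = 0 :=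
  muF_eq hi hF fun T hT g c h => by
    rw [map_zero, eq_comm]
    exact hF T hT _ _ (by rw [h, map_zero])

theorem muF_add (E : EtOver X) (r r' : gam (bo hi E)) (x : sectModEt F E) :
    muF hi hF E (r + r') x = muF hi hF E r x + muF hi hF E r' x :=
  muF_eq hi hF fun T hT g c h => by
    obtain ⟨c₁, hc₁⟩ := (isAffine_bo hi T).2 (pb ((EtOver.bc hi.1).map g) r)
    rw [map_add, muF_spec hi hF E r x T hT g c₁ hc₁, muF_spec hi hF E r' x T hT g (c - c₁)
      (by rw [map_sub, h, map_add, hc₁, add_sub_cancel_left]), ← add_smul, add_sub_cancel]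

theorem muF_mul (E : EtOver X) (r r' : gam (bo hi E)) (x : sectModEt F E) :
    muF hi hF E (r * r') x = muF hi hF E r (muF hi hF E r' x) :=
  muF_eq hi hF fun T hT g c h => by
    obtain ⟨c₁, hc₁⟩ := (isAffine_bo hi T).2 (pb ((EtOver.bc hi.1).map g) r)
    obtain ⟨c₂, hc₂⟩ := (isAffine_bo hi T).2 (pb ((EtOver.bc hi.1).map g) r')
    rw [muF_spec hi hF E r _ T hT g c₁ hc₁, muF_spec hi hF E r' x T hT g c₂ hc₂, smul_smul, ← sub_eq_zero, ← sub_smul]
    exact hF T hT _ _ (by rw [map_sub, map_mul, hc₁, hc₂, h, map_mul, sub_self])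

theorem muF_add_right (E : EtOver X) (r : gam (bo hi E)) (x x' : sectModEt F E) :
    muF hi hF E r (x + x') = muF hi hF E r x + muF hi hF E r x' :=
  muF_eq hi hF fun T hT g c h => by
    rw [map_add, map_add, smul_add, muF_spec hi hF E r x T hT g c h, muF_spec hi hF E r x' T hT g c h]

theorem muF_res {E E' : EtOver X} (g : E' ⟶ E) (r : gam (bo hi E)) (x : sectModEt F E) :
    muF hi hF E' (pb ((EtOver.bc hi.1).map g) r) (res F g x) = res F g (muF hi hF E r x) :=
  muF_eq hi hF fun T hT k c h => by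
    rw [← res_comp, ← res_comp]
    exact muF_spec hi hF E r x T hT (k ≫ g) c (by rw [h, ← pb_comp, Functor.map_comp])

theorem muF_piB (E : EtOver X) (a : gam E) (x : sectModEt F E) : muF hi hF E (piB hi E a) x = a • x :=
  muF_eq hi hF fun T hT g c h => by
    rw [res_smul, ← sub_eq_zero, ← sub_smul]
    exact hF T hT _ _ (by rw [map_sub, h, piB_naturality, sub_self])

end action

section construction

variable {F : ModEt X} (hF : Kills hi F)

include hX hF

theorem subsingleton_out {E : EtOver X} (hE : Out i E) : Subsingleton (sectModEt F E) := by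
  obtain ⟨ι, Y, hY, g, -, hc⟩ := exists_affine_open_cover E
  refine ⟨fun s t => sect_ext' F Y g hc fun j => ?_⟩
  haveI := isEmpty_bc_of_out hi.1 (Y j) (out_of_hom (g j) hE)
  have hzero : ∀ x : sectModEt F (Y j), x = 0 := fun x => by
    have h1 : piB hi (Y j) 1 = 0 := Subsingleton.elim _ _
    rw [← one_smul (gam (Y j)) x]
    exact hF _ (hY j) 1 x h1
  rw [hzero (res F (g j) s), hzero (res F (g j) t)]

theorem exists_sheaf : ∃ FG : AbEt Z,
    Nonempty ((pushEt hi.1 AddCommGrpCat.{u + 1}).obj FG ≅ (SheafOfModules.toSheaf.{u + 1} (OEtRing X)).obj F) :=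
  (essImage_pushEt_ab (intUnivInj_of_closedImmersion hi) hX _).2 fun _ hE => subsingleton_out hi hX hF hE

end construction

section model

variable {F : ModEt X} (FG : AbEt Z)
  (e : (pushEt hi.1 AddCommGrpCat.{u + 1}).obj FG ≅ (SheafOfModules.toSheaf.{u + 1} (OEtRing X)).obj F)

/-- Sections of the model are sections of the module. -/
def eE (E : EtOver X) : ↥(FG.obj.obj (op (bo hi E))) ≃+ sectModEt F E :=
  (((sheafToPresheaf _ _).mapIso e).app (op E)).addCommGroupIsoToAddEquiv

theorem eE_res {E E' : EtOver X} (g : E' ⟶ E) (y : ↥(FG.obj.obj (op (bo hi E)))) :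
    eE hi FG e E' (FG.obj.map ((EtOver.bc hi.1).map g).op y) = res F g (eE hi FG e E y) :=
  ConcreteCategory.congr_hom (((sheafToPresheaf _ _).mapIso e).hom.naturality g.op) y

/-- Functions times sections. -/
def pairs : (EtOver Z)ᵒᵖ ⥤ Type (u + 1) where
  obj V := gam V.unop × ↥(FG.obj.obj V)
  map g := TypeCat.ofHom fun p => (pb g.unop p.1, FG.obj.map g p.2)
  map_id V := by
    ext p
    · rfl
    · show FG.obj.map (𝟙 V) p.2 = p.2
      rw [FG.obj.map_id]
      rfl
  map_comp g h := by
    ext p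
    · rfl
    · show FG.obj.map (g ≫ h) p.2 = FG.obj.map h (FG.obj.map g p.2)
      rw [FG.obj.map_comp]
      rfl

theorem pairs_hom_res (φ : pairs FG ⟶ ((sheafCompose (etTop Z) (CategoryTheory.forget AddCommGrpCat.{u + 1})).obj FG).obj)
    {V W : EtOver Z} (g : W ⟶ V) (r : gam V) (y : ↥(FG.obj.obj (op V))) :
    FG.obj.map g.op (φ.app (op V) (show (pairs FG).obj (op V) from ((r, y) : gam V × ↥(FG.obj.obj (op V))))) =
      φ.app (op W) (show (pairs FG).obj (op W) from ((pb g r, FG.obj.map g.op y) : gam W × ↥(FG.obj.obj (op W)))) :=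
  by
  let p : (pairs FG).obj (op V) := ((r, y) : gam V × ↥(FG.obj.obj (op V)))
  have h := NatTrans.naturality_apply φ g.op p
  exact h.symm

variable (hF : Kills hi F)

include hF

/-- The action on base changes. -/
def alpha : (EtOver.bc hi.1).op ⋙ pairs FG ⟶
    (EtOver.bc hi.1).op ⋙ ((sheafCompose (etTop Z) (CategoryTheory.forget AddCommGrpCat.{u + 1})).obj FG).obj where
  app E := TypeCat.ofHom fun p => (eE hi FG e E.unop).symm (muF hi hF E.unop p.1 (eE hi FG e E.unop p.2))
  naturality {E E'} g := by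
    ext p
    show (eE hi FG e E'.unop).symm (muF hi hF E'.unop (pb ((EtOver.bc hi.1).map g.unop) p.1)
      (eE hi FG e E'.unop (FG.obj.map ((EtOver.bc hi.1).map g.unop).op p.2))) =
      FG.obj.map ((EtOver.bc hi.1).map g.unop).op ((eE hi FG e E.unop).symm (muF hi hF E.unop p.1 (eE hi FG e E.unop p.2)))
    rw [AddEquiv.symm_apply_eq, eE_res, eE_res, AddEquiv.apply_symm_apply, muF_res]

include hX

/-- The action of functions. -/
def actHom : pairs FG ⟶ ((sheafCompose (etTop Z) (CategoryTheory.forget AddCommGrpCat.{u + 1})).obj FG).obj :=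
  haveI := isCoverDense_bc (intUnivInj_of_closedImmersion hi) hX
  haveI := isLocallyFull_bc (intUnivInj_of_closedImmersion hi)
  Functor.IsCoverDense.Types.presheafHom (alpha hi FG e hF)

/-- The action of a function on a section. -/
def act {V : EtOver Z} (r : gam V) (y : ↥(FG.obj.obj (op V))) : ↥(FG.obj.obj (op V)) :=
  (actHom hi hX FG e hF).app (op V) (show (pairs FG).obj (op V) from ((r, y) : gam V × ↥(FG.obj.obj (op V))))

theorem act_res {V W : EtOver Z} (g : W ⟶ V) (r : gam V) (y : ↥(FG.obj.obj (op V))) :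
    FG.obj.map g.op (act hi hX FG e hF r y) = act hi hX FG e hF (pb g r) (FG.obj.map g.op y) :=
  pairs_hom_res FG (actHom hi hX FG e hF) g r y

theorem act_bo (E : EtOver X) (r : gam (bo hi E)) (y : ↥(FG.obj.obj (op (bo hi E)))) :
    eE hi FG e E (act hi hX FG e hF r y) = muF hi hF E r (eE hi FG e E y) := by
  haveI := isCoverDense_bc (intUnivInj_of_closedImmersion hi) hX
  haveI := isLocallyFull_bc (intUnivInj_of_closedImmersion hi)
  have h := Functor.IsCoverDense.Types.appHom_restrict (alpha hi FG e hF) (X := bo hi E) (Y := E) (𝟙 _)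
    (show (pairs FG).obj (op (bo hi E)) from ((r, y) : gam (bo hi E) × ↥(FG.obj.obj (op (bo hi E)))))
  erw [CategoryTheory.Functor.map_id, CategoryTheory.Functor.map_id, types_id_apply, types_id_apply] at h
  rw [← AddEquiv.eq_symm_apply]
  exact h

theorem act_axiom {V : EtOver Z} (a b : ↥(FG.obj.obj (op V))) (h : ∀ (E : EtOver X) (l : bo hi E ⟶ V),
    eE hi FG e E (FG.obj.map l.op a) = eE hi FG e E (FG.obj.map l.op b)) : a = b := by
  obtain ⟨ι, E, -, l, hc⟩ := exists_bc_affine_cover hi hX V
  have hsh := (isSheaf_iff_isSheaf_of_type _ _).1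
    ((Presheaf.isSheaf_iff_isSheaf_forget _ FG.obj (CategoryTheory.forget AddCommGrpCat.{u + 1})).1 FG.property)
  have hs := (Presieve.isSheafFor_iff_generate (Presieve.ofArrows _ l)).2 (hsh _ (AlgSp.ofArrows_mem_etTop _ l hc))
  refine hs.isSeparatedFor.ext fun W f hf => ?_
  cases hf with
  | mk j => exact (eE hi FG e (E j)).injective (h (E j) (l j))

/-- The module structure. -/
@[implicit_reducible]
def actModule (V : EtOver Z) : Module (gam V) ↥(FG.obj.obj (op V)) where
  smul r y := act hi hX FG e hF r y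
  one_smul y := act_axiom hi hX FG e hF _ _ fun E l => by
    show eE hi FG e E (FG.obj.map l.op (act hi hX FG e hF 1 y)) = _
    rw [act_res, act_bo, map_one, muF_one]
  mul_smul r r' y := act_axiom hi hX FG e hF _ _ fun E l => by
    show eE hi FG e E (FG.obj.map l.op (act hi hX FG e hF (r * r') y)) =
      eE hi FG e E (FG.obj.map l.op (act hi hX FG e hF r (act hi hX FG e hF r' y)))
    rw [act_res, act_res, act_res, act_bo, act_bo, act_bo, map_mul, muF_mul]
  smul_zero r := act_axiom hi hX FG e hF _ _ fun E l => by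
    show eE hi FG e E (FG.obj.map l.op (act hi hX FG e hF r 0)) = _
    rw [act_res, act_bo, map_zero, map_zero]
    have := muF_add_right hi hF E (pb l r) 0 0
    rwa [add_zero, left_eq_add] at this
  smul_add r y y' := act_axiom hi hX FG e hF _ _ fun E l => by
    show eE hi FG e E (FG.obj.map l.op (act hi hX FG e hF r (y + y'))) =
      eE hi FG e E (FG.obj.map l.op (act hi hX FG e hF r y + act hi hX FG e hF r y'))
    rw [act_res, act_bo, map_add, map_add, muF_add_right, map_add, act_res, act_res, map_add, act_bo, act_bo]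
  add_smul r r' y := act_axiom hi hX FG e hF _ _ fun E l => by
    show eE hi FG e E (FG.obj.map l.op (act hi hX FG e hF (r + r') y)) =
      eE hi FG e E (FG.obj.map l.op (act hi hX FG e hF r y + act hi hX FG e hF r' y))
    rw [act_res, act_bo, map_add, muF_add, map_add, act_res, act_res, map_add, act_bo, act_bo]
  zero_smul y := act_axiom hi hX FG e hF _ _ fun E l => by
    show eE hi FG e E (FG.obj.map l.op (act hi hX FG e hF 0 y)) = _
    rw [act_res, act_bo, map_zero, muF_zero, map_zero, map_zero]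

omit hX hF in
/-- Forgetting the universe lift. -/
def downΓ (V : (EtOver Z)ᵒᵖ) : ↥((OEtRing Z).obj.obj V) →+* gam V.unop :=
  (ULift.ringEquiv (R := gam V.unop)).toRingHom

/-- The module structure over the structure sheaf. -/
@[implicit_reducible]
def modelModule (V : (EtOver Z)ᵒᵖ) : Module ((OEtRing Z).obj.obj V) (FG.obj.obj V) :=
  letI : Module (gam V.unop) (FG.obj.obj V) := actModule hi hX FG e hF V.unop
  Module.compHom _ (downΓ V)

/-- The module on the closed subspace. -/
def modelPsh : PresheafOfModules.{u + 1} (OEtRing Z).obj :=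
  letI := modelModule hi hX FG e hF
  PresheafOfModules.ofPresheaf FG.obj fun {V W} g r y => act_res hi hX FG e hF g.unop (ULift.down r) y

/-- The module on the closed subspace, as a sheaf. -/
def model : ModEt Z where
  val := modelPsh hi hX FG e hF
  isSheaf := FG.property

theorem nonempty_model_iso : Nonempty ((pushModEt hi.1).obj (model hi hX FG e hF) ≅ F) := by
  let γ : (pushModEt hi.1).obj (model hi hX FG e hF) ⟶ F :=
    { val := PresheafOfModules.homMk e.hom.hom (fun E r y => (congrArg (eE hi FG e E.unop) (show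
        _ = act hi hX FG e hF (piB hi E.unop (ULift.down r)) y from rfl)).trans
          ((act_bo hi hX FG e hF E.unop _ y).trans (muF_piB hi hF E.unop (ULift.down r) _))) }
  haveI : IsIso ((SheafOfModules.toSheaf.{u + 1} (OEtRing X)).map γ) := by
    rw [show (SheafOfModules.toSheaf.{u + 1} (OEtRing X)).map γ = e.hom from rfl]
    infer_instance
  haveI : IsIso γ := isIso_of_reflects_iso γ (SheafOfModules.toSheaf.{u + 1} (OEtRing X))
  exact ⟨asIso γ⟩

end model

include hX in
theorem exists_push_iso {F : ModEt X} [F.IsQuasicoherent] (hF : Kills hi F) :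
    ∃ G : ModEt Z, G.IsQuasicoherent ∧ Nonempty ((pushModEt hi.1).obj G ≅ F) := by
  obtain ⟨FG, ⟨e⟩⟩ := exists_sheaf hi hX hF
  obtain ⟨α⟩ := nonempty_model_iso hi hX FG e hF
  exact ⟨model hi hX FG e hF, isQuasicoherent_of_push hi hX _
    (ObjectProperty.prop_of_iso (SheafOfModules.isQuasicoherent (OEtRing X)) α.symm inferInstance), ⟨α⟩⟩

end Groth.Agent.EtQCoh5
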