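import Groth.Agent.EtQCoh5.Exact

/-!
# Coproducts and colimits of quasi-coherent modules
-/

set_option backward.isDefEq.respectTransparency false
set_option backward.isDefEq.respectTransparency.types false
set_option linter.style.haveILetI false

noncomputable section

universe u

open CategoryTheory CategoryTheory.Limits AlgebraicGeometry Opposite AlgSp TensorProduct

namespace Groth.Agent.EtQCoh5

open Groth.Agent.AlgSpQ4.MV Groth.Agent.AlgSpDec Groth.Agent.EtQCoh

variable {S : Scheme.{u}} {X : Sp S} {ι : Type (u + 1)} (D : ι → ModEt X) [HasCoproduct D]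

open scoped Classical in
/-- The projection of a coproduct to one of its terms. -/
def prj (i : ι) : ∐ D ⟶ D i :=
  Sigma.desc fun j => if h : j = i then eqToHom (congrArg D h) else 0

theorem ι_prj_self (i : ι) : Sigma.ι D i ≫ prj D i = 𝟙 _ := by simp [prj]

theorem ι_prj_ne {i j : ι} (h : j ≠ i) : Sigma.ι D j ≫ prj D i = 0 := by simp [prj, dif_neg h]

theorem sapp_prj_ι (T : EtOver X) (i j : ι) [Decidable (j = i)] (x : sectModEt (D j) T) :
    sapp (prj D i) T (sapp (Sigma.ι D j) T x) =
      if h : j = i then (h ▸ x) else 0 := by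
  show sapp (Sigma.ι D j ≫ prj D i) T x = _
  split_ifs with h
  · subst h; rw [ι_prj_self]; rfl
  · rw [ι_prj_ne D h]; rfl

/-- The component endomorphism of a coproduct. -/
def comp₁ (i : ι) (T : EtOver X) : sectModEt (∐ D) T →ₗ[gam T] sectModEt (∐ D) T :=
  (sapp (Sigma.ι D i) T).comp (sapp (prj D i) T)

theorem comp₁_res (i : ι) {E T : EtOver X} (g : T ⟶ E) (x : sectModEt (∐ D) E) :
    comp₁ D i T (res _ g x) = res _ g (comp₁ D i E x) := by
  simp only [comp₁, LinearMap.comp_apply]
  rw [sapp_res, sapp_res]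

/-- Sums of sections of the terms. -/
def spanOf (T : EtOver X) : Submodule (gam T) (sectModEt (∐ D) T) := ⨆ i, LinearMap.range (sapp (Sigma.ι D i) T)

theorem exists_finset_of_mem {T : EtOver X} {x : sectModEt (∐ D) T} (hx : x ∈ spanOf D T) :
    ∃ s : Finset ι, ∀ s', s ⊆ s' → ∑ i ∈ s', comp₁ D i T x = x := by
  classical
  induction hx using Submodule.iSup_induction' with
  | mem i x hx =>
    obtain ⟨z, rfl⟩ := hx
    refine ⟨{i}, fun s' hs => ?_⟩
    rw [Finset.sum_eq_single i]
    · show sapp (Sigma.ι D i) T (sapp (prj D i) T (sapp (Sigma.ι D i) T z)) = _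
      rw [sapp_prj_ι, dif_pos rfl]
    · intro j _ hj
      show sapp (Sigma.ι D j) T (sapp (prj D j) T (sapp (Sigma.ι D i) T z)) = _
      rw [sapp_prj_ι, dif_neg (Ne.symm hj), map_zero]
    · exact fun h => absurd (hs (Finset.mem_singleton_self i)) h
  | zero => exact ⟨∅, fun s' _ => by simp⟩
  | add x y _ _ hx hy =>
    obtain ⟨s, hs⟩ := hx
    obtain ⟨t, ht⟩ := hy
    refine ⟨s ∪ t, fun s' hst => ?_⟩
    simp only [map_add, Finset.sum_add_distrib]
    rw [hs s' (Finset.union_subset_left hst), ht s' (Finset.union_subset_right hst)]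

theorem locally_mem_spanOf {T : EtOver X} (x : sectModEt (∐ D) T) :
    ∃ R ∈ etTop X T, ∀ ⦃V : EtOver X⦄ (f : V ⟶ T), R f → res _ f x ∈ spanOf D V := by
  let P : PresheafOfModules.{u + 1} (OEtRing X).obj := ∐ fun i => (D i).val
  let g : P ⟶ (∐ D).val := Sigma.desc fun i => (Sigma.ι D i).val
  have hg : ∀ (Z : ModEt X) (a b : ∐ D ⟶ Z), g ≫ a.val = g ≫ b.val → a = b := fun Z a b e => by
    refine Sigma.hom_ext (f := D) a b fun i => SheafOfModules.hom_ext ?_
    have e' := congrArg (fun k => Sigma.ι (fun i => (D i).val) i ≫ k) e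
    simp only [g, Sigma.ι_desc_assoc] at e'
    exact e'
  obtain ⟨R, hR, h⟩ := Free.locally_mem_range g hg x
  refine ⟨R, hR, fun V f hf => ?_⟩
  obtain ⟨z, hz⟩ := h f hf
  rw [res_eq, ← hz]
  let K₀ : Submodule ((OEtRing X).obj.obj (op V)) ((∐ D).val.obj (op V)) :=
    ⨆ i, LinearMap.range ((Sigma.ι D i).val.app (op V)).hom
  have hle : ∀ w ∈ K₀, (w : sectModEt (∐ D) V) ∈ spanOf D V := by
    intro w hw
    induction hw using Submodule.iSup_induction' with
    | mem i w hw =>
      obtain ⟨v, rfl⟩ := hw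
      exact Submodule.mem_iSup_of_mem i ⟨v, rfl⟩
    | zero => exact (spanOf D V).zero_mem
    | add a b _ _ ha hb => exact (spanOf D V).add_mem ha hb
  refine hle _ ?_
  let E := PresheafOfModules.evaluation (OEtRing X).obj (op V)
  let q : E.obj P ⟶ ModuleCat.of ((OEtRing X).obj.obj (op V)) (_ ⧸ K₀) := g.app (op V) ≫ ModuleCat.ofHom K₀.mkQ
  have hq : q = 0 := by
    refine (isColimitOfPreserves E (colimit.isColimit (Discrete.functor fun i => (D i).val))).hom_ext fun ⟨i⟩ => ?_
    rw [comp_zero]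
    change E.map (Sigma.ι (fun i => (D i).val) i) ≫ g.app (op V) ≫ ModuleCat.ofHom K₀.mkQ = 0
    rw [← Category.assoc]
    refine ModuleCat.hom_ext (LinearMap.ext fun v => ?_)
    show K₀.mkQ ((Sigma.ι (fun i => (D i).val) i ≫ g).app (op V) v) = 0
    rw [Sigma.ι_desc, Submodule.mkQ_apply, Submodule.Quotient.mk_eq_zero]
    exact Submodule.mem_iSup_of_mem i ⟨v, rfl⟩
  exact (Submodule.Quotient.mk_eq_zero K₀).1 (ConcreteCategory.congr_hom hq z)

/-- On affine objects sections of a coproduct are finite sums. -/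
theorem spanOf_eq_top (T : EtOver X) [IsAffine T.obj.left.left] (x : sectModEt (∐ D) T) :
    ∃ s : Finset ι, ∑ i ∈ s, comp₁ D i T x = x := by
  classical
  obtain ⟨R, hR, hx⟩ := locally_mem_spanOf D x
  obtain ⟨κ', hκ, F, hF, e, hm, hc⟩ := exists_finite_affine_cover (T := T) R hR
  have := Fintype.ofFinite κ'
  choose s hs using fun a => exists_finset_of_mem D (hx (e a) (hm a))
  refine ⟨Finset.univ.biUnion s, sect_ext' _ F e hc fun a => ?_⟩
  rw [map_sum]
  refine (Finset.sum_congr rfl fun i _ => (comp₁_res D i (e a) x).symm).trans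
    (hs a _ (Finset.subset_biUnion_of_mem s (Finset.mem_univ a)))

theorem cartMap_coprod {E T : EtOver X} [IsAffine E.obj.left.left] [IsAffine T.obj.left.left] (g : T ⟶ E)
    (h : ∀ i, CartMap (D i) g) : CartMap (∐ D) g := by
  classical
  let := (pb g).toAlgebra
  refine ⟨(injective_iff_map_eq_zero _).2 fun t ht => ?_, fun x => ?_⟩
  · have hdec : ∀ t : gam T ⊗[gam E] sectModEt (∐ D) E,
        ∃ s : Finset ι, ∀ s', s ⊆ s' → ∑ i ∈ s', (comp₁ D i E).lTensor (gam T) t = t := by
      intro t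
      induction t with
      | zero => exact ⟨∅, fun s' _ => by simp⟩
      | add a b ha hb =>
        obtain ⟨s, hs⟩ := ha
        obtain ⟨t, ht⟩ := hb
        refine ⟨s ∪ t, fun s' hst => ?_⟩
        simp only [map_add, Finset.sum_add_distrib]
        rw [hs s' (Finset.union_subset_left hst), ht s' (Finset.union_subset_right hst)]
      | tmul r y =>
        obtain ⟨s, hs⟩ := spanOf_eq_top D E y
        obtain ⟨s₂, hs₂⟩ : ∃ s₂ : Finset ι, ∀ s', s₂ ⊆ s' → ∑ i ∈ s', comp₁ D i E y = y := by
          refine exists_finset_of_mem D ?_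
          rw [← hs]
          exact Submodule.sum_mem _ fun i _ => Submodule.mem_iSup_of_mem i ⟨_, rfl⟩
        exact ⟨s₂, fun s' hs' => by simp only [LinearMap.lTensor_tmul, ← TensorProduct.tmul_sum, hs₂ s' hs']⟩
    obtain ⟨s, hs⟩ := hdec t
    rw [← hs s subset_rfl]
    refine Finset.sum_eq_zero fun i _ => ?_
    have h0 : (sapp (prj D i) E).lTensor (gam T) t = 0 := (h i).1 (by rw [θ_naturality, ht, map_zero, map_zero])
    show ((sapp (Sigma.ι D i) E).comp (sapp (prj D i) E)).lTensor (gam T) t = 0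
    rw [LinearMap.lTensor_comp, LinearMap.comp_apply, h0, map_zero]
  · obtain ⟨s, hs⟩ := spanOf_eq_top D T x
    choose t ht using fun i => (h i).2 (sapp (prj D i) T x)
    refine ⟨∑ i ∈ s, (sapp (Sigma.ι D i) E).lTensor (gam T) (t i), ?_⟩
    rw [map_sum]
    refine (Finset.sum_congr rfl fun i _ => ?_).trans hs
    rw [θ_naturality, ht]
    rfl

theorem isQuasicoherent_coprod (h : ∀ i, (D i).IsQuasicoherent) : (∐ D).IsQuasicoherent :=
  isQuasicoherent_of_cartAt fun E _ T _ g => cartMap_coprod D g fun i => by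
    haveI := h i
    exact cartAt (D i) E T inferInstance g

/-- Coproducts over small index types. -/
theorem isQuasicoherent_coprod_small {κ : Type u} (F : κ → ModEt X) [HasCoproduct F]
    (h : ∀ i, (F i).IsQuasicoherent) : (∐ F).IsQuasicoherent :=
  haveI : HasCoproduct (F ∘ (Equiv.ulift.{u + 1} : ULift.{u + 1} κ ≃ κ)) := inferInstance
  ObjectProperty.prop_of_iso (SheafOfModules.isQuasicoherent (OEtRing X))
    (Sigma.reindex (Equiv.ulift.{u + 1} : ULift.{u + 1} κ ≃ κ) F)
    (isQuasicoherent_coprod _ fun i => h i.down)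

universe v w t in
theorem colimit_of_closed {C : Type w} [Category.{v} C] [Abelian C] (Pr : C → Prop)
    (hc : ∀ {A B : C} (f : A ⟶ B), Pr A → Pr B → Pr (cokernel f))
    (hi : ∀ {A B : C}, (A ≅ B) → Pr A → Pr B)
    {J : Type t} [SmallCategory J] [HasColimitsOfShape (Discrete J) C]
    [HasColimitsOfShape (Discrete (Σ p : J × J, p.1 ⟶ p.2)) C] (G : J ⥤ C) [HasColimit G]
    (hp : ∀ {κ : Type t} (F : κ → C) [HasCoproduct F], (∀ i, Pr (F i)) → Pr (∐ F))
    (h : ∀ j, Pr (G.obj j)) : Pr (colimit G) := by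
  let a : (∐ fun f : Σ p : J × J, p.1 ⟶ p.2 => G.obj f.1.1) ⟶ ∐ G.obj :=
    Sigma.desc fun f => G.map f.2 ≫ Sigma.ι G.obj f.1.2 - Sigma.ι G.obj f.1.1
  have hw : ∀ {j j' : J} (f : j ⟶ j'), G.map f ≫ Sigma.ι G.obj j' ≫ cokernel.π a =
      Sigma.ι G.obj j ≫ cokernel.π a := fun {j j'} f => by
    rw [← sub_eq_zero, ← Category.assoc, ← Preadditive.sub_comp]
    have := congrArg (fun k => Sigma.ι (fun f : Σ p : J × J, p.1 ⟶ p.2 => G.obj f.1.1) ⟨(j, j'), f⟩ ≫ k)
      (cokernel.condition a)
    simp only [a, Sigma.ι_desc_assoc, comp_zero, Category.assoc, Preadditive.sub_comp] at this ⊢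
    exact this
  let c : Cocone G :=
    { pt := cokernel a
      ι := { app := fun j => Sigma.ι G.obj j ≫ cokernel.π a
             naturality := fun j j' f => by simpa using hw f } }
  let d : cokernel a ⟶ colimit G := cokernel.desc a (Sigma.desc fun j => colimit.ι G j) (Sigma.hom_ext _ _ fun f => by
    simp [a, Preadditive.sub_comp])
  refine hi (show cokernel a ≅ colimit G from
    { hom := d
      inv := colimit.desc G c
      hom_inv_id := ?_
      inv_hom_id := ?_ }) (hc a (hp _ fun f => h _) (hp _ h))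
  · rw [← cancel_epi (cokernel.π a)]
    refine Sigma.hom_ext _ _ fun j => ?_
    simp [d, c]
  · refine colimit.hom_ext fun j => ?_
    simp [d, c]

end Groth.Agent.EtQCoh5
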