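import Groth.Agent.EtQCoh5.Colim

/-!
# The largest quasi-coherent submodule
-/

set_option backward.isDefEq.respectTransparency false
set_option backward.isDefEq.respectTransparency.types false

noncomputable section

universe u

open CategoryTheory CategoryTheory.Limits AlgebraicGeometry Opposite AlgSp

namespace Groth.Agent.EtQCoh5

open Groth.Agent.AlgSpQ4.MV Groth.Agent.AlgSpDec Groth.Agent.EtQCoh

variable {S : Scheme.{u}} {X : Sp S}

theorem hom_ext_affine {M N : ModEt X} {a b : M ⟶ N}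
    (h : ∀ E : EtOver X, IsAffine E.obj.left.left → ∀ x, sapp a E x = sapp b E x) : a = b := by
  refine SheafOfModules.hom_ext (PresheafOfModules.hom_ext fun ⟨E⟩ => ModuleCat.hom_ext (LinearMap.ext fun x => ?_))
  obtain ⟨ι, Y, hY, k, -, hc⟩ := exists_affine_open_cover E
  refine sect_ext' N Y k hc (s := sapp a E x) (t := sapp b E x) fun i => ?_
  rw [← sapp_res, ← sapp_res, h (Y i) (hY i)]

variable (G : ModEt X)

/-- Affine sections coming from quasi-coherent modules. -/
def QIdx : Type (u + 1) :=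
  Σ E : {E : EtOver X // IsAffine E.obj.left.left},
    {s : sectModEt G E.1 // ∃ (H : ModEt X) (φ : H ⟶ G), H.IsQuasicoherent ∧ ∃ z, sapp φ E.1 z = s}

/-- The chosen quasi-coherent sources. -/
def qSrc (i : QIdx G) : ModEt X := i.2.2.choose

/-- The chosen maps. -/
def qMap (i : QIdx G) : qSrc G i ⟶ G := i.2.2.choose_spec.choose

theorem qSrc_qcoh (i : QIdx G) : (qSrc G i).IsQuasicoherent := i.2.2.choose_spec.choose_spec.1

theorem qMap_spec (i : QIdx G) : ∃ z, sapp (qMap G i) i.1.1 z = i.2.1 := i.2.2.choose_spec.choose_spec.2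

theorem exists_largest {F : ModEt X} (hF : F.IsQuasicoherent) (ι : G ⟶ F) [Mono ι] :
    ∃ (G' : ModEt X) (κ : G' ⟶ G), Mono κ ∧ G'.IsQuasicoherent ∧
      ∀ H : ModEt X, H.IsQuasicoherent → Function.Bijective (fun φ : H ⟶ G' => φ ≫ κ) := by
  let a : (∐ fun i => qSrc G i) ⟶ G := Sigma.desc (qMap G)
  have hq : (∐ fun i => qSrc G i).IsQuasicoherent := isQuasicoherent_coprod _ (qSrc_qcoh G)
  refine ⟨Abelian.image a, Abelian.image.ι a, inferInstance, ?_, fun H hH => ⟨fun φ ψ h => ?_, fun φ => ?_⟩⟩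
  · have e₁ : kernel a ≅ kernel (a ≫ ι) := (kernelCompMono a ι).symm
    have h₁ : (kernel a).IsQuasicoherent := ObjectProperty.prop_of_iso (SheafOfModules.isQuasicoherent (OEtRing X))
      e₁.symm (isQuasicoherent_kernel (a ≫ ι) hq hF)
    exact ObjectProperty.prop_of_iso (SheafOfModules.isQuasicoherent (OEtRing X))
      (Abelian.coimageIsoImage a) (isQuasicoherent_cokernel (kernel.ι a) h₁ hq)
  · exact (cancel_mono (Abelian.image.ι a)).1 h
  · have h0 : φ ≫ cokernel.π a = 0 := hom_ext_affine fun E hE x => by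
      obtain ⟨z, hz⟩ := qMap_spec G ⟨⟨E, hE⟩, sapp φ E x, H, φ, hH, x, rfl⟩
      let i : QIdx G := ⟨⟨E, hE⟩, sapp φ E x, H, φ, hH, x, rfl⟩
      replace hz : sapp (qMap G i) E z = sapp φ E x := hz
      show sapp (cokernel.π a) E (sapp φ E x) = 0
      rw [← hz, show qMap G i = Sigma.ι (fun i => qSrc G i) i ≫ a from (Sigma.ι_desc _ _).symm]
      exact congrArg (fun ψ : (∐ fun i => qSrc G i) ⟶ cokernel a => sapp ψ E (sapp (Sigma.ι (fun i => qSrc G i) i) E z))
        (cokernel.condition a)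
    exact ⟨kernel.lift _ φ h0, kernel.lift_ι _ _ _⟩

end Groth.Agent.EtQCoh5
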