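import Groth.Agent.EtQCoh5.Annihilated
import Groth.Agent.EtQCoh5.Largest
import Mathlib.CategoryTheory.Adjunction.PartialAdjoint

/-!
# A right adjoint of the direct image of quasi-coherent modules along a closed immersion
-/

set_option backward.isDefEq.respectTransparency false
set_option backward.isDefEq.respectTransparency.types false
set_option linter.style.haveILetI false

noncomputable section

universe u

open CategoryTheory CategoryTheory.Limits AlgebraicGeometry Opposite AlgSp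

namespace Groth.Agent.EtQCoh5

open Groth.Agent.AlgSpQ4.MV Groth.Agent.AlgSpDec Groth.Agent.EtQCoh

universe v₁ v₂ u₁ u₂ in
/-- A criterion for a restriction of a faithful functor to full subcategories to have a right adjoint. -/
theorem isLeftAdjoint_lift {C : Type u₁} [Category.{v₁} C] {D : Type u₂} [Category.{v₁} D] (P : ObjectProperty C)
    (Q : ObjectProperty D) (T : C ⥤ D) [T.Faithful] (hT : ∀ G, P G → Q (T.obj G))
    (h : ∀ F, Q F → ∃ (G : C) (_ : P G) (c : T.obj G ⟶ F), Mono c ∧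
      ∀ A, P A → ∀ χ : T.obj A ⟶ F, ∃ ψ, T.map ψ ≫ c = χ) :
    (Q.lift (P.ι ⋙ T) fun G => hT G.obj G.property).IsLeftAdjoint := by
  refine Functor.isLeftAdjoint_of_rightAdjointObjIsDefined_eq_top (funext fun F => ?_)
  simp only [Pi.top_apply, Prop.top_eq_true, eq_iff_iff, iff_true]
  obtain ⟨G, hG, c, _, hu⟩ := h F.obj F.property
  refine ⟨⟨G, hG⟩, ⟨
    { homEquiv := fun {A} => Equiv.ofBijective (fun ψ => ObjectProperty.homMk (T.map ψ.hom ≫ c))
        ⟨fun ψ ψ' e => ?_, fun χ => ?_⟩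
      homEquiv_comp := fun {A A'} m ψ => ?_ }⟩⟩
  · have e' : T.map ψ.hom ≫ c = T.map ψ'.hom ≫ c := congrArg (fun k => k.hom) e
    exact ObjectProperty.hom_ext _ (T.map_injective ((cancel_mono c).1 e'))
  · obtain ⟨ψ, hψ⟩ := hu A.obj A.property χ.hom
    exact ⟨ObjectProperty.homMk ψ, ObjectProperty.hom_ext _ hψ⟩
  · refine ObjectProperty.hom_ext _ ?_
    show T.map (m.hom ≫ ψ.hom) ≫ c = T.map m.hom ≫ T.map ψ.hom ≫ c
    rw [Functor.map_comp, Category.assoc]

variable {S : Scheme.{u}} {Z X : Sp S} {i : Z ⟶ X} (hi : RepWith @IsClosedImmersion i)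

theorem kills_coprod {ι : Type (u + 1)} (D : ι → ModEt X) [HasCoproduct D] (h : ∀ j, Kills hi (D j)) :
    Kills hi (∐ D) := fun E hE a x ha => by
  obtain ⟨s, hs⟩ := spanOf_eq_top D E x
  rw [← hs, Finset.smul_sum]
  refine Finset.sum_eq_zero fun j _ => ?_
  show a • sapp (Sigma.ι D j) E (sapp (prj D j) E x) = 0
  rw [← map_smul, h j E hE a _ ha, map_zero]

theorem kills_of_epi {A B : ModEt X} (q : A ⟶ B) [Epi q] (hA : A.IsQuasicoherent) (hB : B.IsQuasicoherent)
    (h : Kills hi A) : Kills hi B := fun E hE a x ha => by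
  have hk : (kernel q).IsQuasicoherent := isQuasicoherent_kernel q hA hB
  have hQ : (kerSeq q).ShortExact := { exact := kerSeq_exact q, epi_g := inferInstanceAs (Epi q) }
  obtain ⟨y, rfl⟩ := sapp_surjective (kerSeq q) hQ (fun T hT => cartAt (kernel q) T) E x
  exact (map_smul (sapp q E) a y).symm.trans ((congrArg (sapp q E) (h E hE a y ha)).trans (map_zero _))

variable (F : ModEt X)

/-- Affine sections coming from quasi-coherent modules killed by the ideal. -/
def KIdx : Type (u + 1) :=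
  Σ E : {E : EtOver X // IsAffine E.obj.left.left},
    {s : sectModEt F E.1 // ∃ (H : ModEt X) (φ : H ⟶ F), (H.IsQuasicoherent ∧ Kills hi H) ∧ ∃ z, sapp φ E.1 z = s}

/-- The chosen sources. -/
def kSrc (j : KIdx hi F) : ModEt X := j.2.2.choose

/-- The chosen maps. -/
def kMap (j : KIdx hi F) : kSrc hi F j ⟶ F := j.2.2.choose_spec.choose

theorem kSrc_prop (j : KIdx hi F) : (kSrc hi F j).IsQuasicoherent ∧ Kills hi (kSrc hi F j) :=
  j.2.2.choose_spec.choose_spec.1

theorem kMap_spec (j : KIdx hi F) : ∃ z, sapp (kMap hi F j) j.1.1 z = j.2.1 := j.2.2.choose_spec.choose_spec.2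

theorem exists_largest_killed (hF : F.IsQuasicoherent) :
    ∃ (G : ModEt X) (κ : G ⟶ F), Mono κ ∧ G.IsQuasicoherent ∧ Kills hi G ∧
      ∀ (H : ModEt X), H.IsQuasicoherent → Kills hi H → ∀ φ : H ⟶ F, ∃ ψ : H ⟶ G, ψ ≫ κ = φ := by
  let a : (∐ fun j => kSrc hi F j) ⟶ F := Sigma.desc (kMap hi F)
  have hq : (∐ fun j => kSrc hi F j).IsQuasicoherent := isQuasicoherent_coprod _ fun j => (kSrc_prop hi F j).1
  have hI : (Abelian.image a).IsQuasicoherent :=
    ObjectProperty.prop_of_iso (SheafOfModules.isQuasicoherent (OEtRing X)) (Abelian.coimageIsoImage a)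
      (isQuasicoherent_cokernel (kernel.ι a) (isQuasicoherent_kernel a hq hF) hq)
  refine ⟨Abelian.image a, Abelian.image.ι a, inferInstance, hI,
    kills_of_epi hi (Abelian.factorThruImage a) hq hI (kills_coprod hi _ fun j => (kSrc_prop hi F j).2),
    fun H hH hK φ => ?_⟩
  have h0 : φ ≫ cokernel.π a = 0 := hom_ext_affine fun E hE x => by
    let j : KIdx hi F := ⟨⟨E, hE⟩, sapp φ E x, H, φ, ⟨hH, hK⟩, x, rfl⟩
    obtain ⟨z, hz⟩ := kMap_spec hi F j
    replace hz : sapp (kMap hi F j) E z = sapp φ E x := hz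
    show sapp (cokernel.π a) E (sapp φ E x) = 0
    rw [← hz, show kMap hi F j = Sigma.ι (fun j => kSrc hi F j) j ≫ a from (Sigma.ι_desc _ _).symm]
    exact congrArg (fun ψ : (∐ fun j => kSrc hi F j) ⟶ cokernel a => sapp ψ E (sapp (Sigma.ι (fun j => kSrc hi F j) j) E z))
      (cokernel.condition a)
  exact ⟨kernel.lift _ φ h0, kernel.lift_ι _ _ _⟩

variable (hX : IsAlgSpace X)
  (hq : ∀ G : ModEt Z, G.IsQuasicoherent → ((pushModEt hi.1).obj G).IsQuasicoherent)

include hX

theorem isLeftAdjoint_pushModEt_qcoh :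
    ((SheafOfModules.isQuasicoherent (OEtRing X)).lift
        ((SheafOfModules.isQuasicoherent (OEtRing Z)).ι ⋙ pushModEt hi.1)
        (fun G => hq G.obj G.property)).IsLeftAdjoint := by
  haveI := pushModEt_faithful hi hX
  haveI := pushModEt_full hi hX
  refine isLeftAdjoint_lift (SheafOfModules.isQuasicoherent (OEtRing Z)) (SheafOfModules.isQuasicoherent (OEtRing X))
    (pushModEt hi.1) hq fun F hF => ?_
  obtain ⟨F₀, κ, _, hF₀, hK, huniv⟩ := exists_largest_killed hi F hF
  haveI := hF₀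
  obtain ⟨G, hG, ⟨α⟩⟩ := exists_push_iso hi hX hK
  refine ⟨G, hG, α.hom ≫ κ, inferInstance, fun A hA χ => ?_⟩
  obtain ⟨φ, hφ⟩ := huniv _ (hq A hA) (kills_push hi A) χ
  obtain ⟨ψ, hψ⟩ := (pushModEt hi.1).map_surjective (φ ≫ α.inv)
  exact ⟨ψ, by rw [hψ, Category.assoc, α.inv_hom_id_assoc, hφ]⟩

end Groth.Agent.EtQCoh5
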