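import Groth.Agent.EtQCoh.FiniteSections
import Mathlib.RingTheory.Flat.FaithfullyFlat.Basic

/-!
# Flatness and finite presentation descend along covering families of algebras
-/

set_option backward.isDefEq.respectTransparency false
set_option backward.isDefEq.respectTransparency.types false
set_option linter.style.haveILetI false

noncomputable section

universe u v

open TensorProduct

namespace Groth.Agent.EtQCoh5

open Groth.Agent.EtQCoh

variable {C : Type u} [CommRing C] {ι : Type*} [Finite ι] {D : ι → Type u} [∀ i, CommRing (D i)]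
  [∀ i, Algebra C (D i)] (h : IsCoverAlg (C := C) D) {P : Type v} [AddCommGroup P] [Module C P]

include h

omit [Finite ι] in
theorem flat_of_cover (hP : ∀ i, Module.Flat (D i) (D i ⊗[C] P)) : Module.Flat C P := by
  refine Module.Flat.iff_lTensor_preserves_injective_linearMap.2 fun N N' _ _ _ _ f hf => ?_
  refine (injective_iff_map_eq_zero _).2 fun x hx => eq_zero_of_cover h fun i => ?_
  have : Module.Flat C (D i) := h.flat i
  let fD : D i ⊗[C] N →ₗ[D i] D i ⊗[C] N' := f.baseChange (D i)
  have hfD : Function.Injective fD := Module.Flat.lTensor_preserves_injective_linearMap f hf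
  let eN := (AlgebraTensorModule.cancelBaseChange C (D i) (D i) (D i ⊗[C] P) N).symm.trans
    (TensorProduct.comm (D i) _ _)
  have h1 : Function.Injective (fD.lTensor (D i ⊗[C] P)) :=
    Module.Flat.lTensor_preserves_injective_linearMap fD hfD
  let a : D i ⊗[C] (P ⊗[C] N) ≃ₗ[D i] (D i ⊗[C] P) ⊗[D i] (D i ⊗[C] N) :=
    (AlgebraTensorModule.assoc C C (D i) (D i) P N).symm.trans
      (AlgebraTensorModule.cancelBaseChange C (D i) (D i) (D i ⊗[C] P) N).symm
  let a' : D i ⊗[C] (P ⊗[C] N') ≃ₗ[D i] (D i ⊗[C] P) ⊗[D i] (D i ⊗[C] N') :=
    (AlgebraTensorModule.assoc C C (D i) (D i) P N').symm.trans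
      (AlgebraTensorModule.cancelBaseChange C (D i) (D i) (D i ⊗[C] P) N').symm
  have key : ∀ (d : D i) (y : P ⊗[C] N), a' (d ⊗ₜ[C] f.lTensor P y) = fD.lTensor (D i ⊗[C] P) (a (d ⊗ₜ[C] y)) := by
    intro d y
    induction y with
    | zero => simp
    | add y z hy hz => simp only [map_add, TensorProduct.tmul_add, hy, hz]
    | tmul p n => simp [a, a', fD]
  refine a.injective (h1 ?_)
  rw [← key, hx, TensorProduct.tmul_zero, map_zero, map_zero, map_zero]

theorem finitePresentation_of_cover (hP : ∀ i, Module.FinitePresentation (D i) (D i ⊗[C] P)) :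
    Module.FinitePresentation C P := by
  have : Module.Finite C P := finite_of_cover h fun i => by
    have := hP i
    infer_instance
  obtain ⟨n, f, hf⟩ := Module.Finite.exists_fin' C P
  refine Module.finitePresentation_of_surjective f hf ?_
  let K := LinearMap.ker f
  have : Module.Finite C K := finite_of_cover h fun i => by
    have := hP i
    have : Module.Flat C (D i) := h.flat i
    let g : D i ⊗[C] K →ₗ[D i] D i ⊗[C] (Fin n → C) := K.subtype.baseChange (D i)
    have hg : Function.Injective g := Module.Flat.lTensor_preserves_injective_linearMap _ K.injective_subtype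
    have hfs : Function.Surjective (f.baseChange (D i)) := LinearMap.lTensor_surjective (D i) hf
    have hex : Function.Exact g (f.baseChange (D i)) :=
      lTensor_exact (D i) (LinearMap.exact_subtype_ker_map f) hf
    have hfg : (LinearMap.ker (f.baseChange (D i))).FG := Module.FinitePresentation.fg_ker _ hfs
    rw [hex.linearMap_ker_eq] at hfg
    have : Module.Finite (D i) ↥(LinearMap.range g) := Module.Finite.iff_fg.2 hfg
    exact Module.Finite.equiv (LinearEquiv.ofInjective g hg).symm
  exact Module.Finite.iff_fg.1 this

end Groth.Agent.EtQCoh5
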