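import Groth.Agent.EtFound.IntegralSplit
import Groth.Agent.AlgSpDec.EtSite
import Groth.Prelude.Def_AlgSpOX2
import Groth.Prelude.Def_AlgSp4
import Mathlib.CategoryTheory.Sites.DenseSubsite.Basic

/-!
# Base change of etale sites along integral universally injective morphisms
-/

set_option backward.isDefEq.respectTransparency false
set_option backward.isDefEq.respectTransparency.types false

noncomputable section

universe u

open CategoryTheory CategoryTheory.Limits AlgebraicGeometry Opposite AlgSp Groth.Agent.AlgSpLib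

namespace Groth.Agent.EtQCoh5

variable {S : Scheme.{u}} {X Y : Sp S} {f : X ⟶ Y}

/-- All base changes to schemes are integral and universally injective. -/
def IntUnivInj (hf : Representable f) : Prop :=
  ∀ {T : Over S} (t : (yon S).obj T ⟶ Y), IsIntegralHom (hf.snd t).left ∧ UniversallyInjective (hf.snd t).left

theorem injective_of_points {T T' : Over S} (g : T ⟶ T') (h : Function.Injective (Points.map ((yon S).map g))) :
    Function.Injective g.left := fun x y e => by
  have hx : ∀ x, Points.map ((yon S).map g) (Points.ofScheme T x) = Points.ofScheme T' (g.left x) := fun x => by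
    rw [← Points.ofPt_eq_map_ofScheme]
    exact (congrArg (fun k => Points.ofPt k x) (Category.comp_id ((yon S).map g)).symm).trans (ofPt_comp g (𝟙 _) x)
  have := h ((hx x).trans ((congrArg _ e).trans (hx y).symm))
  simpa using congrArg (Points.toScheme T) this

theorem intUnivInj_of_isUnivInjective (hi : RepWith @IsIntegralHom f) (hu : IsUnivInjectiveMor f) :
    IntUnivInj hi.1 := fun {T} t => by
  refine ⟨hi.property_snd t, ⟨fun A B a b c sq => ?_⟩⟩
  let A' : Over S := Over.mk (a ≫ (hi.1.pullback t).hom)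
  let B' : Over S := Over.mk (b ≫ T.hom)
  let aa : A' ⟶ hi.1.pullback t := Over.homMk a rfl
  let bb : B' ⟶ T := Over.homMk b rfl
  let cc : A' ⟶ B' := Over.homMk c (by
    show c ≫ b ≫ T.hom = a ≫ (hi.1.pullback t).hom
    rw [← Category.assoc, sq.w, Category.assoc]
    exact congrArg (a ≫ ·) (Over.w (hi.1.snd t)))
  have sq' : IsPullback aa cc (hi.1.snd t) bb :=
    IsPullback.of_map (Over.forget S) (Over.OverMorphism.ext sq.w.symm) sq.flip
  exact injective_of_points cc (hu (IsAlgSpace.yon_obj B') _ _ _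
    ((sq'.map (yon S)).paste_horiz (hi.1.isPullback t)))

theorem intUnivInj_of_closedImmersion (hi : RepWith @IsClosedImmersion f) : IntUnivInj hi.1 := fun {T} t => by
  have : IsClosedImmersion (hi.1.snd t).left := hi.property_snd t
  exact ⟨inferInstance, inferInstance⟩

variable {hf : Representable f} (h : IntUnivInj hf)

include h

/-- Etale objects over a base change come, locally, from the base. -/
theorem exists_split (E : EtOver Y) {Q : EtOver X} (π : Q ⟶ (EtOver.bc hf).obj E) (q : ↥Q.obj.left.left) :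
    ∃ (E' : EtOver Y) (k : E' ⟶ E) (l : (EtOver.bc hf).obj E' ⟶ Q),
      l ≫ π = (EtOver.bc hf).map k ∧ q ∈ Set.range l.hom.left.left := by
  let g : (hf.pullback E.obj.hom).left ⟶ E.obj.left.left := (hf.snd E.obj.hom).left
  have : IsIntegralHom g := (h E.obj.hom).1
  have : UniversallyInjective g := (h E.obj.hom).2
  let p : Q.obj.left.left ⟶ (hf.pullback E.obj.hom).left := π.hom.left.left
  have : Etale p := EtOver.etale_left π
  obtain ⟨V, v, hv, z, -, m, hm, hq⟩ := EtFound.exists_split g p (g (p q))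
    (fun x hx => ⟨q, (g.injective hx).symm⟩) q rfl
  let T : Over S := Over.mk (v ≫ E.obj.left.hom)
  let v' : T ⟶ E.obj.left := CategoryTheory.Over.homMk v rfl
  let E' : EtOver Y := EtOver.mk ((yon S).map v' ≫ E.obj.hom)
    (repWith_comp ((repWith_yon_map_iff _ _).2 hv) E.property)
  let k : E' ⟶ E := EtOver.homMk v' rfl
  have sq := EtOver.isPullback_bcMap_left hf k
  let l₀ := sq.flip.isoPullback.hom
  let e := IsPullback.isoPullback (IsPullback.flip (IsPullback.flip sq))
  let l₁ : ((EtOver.bc hf).obj E').obj.left.left ⟶ Q.obj.left.left := e.hom ≫ m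
  have hl : l₁ ≫ π.hom.left.left = (EtOver.bcMap hf k).hom.left.left := by
    rw [Category.assoc]
    exact (congrArg (e.hom ≫ ·) hm).trans (IsPullback.isoPullback_hom_fst _)
  let l₂ : ((EtOver.bc hf).obj E').obj.left ⟶ Q.obj.left := CategoryTheory.Over.homMk l₁ (by
    rw [← Over.w π.hom.left, ← Category.assoc, hl]
    exact Over.w (EtOver.bcMap hf k).hom.left)
  have hl₂ : l₂ ≫ π.hom.left = (EtOver.bcMap hf k).hom.left := Over.OverMorphism.ext hl
  refine ⟨E', k, EtOver.homMk l₂ ?_, EtOver.hom_ext _ _ hl₂, ?_⟩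
  · rw [← EtOver.w π, ← Category.assoc, ← Functor.map_comp, hl₂]
    exact EtOver.w (EtOver.bcMap hf k)
  · obtain ⟨w, hw⟩ := hq
    refine ⟨e.inv w, ?_⟩
    show l₁ (e.inv w) = q
    exact ((Scheme.Hom.comp_apply e.inv l₁ w).symm.trans (congrArg (fun φ => φ w) (e.inv_hom_id_assoc m))).trans hw

/-- Every point of an object is hit by a base change. -/
theorem exists_bc_nbhd (hY : IsAlgSpace Y) (V : EtOver X) (v : ↥V.obj.left.left) :
    ∃ (E' : EtOver Y) (l : (EtOver.bc hf).obj E' ⟶ V), v ∈ Set.range l.hom.left.left := by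
  obtain ⟨U, a, ha, has⟩ := hY.atlas
  let E : EtOver Y := EtOver.mk a ha
  let R := (EtOver.bc hf).obj E
  let t := R.property.rep.snd V.obj.hom
  have ht : Etale t.left := R.property.property_snd V.obj.hom
  have hs : RepWith @Surjective R.obj.hom := repWith_of_isPullback (hf.isPullback a).flip has
  have hts : Surjective t.left := hs.property _ _ _ (R.property.rep.isPullback' V.obj.hom)
  have sq := R.property.rep.isPullback' V.obj.hom
  let Q : EtOver X := EtOver.mk ((yon S).map t ≫ V.obj.hom)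
    (repWith_comp ((repWith_yon_map_iff _ _).2 ht) V.property)
  let c : Q ⟶ V := EtOver.homMk t rfl
  let π : Q ⟶ R := EtOver.homMk (R.property.rep.fst' V.obj.hom) sq.w
  obtain ⟨q, hq⟩ := hts.surj v
  obtain ⟨E', k, l, -, w, hw⟩ := exists_split h E π q
  refine ⟨E', l ≫ c, w, ?_⟩
  show t.left (l.hom.left.left w) = v
  rw [hw, hq]

theorem isCoverDense_bc (hY : IsAlgSpace Y) : (EtOver.bc hf).IsCoverDense (etTop X) := by
  refine ⟨fun V => ?_⟩
  choose E' l hl using exists_bc_nbhd h hY V
  refine (etTop X).superset_covering ?_ (AlgSp.ofArrows_mem_etTop _ l fun v => ⟨v, hl v⟩)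
  rw [Sieve.generate_le_iff]
  intro Z m hm
  obtain ⟨v⟩ := hm
  exact ⟨⟨E' v, 𝟙 _, l v, Category.id_comp _⟩⟩

theorem isLocallyFull_bc : (EtOver.bc hf).IsLocallyFull (etTop X) := by
  refine ⟨fun {E₁ E₂} φ => ?_⟩
  have sq := E₁.property.rep.isPullback' E₂.obj.hom
  let p₁ := E₁.property.rep.fst' E₂.obj.hom
  let p₂ := E₁.property.rep.snd E₂.obj.hom
  let P : EtOver Y := EtOver.mk ((yon S).map p₁ ≫ E₁.obj.hom) (by
    refine repWith_comp ((repWith_yon_map_iff _ _).2 ?_) E₁.property
    exact E₂.property.property _ _ _ sq.flip)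
  let π₁ : P ⟶ E₁ := EtOver.homMk p₁ rfl
  let π₂ : P ⟶ E₂ := EtOver.homMk p₂ sq.w.symm
  obtain ⟨d, hd₁, hd₂⟩ := sq.exists_lift ((yon S).map (hf.snd E₁.obj.hom))
    ((yon S).map (φ.hom.left ≫ hf.snd E₂.obj.hom)) (by
      rw [← hf.w, Functor.map_comp, Category.assoc, ← hf.w, ← Category.assoc]
      exact congrArg (· ≫ f) (EtOver.w φ).symm)
  obtain ⟨δ, rfl⟩ := (yon S).map_surjective d
  rw [← Functor.map_comp] at hd₁ hd₂
  have hδ₁ := (yon S).map_injective hd₁
  have hδ₂ := (yon S).map_injective hd₂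
  let s : (EtOver.bc hf).obj E₁ ⟶ (EtOver.bc hf).obj P :=
    EtOver.homMk (hf.lift (hf.fst E₁.obj.hom) δ (by
      show hf.fst E₁.obj.hom ≫ f = (yon S).map δ ≫ (yon S).map p₁ ≫ E₁.obj.hom
      rw [← Category.assoc, ← Functor.map_comp, hδ₁, hf.w])) (hf.lift_fst _ _ _)
  have hs₁ : s ≫ (EtOver.bc hf).map π₁ = 𝟙 _ := EtOver.hom_ext _ _
    (hf.hom_ext ((EtOver.w _).trans (EtOver.w (𝟙 ((EtOver.bc hf).obj E₁))).symm) (by
      show (s.hom.left ≫ (EtOver.bcMap hf π₁).hom.left) ≫ hf.snd E₁.obj.hom = 𝟙 _ ≫ hf.snd E₁.obj.hom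
      rw [Category.assoc, EtOver.bcMap_snd, ← Category.assoc, Category.id_comp]
      exact (congrArg (· ≫ p₁) (hf.lift_snd _ _ _)).trans hδ₁))
  have hs₂ : s ≫ (EtOver.bc hf).map π₂ = φ := EtOver.hom_ext _ _
    (hf.hom_ext ((EtOver.w _).trans (EtOver.w φ).symm) (by
      show (s.hom.left ≫ (EtOver.bcMap hf π₂).hom.left) ≫ hf.snd E₂.obj.hom = φ.hom.left ≫ hf.snd E₂.obj.hom
      rw [Category.assoc, EtOver.bcMap_snd, ← Category.assoc]
      exact (congrArg (· ≫ p₂) (hf.lift_snd _ _ _)).trans hδ₂))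
  have key : ∀ x : ↥((EtOver.bc hf).obj E₁).obj.left.left, ∃ (E' : EtOver Y) (r : E' ⟶ E₁),
      (EtOver.bc hf).imageSieve φ r ∧ x ∈ Set.range ((EtOver.bc hf).map r).hom.left.left := fun x => by
    obtain ⟨E', k, l, hl, hx⟩ := exists_split h P s x
    have hr : (EtOver.bc hf).map (k ≫ π₁) = l := by
      rw [Functor.map_comp, ← hl, Category.assoc, hs₁, Category.comp_id]
    refine ⟨E', k ≫ π₁, ⟨k ≫ π₂, ?_⟩, by rw [hr]; exact hx⟩
    rw [hr, Functor.map_comp, ← hl, Category.assoc, hs₂]
  choose E' r hr hx using key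
  refine (etTop X).superset_covering ?_ (AlgSp.ofArrows_mem_etTop _ (fun x => (EtOver.bc hf).map (r x)) fun x => ⟨x, hx x⟩)
  rw [Sieve.generate_le_iff]
  intro Z m hm
  obtain ⟨x⟩ := hm
  exact Sieve.image_mem_functorPushforward _ _ (hr x)

theorem pushEt_full_faithful (hY : IsAlgSpace Y) (A : Type*) [Category A] :
    (pushEt hf A).Full ∧ (pushEt hf A).Faithful := by
  haveI := isCoverDense_bc h hY
  haveI := isLocallyFull_bc h
  exact ⟨inferInstance, inferInstance⟩

end Groth.Agent.EtQCoh5
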