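import Groth.Agent.EtQCoh5.Converse

/-!
# Quasi-coherent modules in short exact sequences
-/

set_option backward.isDefEq.respectTransparency false
set_option backward.isDefEq.respectTransparency.types false
set_option linter.style.haveILetI false

noncomputable section

universe u

open CategoryTheory CategoryTheory.Limits AlgebraicGeometry Opposite AlgSp TensorProduct

namespace Groth.Agent.EtQCoh5

open Groth.Agent.AlgSpQ4.MV Groth.Agent.AlgSpDec Groth.Agent.EtQCoh

variable {S : Scheme.{u}} {X : Sp S} {A B C : ModEt X}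

/-- A morphism on sections. -/
def sapp (φ : A ⟶ B) (E : EtOver X) : sectModEt A E →ₗ[gam E] sectModEt B E where
  toFun := φ.val.app (op E)
  map_add' := map_add _
  map_smul' a x := app_smul φ a x

theorem sapp_res (φ : A ⟶ B) {E T : EtOver X} (g : T ⟶ E) (x : sectModEt A E) :
    sapp φ T (res A g x) = res B g (sapp φ E x) := app_res φ g x

theorem θ_naturality (φ : A ⟶ B) {E T : EtOver X} (g : T ⟶ E) :
    letI := (pb g).toAlgebra
    ∀ t, θ B g ((sapp φ E).lTensor (gam T) t) = sapp φ T (θ A g t) := by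
  letI := (pb g).toAlgebra
  intro t
  induction t with
  | zero => simp only [map_zero]
  | add a b ha hb => simp only [map_add, ha, hb]
  | tmul r x => rw [LinearMap.lTensor_tmul, θ_tmul, θ_tmul, map_smul, sapp_res]

/-- Sections inject along monomorphisms. -/
theorem sapp_injective (φ : A ⟶ B) [Mono φ] (E : EtOver X) : Function.Injective (sapp φ E) :=
  (ModuleCat.mono_iff_injective ((SheafOfModules.forget _ ⋙ PresheafOfModules.evaluation _ (op E)).map φ)).1
    inferInstance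

/-- Sections are left exact. -/
theorem sapp_exact (Q : ShortComplex (ModEt X)) [Mono Q.f] (hQ : Q.Exact) (E : EtOver X) :
    Function.Exact (sapp Q.f E) (sapp Q.g E) := by
  have hS := hQ.map_of_mono_of_preservesKernel
    (SheafOfModules.forget _ ⋙ PresheafOfModules.evaluation _ (op E)) ‹Mono Q.f› inferInstance
  intro x
  constructor
  · intro hx
    obtain ⟨y, hy⟩ := (ShortComplex.moduleCat_exact_iff _).1 hS x hx
    exact ⟨y, hy⟩
  · rintro ⟨y, rfl⟩
    exact congrArg (fun ψ : Q.X₁ ⟶ Q.X₃ => sapp ψ E y) Q.zero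

set_option maxHeartbeats 1000000 in
/-- Cocycles of a module cartesian on a finite affine covering are coboundaries. -/
theorem exists_correction (Q : ShortComplex (ModEt X)) [Mono Q.f] (hQ : Q.Exact) {E : EtOver X}
    [IsAffine E.obj.left.left] {ι : Type u} [Finite ι] (F : ι → EtOver X) [∀ i, IsAffine (F i).obj.left.left]
    (e : ∀ i, F i ⟶ E) (hcov : ∀ x : ↥E.obj.left.left, ∃ i, x ∈ Set.range (e i).hom.left.left)
    (hM : ∀ T : EtOver X, IsAffine T.obj.left.left → CartAt Q.X₁ T) (y : ∀ i, sectModEt Q.X₂ (F i))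
    (hy : ∀ (i j : ι) (V : EtOver X) (a : V ⟶ F i) (b : V ⟶ F j), a ≫ e i = b ≫ e j →
      sapp Q.g V (res Q.X₂ a (y i) - res Q.X₂ b (y j)) = 0) :
    ∃ b : ∀ i, sectModEt Q.X₁ (F i), ∀ (i j : ι) (V : EtOver X) (p : V ⟶ F i) (q : V ⟶ F j), p ≫ e i = q ≫ e j →
      res Q.X₂ p (y i - sapp Q.f _ (b i)) = res Q.X₂ q (y j - sapp Q.f _ (b j)) := by
  classical
  have := Fintype.ofFinite ι
  have hP := fun ij : ι × ι => exists_affine_pullback (e ij.1) (e ij.2)
  choose Z hZ r₁ r₂ hZw hZp hZl using hP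
  have hd : ∀ ij : ι × ι, ∃ d, sapp Q.f (Z ij) d = res Q.X₂ (r₁ ij) (y ij.1) - res Q.X₂ (r₂ ij) (y ij.2) := fun ij =>
    (sapp_exact Q hQ (Z ij) _).1 (hy _ _ _ _ _ (hZw ij))
  choose d hd using hd
  let M := Q.X₁
  let : ∀ i, Module (gam E) (sectModEt M (F i)) := fun i => Module.compHom _ (pb (e i))
  let : ∀ ij, Module (gam E) (sectModEt M (Z ij)) := fun ij => Module.compHom _ (pb (r₁ ij ≫ e ij.1))
  let δ : (∀ i, sectModEt M (F i)) →ₗ[gam E] ∀ ij, sectModEt M (Z ij) :=
    LinearMap.pi fun ij =>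
      { toFun := fun s => res M (r₁ ij) (s ij.1) - res M (r₂ ij) (s ij.2)
        map_add' := fun s t => by
          simp only [Pi.add_apply, map_add]
          abel
        map_smul' := fun a s => by
          show res M (r₁ ij) (pb (e ij.1) a • s ij.1) - res M (r₂ ij) (pb (e ij.2) a • s ij.2) =
            pb (r₁ ij ≫ e ij.1) a • (res M (r₁ ij) (s ij.1) - res M (r₂ ij) (s ij.2))
          rw [res_smul, res_smul, smul_sub]
          congr 2
          show pb (r₂ ij ≫ e ij.2) a = pb (r₁ ij ≫ e ij.1) a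
          rw [hZw] }
  let := fun i => (pb (e i)).toAlgebra
  have key : d ∈ LinearMap.range δ := by
    refine mem_range_of_cover (C := gam E) (D := fun i => gam (F i)) (isCoverAlg_of_cover F e hcov) δ fun m => ?_
    have hκ : ∀ i, Function.Bijective (κ M (e m) (e i) (r₁ (m, i)) (r₂ (m, i)) (hZw (m, i))) := fun i => by
      have := hZ (m, i)
      exact κ_bijective M _ _ _ _ (hZw (m, i)) (hZp (m, i)) (hM (F i) inferInstance (Z (m, i)) (hZ (m, i)) _)
    choose t ht using fun i => (hκ i).2 (- d (m, i))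
    let t₀ := (TensorProduct.piRight (gam E) (gam E) (gam (F m)) fun i => sectModEt M (F i)).symm t
    refine ⟨t₀, (TensorProduct.piRight (gam E) (gam E) (gam (F m)) fun ij => sectModEt M (Z ij)).injective
      (funext fun ij => ?_)⟩
    obtain ⟨Y, hY, a, b, hYw, hYp, -⟩ :=
      @exists_affine_pullback _ _ E (Z ij) (F m) _ (hZ ij) inferInstance (e m) (r₁ ij ≫ e ij.1)
    obtain ⟨l₁, hl₁a, hl₁b⟩ := hZl (m, ij.1) a (b ≫ r₁ ij) (by rw [hYw, Category.assoc])
    obtain ⟨l₂, hl₂a, hl₂b⟩ := hZl (m, ij.2) a (b ≫ r₂ ij) (by rw [hYw, hZw, Category.assoc])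
    have := hZ ij
    apply (κ_bijective M (e m) (r₁ ij ≫ e ij.1) a b hYw hYp (hM (Z ij) (hZ ij) Y hY b)).1
    have e₂ : ∀ u, κ M (e m) (r₁ ij ≫ e ij.1) a b hYw
        (TensorProduct.piRight (gam E) (gam E) (gam (F m)) _ (δ.lTensor (gam (F m)) u) ij) =
        res M l₁ (κ M (e m) (e ij.1) (r₁ (m, ij.1)) (r₂ (m, ij.1)) (hZw (m, ij.1))
          (TensorProduct.piRight (gam E) (gam E) (gam (F m)) _ u ij.1)) -
        res M l₂ (κ M (e m) (e ij.2) (r₁ (m, ij.2)) (r₂ (m, ij.2)) (hZw (m, ij.2))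
          (TensorProduct.piRight (gam E) (gam E) (gam (F m)) _ u ij.2)) := fun u => by
      induction u with
      | zero => simp only [map_zero, Pi.zero_apply, sub_zero]
      | add u v hu hv =>
        simp only [map_add, Pi.add_apply, hu, hv]
        abel
      | tmul r s =>
        rw [LinearMap.lTensor_tmul, TensorProduct.piRight_apply, TensorProduct.piRightHom_tmul,
          TensorProduct.piRight_apply, TensorProduct.piRightHom_tmul, κ_tmul, κ_tmul, κ_tmul, res_smul, res_smul,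
          ← pb_comp, ← pb_comp, hl₁a, hl₂a, ← res_comp, ← res_comp, hl₁b, hl₂b, res_comp, res_comp, ← smul_sub,
          ← map_sub]
        rfl
    rw [e₂, LinearEquiv.apply_symm_apply, ht, ht, TensorProduct.piRight_apply, TensorProduct.piRightHom_tmul, κ_tmul,
      map_one, one_smul]
    apply sapp_injective Q.f Y
    have hneg : ∀ {V W : EtOver X} (l : V ⟶ W) (x : sectModEt M W),
        sapp Q.f V (res M l (-x)) = - res Q.X₂ l (sapp Q.f W x) := fun l x => by
      rw [map_neg, map_neg, sapp_res]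
    rw [map_sub, hneg, hneg, sapp_res, hd, hd, hd, map_sub, map_sub, map_sub, ← res_comp, ← res_comp, ← res_comp,
      ← res_comp, ← res_comp, ← res_comp, hl₁a, hl₂a, hl₁b, hl₂b]
    abel
  obtain ⟨b, hb⟩ := key
  refine ⟨b, fun i j V p q h => ?_⟩
  obtain ⟨l, hl₁, hl₂⟩ := hZl (i, j) p q h
  rw [← hl₁, ← hl₂, res_comp, res_comp]
  refine congrArg (res Q.X₂ l) ?_
  have h' := congrArg (sapp Q.f (Z (i, j))) (congrFun hb (i, j))
  rw [hd] at h'
  change sapp Q.f _ (res M (r₁ (i, j)) (b i) - res M (r₂ (i, j)) (b j)) = _ at h'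
  rw [map_sub, sapp_res, sapp_res] at h'
  rw [map_sub, map_sub, ← sub_eq_zero]
  have h'' := sub_eq_zero.2 h'
  refine Eq.trans ?_ (neg_eq_zero.2 h'')
  abel

/-- Sections over affine objects are exact on the right when the kernel is cartesian. -/
theorem sapp_surjective (Q : ShortComplex (ModEt X)) (hQ : Q.ShortExact)
    (hM : ∀ T : EtOver X, IsAffine T.obj.left.left → CartAt Q.X₁ T) (E : EtOver X) [IsAffine E.obj.left.left] :
    Function.Surjective (sapp Q.g E) := by
  intro x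
  have := hQ.mono_f
  have := hQ.epi_g
  obtain ⟨R, hR, hx⟩ := Free.locally_mem_range_of_epi Q.g (T := E) x
  obtain ⟨ι, hι, F, hF, e, hm, hc⟩ := exists_finite_affine_cover (T := E) R hR
  choose y hy using fun i => hx (e i) (hm i)
  obtain ⟨b, hb⟩ := exists_correction Q hQ.exact F e hc hM y fun i j V p q h => by
    rw [map_sub, sapp_res, sapp_res, show sapp Q.g (F i) (y i) = res Q.X₃ (e i) x from hy i,
      show sapp Q.g (F j) (y j) = res Q.X₃ (e j) x from hy j, ← res_comp, ← res_comp, h, sub_self]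
  obtain ⟨z, hz⟩ := exists_glue Q.X₂ F e hc (fun i => y i - sapp Q.f _ (b i)) hb
  refine ⟨z, sect_ext' Q.X₃ F e hc fun i => ?_⟩
  rw [← sapp_res, hz, map_sub, (sapp_exact Q hQ.exact (F i)).apply_apply_eq_zero, sub_zero]
  exact hy i

variable (Q : ShortComplex (ModEt X)) {E T : EtOver X} [IsAffine E.obj.left.left] [IsAffine T.obj.left.left]
  (g : T ⟶ E)

theorem cartMap_X₁ [Mono Q.f] (hQ : Q.Exact) (h₂ : CartMap Q.X₂ g) (h₃ : CartMap Q.X₃ g) : CartMap Q.X₁ g := by
  let := (pb g).toAlgebra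
  have : Module.Flat (gam E) (gam T) := flat_pb g
  have hinj := Module.Flat.lTensor_preserves_injective_linearMap (M := gam T) _ (sapp_injective Q.f E)
  refine ⟨fun t t' h => hinj (h₂.1 ?_), fun x => ?_⟩
  · rw [θ_naturality, θ_naturality, h]
  · obtain ⟨t, ht⟩ := h₂.2 (sapp Q.f T x)
    have h0 : (sapp Q.g E).lTensor (gam T) t = 0 := h₃.1 (by
      rw [θ_naturality, ht, (sapp_exact Q hQ T).apply_apply_eq_zero, map_zero])
    obtain ⟨s, hs⟩ := ((Module.Flat.lTensor_exact (gam T) (sapp_exact Q hQ E)) t).1 h0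
    exact ⟨s, sapp_injective Q.f T (by rw [← θ_naturality, hs, ht])⟩

theorem cartMap_X₃ (hQ : Q.ShortExact) (hE : Function.Surjective (sapp Q.g E)) (hT : Function.Surjective (sapp Q.g T))
    (h₁ : CartMap Q.X₁ g) (h₂ : CartMap Q.X₂ g) : CartMap Q.X₃ g := by
  let := (pb g).toAlgebra
  have := hQ.mono_f
  refine ⟨(injective_iff_map_eq_zero _).2 fun t ht => ?_, fun x => ?_⟩
  · obtain ⟨t', rfl⟩ := LinearMap.lTensor_surjective (gam T) hE t
    rw [θ_naturality] at ht
    obtain ⟨x₁, hx₁⟩ := (sapp_exact Q hQ.exact T _).1 ht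
    obtain ⟨s, rfl⟩ := h₁.2 x₁
    rw [← θ_naturality] at hx₁
    rw [← h₂.1 hx₁, ← LinearMap.comp_apply, ← LinearMap.lTensor_comp,
      (sapp_exact Q hQ.exact E).linearMap_comp_eq_zero, LinearMap.lTensor_zero, LinearMap.zero_apply]
  · obtain ⟨x₂, rfl⟩ := hT x
    obtain ⟨t, rfl⟩ := h₂.2 x₂
    exact ⟨(sapp Q.g E).lTensor (gam T) t, θ_naturality _ _ _⟩

theorem cartMap_X₂ (hQ : Q.ShortExact) (hE : Function.Surjective (sapp Q.g E))
    (h₁ : CartMap Q.X₁ g) (h₃ : CartMap Q.X₃ g) : CartMap Q.X₂ g := by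
  let := (pb g).toAlgebra
  have := hQ.mono_f
  have : Module.Flat (gam E) (gam T) := flat_pb g
  refine ⟨(injective_iff_map_eq_zero _).2 fun t ht => ?_, fun x => ?_⟩
  · have h0 : (sapp Q.g E).lTensor (gam T) t = 0 := h₃.1 (by rw [θ_naturality, ht, map_zero, map_zero])
    obtain ⟨s, rfl⟩ := ((Module.Flat.lTensor_exact (gam T) (sapp_exact Q hQ.exact E)) t).1 h0
    rw [θ_naturality] at ht
    rw [(injective_iff_map_eq_zero _).1 h₁.1 s (sapp_injective Q.f T (by rw [ht, map_zero])), map_zero]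
  · obtain ⟨t₃, ht₃⟩ := h₃.2 (sapp Q.g T x)
    obtain ⟨t, rfl⟩ := LinearMap.lTensor_surjective (gam T) hE t₃
    rw [θ_naturality] at ht₃
    obtain ⟨x₁, hx₁⟩ := (sapp_exact Q hQ.exact T (x - θ Q.X₂ g t)).1 (by rw [map_sub, ht₃, sub_self])
    obtain ⟨s, rfl⟩ := h₁.2 x₁
    exact ⟨t + (sapp Q.f E).lTensor (gam T) s, by rw [map_add, θ_naturality, hx₁]; abel⟩

variable {Q}

theorem isQuasicoherent_X₁ (hQ : Q.ShortExact) (h₂ : Q.X₂.IsQuasicoherent) (h₃ : Q.X₃.IsQuasicoherent) :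
    Q.X₁.IsQuasicoherent :=
  have := hQ.mono_f
  isQuasicoherent_of_cartAt fun E _ T _ g => cartMap_X₁ Q g hQ.exact (cartAt Q.X₂ E T inferInstance g)
    (cartAt Q.X₃ E T inferInstance g)

theorem isQuasicoherent_X₃ (hQ : Q.ShortExact) (h₁ : Q.X₁.IsQuasicoherent) (h₂ : Q.X₂.IsQuasicoherent) :
    Q.X₃.IsQuasicoherent :=
  isQuasicoherent_of_cartAt fun E _ T _ g => cartMap_X₃ Q g hQ
    (sapp_surjective Q hQ (fun V _ => cartAt Q.X₁ V) E) (sapp_surjective Q hQ (fun V _ => cartAt Q.X₁ V) T)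
    (cartAt Q.X₁ E T inferInstance g) (cartAt Q.X₂ E T inferInstance g)

theorem isQuasicoherent_X₂ (hQ : Q.ShortExact) (h₁ : Q.X₁.IsQuasicoherent) (h₃ : Q.X₃.IsQuasicoherent) :
    Q.X₂.IsQuasicoherent :=
  isQuasicoherent_of_cartAt fun E _ T _ g => cartMap_X₂ Q g hQ
    (sapp_surjective Q hQ (fun V _ => cartAt Q.X₁ V) E)
    (cartAt Q.X₁ E T inferInstance g) (cartAt Q.X₃ E T inferInstance g)

theorem isQuasicoherent_X₁' (Q : ShortComplex (ModEt X)) [Mono Q.f] (hQ : Q.Exact) (h₂ : Q.X₂.IsQuasicoherent)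
    (h₃ : Q.X₃.IsQuasicoherent) : Q.X₁.IsQuasicoherent :=
  isQuasicoherent_of_cartAt fun E _ T _ g => cartMap_X₁ Q g hQ (cartAt Q.X₂ E T inferInstance g)
    (cartAt Q.X₃ E T inferInstance g)

/-- The complex of a kernel. -/
abbrev kerSeq {A B : ModEt X} (φ : A ⟶ B) : ShortComplex (ModEt X) := ShortComplex.mk _ _ (kernel.condition φ)

instance {A B : ModEt X} (φ : A ⟶ B) : Mono (kerSeq φ).f := inferInstanceAs (Mono (kernel.ι φ))

set_option maxHeartbeats 1000000 in
theorem kerSeq_exact {A B : ModEt X} (φ : A ⟶ B) : (kerSeq φ).Exact := by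
  refine ShortComplex.exact_of_f_is_kernel (kerSeq φ) ?_
  exact kernelIsKernel φ

theorem isQuasicoherent_kernel {A B : ModEt X} (φ : A ⟶ B) (hA : A.IsQuasicoherent) (hB : B.IsQuasicoherent) :
    (kernel φ).IsQuasicoherent := by
  exact isQuasicoherent_X₁' (kerSeq φ) (kerSeq_exact φ) hA hB

universe v w in
theorem cokernel_of_closed {C : Type w} [Category.{v} C] [Abelian C] (Pr : C → Prop)
    (hk : ∀ {A B : C} (f : A ⟶ B), Pr A → Pr B → Pr (kernel f))
    (h₃ : ∀ Q : ShortComplex C, Q.ShortExact → Pr Q.X₁ → Pr Q.X₂ → Pr Q.X₃)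
    {A B : C} (φ : A ⟶ B) (hA : Pr A) (hB : Pr B) : Pr (cokernel φ) := by
  have hi : Pr (Abelian.image φ) := h₃ (ShortComplex.mk (kernel.ι φ) (Abelian.factorThruImage φ) (by
      rw [← cancel_mono (Abelian.image.ι φ), Category.assoc, Abelian.image.fac, kernel.condition, zero_comp]))
    { exact := ShortComplex.exact_of_f_is_kernel _
        (isKernelOfComp (Abelian.image.ι φ) _ (kernelIsKernel φ) _ (Abelian.image.fac φ)) }
    (hk φ hA hB) hA
  exact h₃ (ShortComplex.mk (Abelian.image.ι φ) (cokernel.π φ) (kernel.condition _))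
    { exact := ShortComplex.exact_of_f_is_kernel _ (kernelIsKernel (cokernel.π φ)) } hi hB

theorem isQuasicoherent_cokernel {A B : ModEt X} (φ : A ⟶ B) (hA : A.IsQuasicoherent) (hB : B.IsQuasicoherent) :
    (cokernel φ).IsQuasicoherent :=
  cokernel_of_closed (fun M : ModEt X => M.IsQuasicoherent) (fun f h h' => isQuasicoherent_kernel f h h')
    (fun _ hQ h h' => isQuasicoherent_X₃ hQ h h') φ hA hB

end Groth.Agent.EtQCoh5
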