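import Groth.Agent.EtQCoh5.FTSub
import Groth.Agent.AlgSpQ4.Elementary
import Groth.Agent.AlgSpQ4.ElemCover
import Groth.Agent.AlgSpOne.Constr

/-!
# Extending quasi-coherent submodules of finite type across elementary distinguished charts
-/

set_option backward.isDefEq.respectTransparency false
set_option backward.isDefEq.respectTransparency.types false
set_option linter.style.haveILetI false

noncomputable section

universe u

open CategoryTheory CategoryTheory.Limits AlgebraicGeometry Opposite AlgSp TensorProduct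

namespace Groth.Agent.EtQCoh5

open Groth.Agent.AlgSpQ4 Groth.Agent.AlgSpQ4.MV Groth.Agent.AlgSpDec Groth.Agent.EtQCoh

variable {S : Scheme.{u}} {X : Sp S}

/-- The image of an object lies in a set of points. -/
def InQ (Q : Set (Points X)) (E : EtOver X) : Prop := Set.range (Points.ofPt E.obj.hom) ⊆ Q

theorem ofPt_hom {E T : EtOver X} (g : T ⟶ E) (t : ↥T.obj.left.left) :
    Points.ofPt T.obj.hom t = Points.ofPt E.obj.hom (g.hom.left.left t) := by
  rw [← EtOver.w g]
  exact AlgSpLib.ofPt_comp _ _ _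

theorem InQ.of_map {Q : Set (Points X)} {E T : EtOver X} (hE : InQ Q E) (g : T ⟶ E) : InQ Q T := by
  rintro _ ⟨t, rfl⟩
  rw [ofPt_hom g]
  exact hE ⟨_, rfl⟩

/-- An affine neighbourhood inside an open of an object. -/
theorem exists_affine_nbhd (E : EtOver X) (O : E.obj.left.left.Opens) (x : ↥E.obj.left.left) (hx : x ∈ O) :
    ∃ (V : EtOver X) (_ : IsAffine V.obj.left.left) (a : V ⟶ E),
      x ∈ Set.range a.hom.left.left ∧ Set.range a.hom.left.left ⊆ (O : Set ↥E.obj.left.left) ∧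
        IsOpenImmersion a.hom.left.left := by
  obtain ⟨O', hO', hxO', hle⟩ := exists_isAffineOpen_mem_and_subset (U := O) (x := x) hx
  exact ⟨etOpen E O', hO', etOpenι E O', (range_etOpenι E O').ge hxO', (range_etOpenι E O').le.trans hle,
    inferInstanceAs (IsOpenImmersion O'.ι)⟩

/-- Objects over the same point have a common affine refinement. -/
theorem exists_common (E W : EtOver X) (x : ↥E.obj.left.left) (w : ↥W.obj.left.left)
    (h : Points.ofPt W.obj.hom w = Points.ofPt E.obj.hom x) :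
    ∃ (V : EtOver X) (_ : IsAffine V.obj.left.left) (a : V ⟶ E) (_ : V ⟶ W), x ∈ Set.range a.hom.left.left := by
  have hW : RepWith @Etale W.obj.hom := W.property
  have sq := hW.rep.isPullback' E.obj.hom
  let t := hW.rep.snd E.obj.hom
  have ht : Etale t.left := hW.property_snd E.obj.hom
  let P : EtOver X := EtOver.mk ((yon S).map t ≫ E.obj.hom)
    (AlgSpLib.repWith_comp ((repWith_yon_map_iff _ _).2 ht) E.property)
  let c : P ⟶ E := EtOver.homMk t rfl
  let b : P ⟶ W := EtOver.homMk (hW.rep.fst' E.obj.hom) sq.w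
  obtain ⟨z, -, hz⟩ := AlgSpLib.exists_ofPt_of_eq sq h
  obtain ⟨V, hV, a, hza, -⟩ := exists_affine_nbhd P ⊤ z trivial
  obtain ⟨v, hv⟩ := hza
  exact ⟨V, hV, a ≫ c, a ≫ b, v, (congrArg c.hom.left.left hv).trans hz⟩

variable (M : ModEt X)

/-- A submodule of finite type over the affine objects with image in `Q`. -/
structure PSub (Q : Set (Points X)) where
  /-- the sections -/
  sub : ∀ E : EtOver X, IsAffine E.obj.left.left → InQ Q E → Submodule (gam E) (sectModEt M E)
  gen_eq : ∀ {E T : EtOver X} (hE : IsAffine E.obj.left.left) (hT : IsAffine T.obj.left.left)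
    (hEQ : InQ Q E) (hTQ : InQ Q T) (g : T ⟶ E), gen (sub E hE hEQ) g = sub T hT hTQ
  fg : ∀ (E : EtOver X) (hE : IsAffine E.obj.left.left) (hEQ : InQ Q E), (sub E hE hEQ).FG

variable {M} [M.IsQuasicoherent]

theorem exists_sub_of_family {Q : Set (Points X)} {J : Type*} (W : J → EtOver X)
    (N : ∀ j, Submodule (gam (W j)) (sectModEt M (W j))) (hN : ∀ j, (N j).FG)
    (hcov : ∀ q ∈ Q, ∃ j w, Points.ofPt (W j).obj.hom w = q)
    (hcompat : ∀ (j j' : J) (T : EtOver X) (_ : IsAffine T.obj.left.left) (k : T ⟶ W j) (k' : T ⟶ W j'),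
      gen (N j) k = gen (N j') k')
    (E : EtOver X) (hE : IsAffine E.obj.left.left) (hEQ : InQ Q E) :
    ∃ N₀ : Submodule (gam E) (sectModEt M E), N₀.FG ∧ ∀ (T : EtOver X) (_ : IsAffine T.obj.left.left) (a : T ⟶ E)
      (j : J) (k : T ⟶ W j), gen N₀ a = gen (N j) k := by
  obtain ⟨ι, hι, F, hF, e, hm, hc⟩ := exists_cover_of_sieve (T := E)
    (fun V _ => ∃ j, Nonempty (V ⟶ W j)) (fun V V' a b ⟨j, ⟨k⟩⟩ => ⟨j, ⟨b ≫ k⟩⟩) fun x => by
      obtain ⟨j, w, hw⟩ := hcov _ (hEQ ⟨x, rfl⟩)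
      obtain ⟨V, -, a, b, hx⟩ := exists_common E (W j) x w hw
      exact ⟨V, a, hx, j, ⟨b⟩⟩
  choose j hk using hm
  let k := fun i => (hk i).some
  haveI := hF
  obtain ⟨N₀, hfg, hgen⟩ := exists_descend F e hc (fun i => gen (N (j i)) (k i)) (fun i => gen_fg (hN _) _)
    fun i i' V hV a b _ => by rw [← gen_comp, ← gen_comp, hcompat (j i) (j i') V hV (a ≫ k i) (b ≫ k i')]
  refine ⟨N₀, hfg, fun T hT a j' k' => eq_of_locally fun x => ?_⟩
  obtain ⟨i, y, hy⟩ := hc (a.hom.left.left x)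
  obtain ⟨V, hV, c, l, hlw, hp, -⟩ := exists_affine_pullback a (e i)
  obtain ⟨v, hv, -⟩ := Scheme.exists_preimage_of_isPullback hp x y hy.symm
  refine ⟨V, c, ⟨v, hv⟩, ?_⟩
  rw [← gen_comp, hlw, gen_comp, hgen, ← gen_comp, ← gen_comp, hcompat (j i) j' V hV (l ≫ k i) (c ≫ k')]

/-- Compatible submodules on a covering family define a submodule. -/
theorem exists_psub_of_family {Q : Set (Points X)} {J : Type*} (W : J → EtOver X)
    (N : ∀ j, Submodule (gam (W j)) (sectModEt M (W j))) (hN : ∀ j, (N j).FG)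
    (hcov : ∀ q ∈ Q, ∃ j w, Points.ofPt (W j).obj.hom w = q)
    (hcompat : ∀ (j j' : J) (T : EtOver X) (_ : IsAffine T.obj.left.left) (k : T ⟶ W j) (k' : T ⟶ W j'),
      gen (N j) k = gen (N j') k') :
    ∃ B : PSub M Q, ∀ (j : J) (hj : IsAffine (W j).obj.left.left) (hjQ : InQ Q (W j)), B.sub (W j) hj hjQ = N j := by
  choose sub hfg hspec using exists_sub_of_family W N hN hcov hcompat
  refine ⟨{ sub := sub, fg := hfg, gen_eq := fun {E T} hE hT hEQ hTQ g => eq_of_locally fun x => ?_ },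
    fun j hj hjQ => ?_⟩
  · obtain ⟨j, w, hw⟩ := hcov _ (hTQ ⟨x, rfl⟩)
    obtain ⟨V, hV, a, b, hx⟩ := exists_common T (W j) x w hw
    exact ⟨V, a, hx, by rw [← gen_comp, hspec E hE hEQ V hV (a ≫ g) j b, hspec T hT hTQ V hV a j b]⟩
  · have := hspec (W j) hj hjQ (W j) hj (𝟙 _) j (𝟙 _)
    rwa [gen_id, gen_id] at this

theorem isLocalization_etOpen (V : EtOver X) [IsAffine V.obj.left.left] (f : gam V) :
    letI := (pb (etOpenι V (V.obj.left.left.basicOpen f))).toAlgebra
    IsLocalization.Away f (gam (etOpen V (V.obj.left.left.basicOpen f))) := by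
  let O := V.obj.left.left.basicOpen f
  letI := (pb (etOpenι V O)).toAlgebra
  haveI := (isAffineOpen_top V.obj.left.left).isLocalization_basicOpen f
  refine IsLocalization.isLocalization_of_algEquiv (Submonoid.powers f) (S := Γ(V.obj.left.left, O))
    { O.topIso.commRingCatIsoToRingEquiv.symm with
      commutes' := fun a => ?_ }
  show O.topIso.inv ((V.obj.left.left.presheaf.map (homOfLE le_top).op) a) = O.ι.appTop a
  rw [← CommRingCat.comp_apply]
  congr 2
  rw [Scheme.Opens.ι_appTop, Scheme.Opens.topIso_inv, ← Functor.map_comp]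
  rfl

set_option maxHeartbeats 2000000 in
/-- Extension of submodules of finite type from a quasi-compact open of an affine object. -/
theorem exists_fg_extension (V : EtOver X) [IsAffine V.obj.left.left] {ι : Type u} [Finite ι] (f : ι → gam V)
    (N : ∀ i, Submodule (gam (etOpen V (V.obj.left.left.basicOpen (f i))))
      (sectModEt M (etOpen V (V.obj.left.left.basicOpen (f i)))))
    (hN : ∀ i, (N i).FG)
    (hcompat : ∀ (i i' : ι) (T : EtOver X) (_ : IsAffine T.obj.left.left)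
      (k : T ⟶ etOpen V (V.obj.left.left.basicOpen (f i))) (k' : T ⟶ etOpen V (V.obj.left.left.basicOpen (f i'))),
      k ≫ etOpenι V _ = k' ≫ etOpenι V _ → gen (N i) k = gen (N i') k')
    (s : Finset (sectModEt M V)) (hs : ∀ x ∈ s, ∀ i, res M (etOpenι V (V.obj.left.left.basicOpen (f i))) x ∈ N i) :
    ∃ N₀ : Submodule (gam V) (sectModEt M V), N₀.FG ∧ (↑s : Set (sectModEt M V)) ⊆ N₀ ∧
      ∀ i, gen N₀ (etOpenι V (V.obj.left.left.basicOpen (f i))) = N i := by
  classical
  have := Fintype.ofFinite ι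
  let E := fun i => etOpen V (V.obj.left.left.basicOpen (f i))
  let e : ∀ i, E i ⟶ V := fun i => etOpenι V (V.obj.left.left.basicOpen (f i))
  haveI hE : ∀ i, IsAffine (E i).obj.left.left := fun i => (isAffineOpen_top V.obj.left.left).basicOpen (f i)
  letI := fun i => (pb (e i)).toAlgebra
  letI : ∀ i, Module (gam V) (sectModEt M (E i)) := fun i => Module.compHom _ (pb (e i))
  haveI : ∀ i, IsScalarTower (gam V) (gam (E i)) (sectModEt M (E i)) := fun i =>
    ⟨fun a b x => mul_smul (pb (e i) a) b x⟩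
  haveI : ∀ i, IsLocalization.Away (f i) (gam (E i)) := fun i => isLocalization_etOpen V (f i)
  have hunit : ∀ i, IsUnit (pb (e i) (f i)) := fun i => IsLocalization.Away.algebraMap_isUnit (f i)
  have key : ∀ i, ∀ x ∈ N i, ∃ (n : ℕ) (y : sectModEt M V), res M (e i) y = pb (e i) (f i) ^ n • x ∧
      ∀ j, res M (e j) y ∈ N j := by
    intro i x hx
    obtain ⟨z, hz⟩ := (cartAt M V (E i) (hE i) (e i)).2 x
    haveI : IsLocalizedModule (Submonoid.powers (f i)) (TensorProduct.mk (gam V) (gam (E i)) (sectModEt M V) 1) :=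
      IsLocalization.tensorProduct_isLocalizedModule _ _
    obtain ⟨⟨y, _, n, rfl⟩, hy⟩ := IsLocalizedModule.surj (Submonoid.powers (f i))
      (TensorProduct.mk (gam V) (gam (E i)) (sectModEt M V) 1) z
    have hy' : res M (e i) y = pb (e i) (f i) ^ n • x := by
      have := congrArg (θ M (e i)) hy
      change θ M (e i) (f i ^ n • z) = θ M (e i) (1 ⊗ₜ y) at this
      rw [θ_tmul, one_smul, ← algebraMap_smul (gam (E i)) (f i ^ n) z, θ_smul, hz] at this
      rw [← this, ← map_pow]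
      rfl
    have hloc : ∀ j, ∃ m : ℕ, pb (e j) (f i) ^ m • res M (e j) y ∈ N j := fun j => by
      obtain ⟨W, hW, p, q, hw, hp, -⟩ := exists_affine_pullback (e i) (e j)
      let N' := (N j).restrictScalars (gam V)
      have h0 := mk_lTensor_eq_zero (e i) (e j) p q hw hp (N j) ((1 : gam (E i)) ⊗ₜ[gam V] res M (e j) y) (by
        rw [κ_tmul, map_one, one_smul, ← res_comp, ← hw, res_comp, hy', res_smul, ← hcompat i j W hW p q hw]
        exact Submodule.smul_mem _ _ (res_mem_gen p hx))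
      rw [LinearMap.lTensor_tmul] at h0
      haveI : IsLocalizedModule (Submonoid.powers (f i))
          (TensorProduct.mk (gam V) (gam (E i)) (sectModEt M (E j) ⧸ N') 1) :=
        IsLocalization.tensorProduct_isLocalizedModule _ _
      obtain ⟨⟨_, m, rfl⟩, hm⟩ := (IsLocalizedModule.eq_zero_iff (Submonoid.powers (f i))
        (TensorProduct.mk (gam V) (gam (E i)) (sectModEt M (E j) ⧸ N') 1)).1 h0
      refine ⟨m, ?_⟩
      have : Submodule.Quotient.mk (p := N') ((f i ^ m) • res M (e j) y) = 0 := hm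
      rw [Submodule.Quotient.mk_eq_zero] at this
      rw [← map_pow]
      exact this
    choose m hm using hloc
    refine ⟨n + ∑ j, m j, f i ^ (∑ j, m j) • y, ?_, fun j => ?_⟩
    · rw [res_smul, hy', map_pow, smul_smul, ← pow_add, add_comm]
    · obtain ⟨d, hd⟩ := Nat.exists_eq_add_of_le (Finset.single_le_sum (f := m) (fun _ _ => Nat.zero_le _) (Finset.mem_univ j))
      rw [res_smul, map_pow, hd, add_comm, pow_add, mul_smul]
      exact Submodule.smul_mem _ _ (hm j)
  choose A hA using hN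
  have hAm : ∀ i, ∀ x ∈ A i, x ∈ N i := fun i x hx => (hA i).le (Submodule.subset_span hx)
  choose n y hy hyN using key
  let G : Finset (sectModEt M V) := s ∪ Finset.univ.biUnion fun i => (A i).attach.image fun x => y i x.1 (hAm i x.1 x.2)
  refine ⟨Submodule.span (gam V) (G : Set (sectModEt M V)), ⟨G, rfl⟩,
    fun x hx => Submodule.subset_span (Finset.mem_union_left _ hx), fun i => ?_⟩
  rw [gen_span]
  refine le_antisymm (Submodule.span_le.2 ?_) ?_
  · rintro _ ⟨x, hx, rfl⟩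
    rcases Finset.mem_union.1 hx with hx | hx
    · exact hs x hx i
    · obtain ⟨l, -, hx⟩ := Finset.mem_biUnion.1 hx
      obtain ⟨a, -, rfl⟩ := Finset.mem_image.1 hx
      exact hyN l a.1 _ i
  · refine le_of_eq_of_le (hA i).symm (Submodule.span_le.2 fun x hx => ?_)
    let Z := Submodule.span (gam (E i)) (res M (e i) '' (G : Set (sectModEt M V)))
    have h1 : pb (e i) (f i) ^ n i x (hAm i x hx) • x ∈ Z := by
      rw [← hy i x (hAm i x hx)]
      exact Submodule.subset_span ⟨_, Finset.mem_union_right _ (Finset.mem_biUnion.2 ⟨i, Finset.mem_univ _,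
        Finset.mem_image.2 ⟨⟨x, hx⟩, Finset.mem_attach _ _, rfl⟩⟩), rfl⟩
    exact (Submodule.smul_mem_iff_of_isUnit Z ((hunit i).pow _)).1 h1

variable [QuasiSeparatedSpace ↥S]

set_option maxHeartbeats 2000000 in
/-- Extension across an elementary distinguished chart. -/
theorem exists_step (hX : IsAlgSpace X) (hqs : IsQuasiSeparatedSp X) {Q₁ : Set (Points X)} (hQo : IsOpen Q₁)
    (hQc : IsCompact Q₁) {A : Over S} [IsAffine A.left] (b : (yon S).obj A ⟶ X) (hb : RepWith @Etale b)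
    (hn : NoDbl b Q₁) (B₁ : PSub M Q₁) (s : Finset (sectModEt M (EtOver.mk b hb)))
    (hs : ∀ x ∈ s, ∀ (T : EtOver X) (hT : IsAffine T.obj.left.left) (hTQ : InQ Q₁ T) (k : T ⟶ EtOver.mk b hb),
      res M k x ∈ B₁.sub T hT hTQ) :
    ∃ B : PSub M (Q₁ ∪ Set.range (Points.ofPt b)),
      (∀ E hE (h₁ : InQ Q₁ E) h₂, B.sub E hE h₂ = B₁.sub E hE h₁) ∧
      ∀ x ∈ s, ∀ hV h₂, x ∈ B.sub (EtOver.mk b hb) hV h₂ := by
  classical
  let V : EtOver X := EtOver.mk b hb
  haveI hV : IsAffine V.obj.left.left := ‹IsAffine A.left›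
  let O : V.obj.left.left.Opens := ⟨Points.ofPt b ⁻¹' Q₁, hQo.preimage (Points.continuous_ofPt b)⟩
  have hOc : IsCompact (O : Set ↥V.obj.left.left) := AlgSpOne.isCompact_preimage_chart hX hqs hb hQc hQo
  obtain ⟨g, hgf, hgO⟩ := (TopologicalSpace.Opens.IsBasis.isCompact_open_iff_eq_finite_iUnion
    (fun g : gam V => V.obj.left.left.basicOpen g) (isBasis_basicOpen V.obj.left.left)
    (fun g => ((isAffineOpen_top V.obj.left.left).basicOpen g).isCompact) (O : Set ↥V.obj.left.left)).1 ⟨hOc, O.2⟩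
  haveI := hgf.to_subtype
  let f : g → gam V := fun i => i.1
  let E := fun i : g => etOpen V (V.obj.left.left.basicOpen (f i))
  let e : ∀ i, E i ⟶ V := fun i => etOpenι V (V.obj.left.left.basicOpen (f i))
  haveI hE : ∀ i, IsAffine (E i).obj.left.left := fun i => (isAffineOpen_top V.obj.left.left).basicOpen (f i)
  have hEQ : ∀ i, InQ Q₁ (E i) := fun i => by
    rintro _ ⟨t, rfl⟩
    rw [ofPt_hom (e i)]
    exact (hgO.ge (Set.mem_iUnion₂.2 ⟨i.1, i.2, (range_etOpenι V _).le ⟨t, rfl⟩⟩) : (e i).hom.left.left t ∈ O)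
  obtain ⟨N, hNfg, hsN, hN⟩ := exists_fg_extension V f (fun i => B₁.sub (E i) (hE i) (hEQ i)) (fun i => B₁.fg _ _ _)
    (fun i i' T hT k k' _ => by
      rw [B₁.gen_eq (hE i) hT (hEQ i) ((hEQ i).of_map k) k, B₁.gen_eq (hE i') hT (hEQ i') ((hEQ i).of_map k) k'])
    s fun x hx i => hs x hx (E i) (hE i) (hEQ i) (e i)
  -- the submodule on the chart agrees with the given one inside `Q₁`
  have hVQ : ∀ (T : EtOver X) (hT : IsAffine T.obj.left.left) (hTQ : InQ Q₁ T) (k : T ⟶ V),
      gen N k = B₁.sub T hT hTQ := fun T hT hTQ k => eq_of_locally fun x => by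
    have hx : k.hom.left.left x ∈ O := by
      show Points.ofPt V.obj.hom (k.hom.left.left x) ∈ Q₁
      rw [← ofPt_hom k]
      exact hTQ ⟨x, rfl⟩
    obtain ⟨g₀, hg₀, hx₀⟩ := Set.mem_iUnion₂.1 (hgO.le hx)
    obtain ⟨y, hy⟩ := (range_etOpenι V (V.obj.left.left.basicOpen (f ⟨g₀, hg₀⟩))).ge hx₀
    obtain ⟨W, hW, p, q, hw, hp, -⟩ := exists_affine_pullback k (e ⟨g₀, hg₀⟩)
    obtain ⟨w, hwx, -⟩ := Scheme.exists_preimage_of_isPullback hp x y hy.symm
    refine ⟨W, p, ⟨w, hwx⟩, ?_⟩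
    rw [← gen_comp, hw, gen_comp, hN, B₁.gen_eq _ hW (hEQ _) (hTQ.of_map p), B₁.gen_eq hT hW hTQ (hTQ.of_map p)]
  have hdiag : ∀ (T : EtOver X) (_ : IsAffine T.obj.left.left) (k k' : T ⟶ V), gen N k = gen N k' := by
    intro T hT k k'
    refine eq_of_locally fun x => ?_
    by_cases hx : Points.ofPt T.obj.hom x ∈ Q₁
    · obtain ⟨W, hW, a, hxa, hsub, -⟩ := exists_affine_nbhd T
        ⟨Points.ofPt T.obj.hom ⁻¹' Q₁, hQo.preimage (Points.continuous_ofPt _)⟩ x hx
      have hWQ : InQ Q₁ W := by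
        rintro _ ⟨t, rfl⟩
        rw [ofPt_hom a]
        exact hsub ⟨t, rfl⟩
      exact ⟨W, a, hxa, by rw [← gen_comp, ← gen_comp, hVQ W hW hWQ, hVQ W hW hWQ]⟩
    · have hkk : (yon S).map k.hom.left ≫ b = (yon S).map k'.hom.left ≫ b := (EtOver.w k).trans (EtOver.w k').symm
      have hres : resι x ≫ k.hom.left = resι x ≫ k'.hom.left := by
        refine hn _ _ _ ?_ fun t ht => hx ?_
        · rw [Functor.map_comp, Functor.map_comp, Category.assoc, Category.assoc, hkk]
        · rw [Functor.map_comp, Category.assoc, AlgSpLib.ofPt_comp, resι_apply] at ht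
          rwa [show (yon S).map k.hom.left ≫ b = T.obj.hom from EtOver.w k] at ht
      haveI : IsAffine A.left := hV
      obtain ⟨O', hxO', hO'⟩ := exists_open_eq hb k.hom.left k'.hom.left hkk x hres
      obtain ⟨W, hW, a, hxa, hsub, -⟩ := exists_affine_nbhd T O' x hxO'
      refine ⟨W, a, hxa, ?_⟩
      have hak : a ≫ k = a ≫ k' := EtOver.hom_ext _ _ (Over.OverMorphism.ext (by
        show a.hom.left.left ≫ k.hom.left.left = a.hom.left.left ≫ k'.hom.left.left
        rw [← IsOpenImmersion.lift_fac O'.ι a.hom.left.left (hsub.trans O'.range_ι.ge), Category.assoc,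
          Category.assoc, hO']))
      rw [← gen_comp, ← gen_comp, hak]
  let J := Option {E : EtOver X // IsAffine E.obj.left.left ∧ InQ Q₁ E}
  let W : J → EtOver X := fun j => Option.elim j V Subtype.val
  let NN : ∀ j, Submodule (gam (W j)) (sectModEt M (W j)) := fun j => match j with
    | none => N
    | some E => B₁.sub E.1 E.2.1 E.2.2
  obtain ⟨B, hB⟩ := exists_psub_of_family (Q := Q₁ ∪ Set.range (Points.ofPt b)) W NN
    (fun j => match j with
      | none => hNfg
      | some E => B₁.fg _ _ _)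
    (fun q hq => by
      obtain hq | ⟨v, hv⟩ := hq
      · obtain ⟨U, a, ha, has⟩ := hX.atlas
        obtain ⟨u, hu⟩ := AlgSpLib.surjective_ofPt has q
        obtain ⟨W', hW', c, ⟨w, hw⟩, hsub, -⟩ := exists_affine_nbhd (EtOver.mk a ha)
          ⟨Points.ofPt a ⁻¹' Q₁, hQo.preimage (Points.continuous_ofPt a)⟩ u (show Points.ofPt a u ∈ Q₁ from hu ▸ hq)
        refine ⟨some ⟨W', hW', ?_⟩, w, ?_⟩
        · rintro _ ⟨t, rfl⟩
          rw [ofPt_hom c]
          exact hsub ⟨t, rfl⟩
        · show Points.ofPt W'.obj.hom w = q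
          rw [ofPt_hom c, hw]
          exact hu
      · exact ⟨none, v, hv⟩)
    (fun j j' => by
      cases j with
      | none =>
        cases j' with
        | none => exact hdiag
        | some E' =>
          intro T hT k k'
          have hTQ : InQ Q₁ T := InQ.of_map E'.2.2 k'
          show gen N k = gen (B₁.sub E'.1 E'.2.1 E'.2.2) k'
          rw [hVQ T hT hTQ k]
          exact (B₁.gen_eq E'.2.1 hT E'.2.2 hTQ k').symm
      | some E' =>
        cases j' with
        | none =>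
          intro T hT k k'
          have hTQ : InQ Q₁ T := InQ.of_map E'.2.2 k
          show gen (B₁.sub E'.1 E'.2.1 E'.2.2) k = gen N k'
          rw [hVQ T hT hTQ k']
          exact B₁.gen_eq E'.2.1 hT E'.2.2 hTQ k
        | some E'' =>
          intro T hT k k'
          have hTQ : InQ Q₁ T := InQ.of_map E'.2.2 k
          exact (B₁.gen_eq E'.2.1 hT E'.2.2 hTQ k).trans (B₁.gen_eq E''.2.1 hT E''.2.2 hTQ k').symm)
  exact ⟨B, fun E hE h₁ h₂ => hB (some ⟨E, hE, h₁⟩) hE h₂, fun x hx hV h₂ => (hB none hV h₂).ge (hsN hx)⟩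

theorem exists_psub_empty : Nonempty (PSub M (∅ : Set (Points X))) := by
  obtain ⟨B, -⟩ := exists_psub_of_family (M := M) (Q := (∅ : Set (Points X))) (J := PEmpty.{1}) PEmpty.elim
    (fun j => j.elim) (fun j => j.elim) (fun q hq => hq.elim) (fun j => j.elim)
  exact ⟨B⟩

/-- A submodule of finite type on a quasi-compact open extends. -/
theorem exists_psub_extends (hX : IsAlgSpace X) (hqc : IsQuasiCompactSp X) (hqs : IsQuasiSeparatedSp X)
    {Q₀ : Set (Points X)} (hQo : IsOpen Q₀) (hQc : IsCompact Q₀) (A₀ : PSub M Q₀) :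
    ∃ B : PSub M (Set.univ : Set (Points X)), ∀ E hE (h₀ : InQ Q₀ E) h₁, B.sub E hE h₁ = A₀.sub E hE h₀ := by
  refine points_induction hX hqc hqs
    (fun Q => ∃ B : PSub M Q, ∀ E hE (h₀ : InQ Q₀ E) h₁, B.sub E hE h₁ = A₀.sub E hE h₀)
    Q₀ hQo hQc ⟨A₀, fun E hE h₀ h₁ => rfl⟩ ?_
  rintro Q₁ Q₂ V b ho hcpt hsub hV hb rfl hn ⟨B₁, hB₁⟩
  haveI := hV
  obtain ⟨B, hB, -⟩ := exists_step hX hqs ho hcpt b hb hn B₁ ∅ (fun x hx => absurd hx (Finset.notMem_empty x))
  exact ⟨B, fun E hE h₀ h₁ => (hB E hE (Set.Subset.trans h₀ hsub) h₁).trans (hB₁ E hE h₀ _)⟩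

set_option maxHeartbeats 1000000 in
/-- Finitely many sections lie in a submodule of finite type. -/
theorem exists_psub_containing (hX : IsAlgSpace X) (hqc : IsQuasiCompactSp X) (hqs : IsQuasiSeparatedSp X)
    {ι : Type u} [Finite ι] (E : ι → EtOver X) [∀ l, IsAffine (E l).obj.left.left] (s : ∀ l, sectModEt M (E l)) :
    ∃ B : PSub M (Set.univ : Set (Points X)), ∀ l, s l ∈ B.sub (E l) inferInstance (Set.subset_univ _) := by
  classical
  let P : Set (Points X) → Prop := fun Q => ∀ (ι : Type u) [Finite ι] (E : ι → EtOver X)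
    (hE : ∀ l, IsAffine (E l).obj.left.left) (hEQ : ∀ l, InQ Q (E l)) (s : ∀ l, sectModEt M (E l)),
      ∃ B : PSub M Q, ∀ l, s l ∈ B.sub (E l) (hE l) (hEQ l)
  refine points_induction hX hqc hqs P ∅ isOpen_empty isCompact_empty ?_ ?_ ι E inferInstance _ s
  · intro ι _ E hE hEQ s
    obtain ⟨B⟩ := exists_psub_empty (M := M)
    refine ⟨B, fun l => ?_⟩
    haveI := hE l
    exact mem_of_locally _ fun x => (hEQ l ⟨x, rfl⟩).elim
  rintro Q₁ Q₂ A b ho hcpt - hA hb rfl hn ih ι _ E hE hEQ s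
  haveI := hA
  let V : EtOver X := EtOver.mk b hb
  haveI hV : IsAffine V.obj.left.left := hA
  haveI := hE
  have hcov : ∀ l, ∃ (κ : Type u) (_ : Finite κ) (F : κ → EtOver X) (_ : ∀ i, IsAffine (F i).obj.left.left)
      (e : ∀ i, F i ⟶ E l), (∀ i, InQ Q₁ (F i) ∨ Nonempty (F i ⟶ V)) ∧
      ∀ x : ↥(E l).obj.left.left, ∃ i, x ∈ Set.range (e i).hom.left.left := fun l =>
    exists_cover_of_sieve (T := E l) (fun F _ => InQ Q₁ F ∨ Nonempty (F ⟶ V))
      (fun F F' a c h => h.imp (fun h => h.of_map c) fun ⟨k⟩ => ⟨c ≫ k⟩) fun x => by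
      by_cases hx : Points.ofPt (E l).obj.hom x ∈ Q₁
      · obtain ⟨W, -, a, hxa, hsub, -⟩ := exists_affine_nbhd (E l)
          ⟨Points.ofPt (E l).obj.hom ⁻¹' Q₁, ho.preimage (Points.continuous_ofPt _)⟩ x hx
        refine ⟨W, a, hxa, .inl ?_⟩
        rintro _ ⟨t, rfl⟩
        rw [ofPt_hom a]
        exact hsub ⟨t, rfl⟩
      · obtain ⟨v, hv⟩ := (hEQ l ⟨x, rfl⟩).resolve_left hx
        obtain ⟨W, -, a, c, hxa⟩ := exists_common (E l) V x v hv
        exact ⟨W, a, hxa, .inr ⟨c⟩⟩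
  choose κ hκ F hF e hm hc using hcov
  let Piece := Σ l, κ l
  haveI : ∀ l, Finite (κ l) := hκ
  haveI : Finite Piece := inferInstance
  have hgenV : ∀ p : Piece, ∃ T : Finset (sectModEt M V), ¬ InQ Q₁ (F p.1 p.2) → ∀ k : F p.1 p.2 ⟶ V,
      k = (if h : Nonempty (F p.1 p.2 ⟶ V) then h.some else k) →
        res M (e p.1 p.2) (s p.1) ∈ Submodule.span (gam (F p.1 p.2)) (res M k '' (T : Set (sectModEt M V))) := by
    intro p
    by_cases h : Nonempty (F p.1 p.2 ⟶ V)
    · let k := h.some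
      haveI := hF p.1 p.2
      letI := (pb k).toAlgebra
      have hcart : Function.Surjective (θ M k) := (cartAt M V (F p.1 p.2) (hF _ _) k).2
      obtain ⟨z, hz⟩ := hcart (res M (e p.1 p.2) (s p.1))
      letI : Module (gam V) (sectModEt M V) := sectModule M V
      obtain ⟨T, hT⟩ := TensorProduct.exists_finset (R := gam V) (M := gam (F p.1 p.2)) (N := sectModEt M V) z
      refine ⟨T.image Prod.snd, fun _ k' hk' => ?_⟩
      rw [dif_pos h] at hk'
      subst hk'
      rw [← hz, hT, map_sum]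
      refine Submodule.sum_mem _ fun w hw => ?_
      rw [θ_tmul]
      exact Submodule.smul_mem _ _ (Submodule.subset_span ⟨w.2, Finset.mem_image.2 ⟨w, hw, rfl⟩, rfl⟩)
    · exact ⟨∅, fun _ k => (h ⟨k⟩).elim⟩
  choose T hT using hgenV
  haveI : Fintype Piece := Fintype.ofFinite Piece
  let sV : Finset (sectModEt M V) := Finset.univ.biUnion T
  let O : V.obj.left.left.Opens := ⟨Points.ofPt b ⁻¹' Q₁, ho.preimage (Points.continuous_ofPt b)⟩
  have hOc : IsCompact (O : Set ↥V.obj.left.left) := AlgSpOne.isCompact_preimage_chart hX hqs hb hcpt ho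
  obtain ⟨g, hgf, hgO⟩ := (TopologicalSpace.Opens.IsBasis.isCompact_open_iff_eq_finite_iUnion
    (fun g : gam V => V.obj.left.left.basicOpen g) (isBasis_basicOpen V.obj.left.left)
    (fun g => ((isAffineOpen_top V.obj.left.left).basicOpen g).isCompact) (O : Set ↥V.obj.left.left)).1 ⟨hOc, O.2⟩
  haveI := hgf.to_subtype
  let D : g → EtOver X := fun i => etOpen V (V.obj.left.left.basicOpen i.1)
  have hDQ : ∀ i, InQ Q₁ (D i) := fun i => by
    rintro _ ⟨t, rfl⟩
    rw [ofPt_hom (etOpenι V (V.obj.left.left.basicOpen i.1))]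
    exact (hgO.ge (Set.mem_iUnion₂.2 ⟨i.1, i.2, (range_etOpenι V _).le ⟨t, rfl⟩⟩) :
      (etOpenι V (V.obj.left.left.basicOpen i.1)).hom.left.left t ∈ O)
  let I₁ : Type u := {p : Piece // InQ Q₁ (F p.1 p.2)} ⊕ (g × ULift.{u} (Fin sV.card))
  let E₁ : I₁ → EtOver X := Sum.elim (fun p => F p.1.1 p.1.2) fun q => D q.1
  obtain ⟨B₁, hB₁⟩ := ih I₁ E₁
    (fun j => match j with
      | .inl p => hF p.1.1 p.1.2
      | .inr q => (isAffineOpen_top V.obj.left.left).basicOpen q.1.1)
    (fun j => match j with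
      | .inl p => p.2
      | .inr q => hDQ q.1)
    (fun j => match j with
      | .inl p => res M (e p.1.1 p.1.2) (s p.1.1)
      | .inr q => res M (etOpenι V (V.obj.left.left.basicOpen q.1.1)) (sV.equivFin.symm q.2.down).1)
  obtain ⟨B, hB, hBs⟩ := exists_step hX hqs ho hcpt b hb hn B₁ sV fun x hx W hW hWQ k => by
    haveI := hW
    refine mem_of_locally _ fun w => ?_
    have hw : k.hom.left.left w ∈ O := by
      show Points.ofPt V.obj.hom (k.hom.left.left w) ∈ Q₁
      rw [← ofPt_hom k]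
      exact hWQ ⟨w, rfl⟩
    obtain ⟨g₀, hg₀, hw₀⟩ := Set.mem_iUnion₂.1 (hgO.le hw)
    obtain ⟨y, hy⟩ := (range_etOpenι V (V.obj.left.left.basicOpen g₀)).ge hw₀
    haveI : IsAffine (etOpen V (V.obj.left.left.basicOpen g₀)).obj.left.left :=
      (isAffineOpen_top V.obj.left.left).basicOpen g₀
    obtain ⟨Z, hZ, p, q, hpq, hp, -⟩ := exists_affine_pullback k (etOpenι V (V.obj.left.left.basicOpen g₀))
    obtain ⟨z, hz, -⟩ := Scheme.exists_preimage_of_isPullback hp w y hy.symm
    refine ⟨Z, p, ⟨z, hz⟩, ?_⟩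
    haveI : IsAffine (D ⟨g₀, hg₀⟩).obj.left.left := (isAffineOpen_top V.obj.left.left).basicOpen g₀
    rw [B₁.gen_eq hW hZ hWQ (hWQ.of_map p), ← res_comp, hpq, res_comp,
      ← B₁.gen_eq ‹IsAffine (D ⟨g₀, hg₀⟩).obj.left.left› hZ (hDQ ⟨g₀, hg₀⟩) (hWQ.of_map p) q]
    have h := hB₁ (.inr (⟨g₀, hg₀⟩, ⟨sV.equivFin ⟨x, hx⟩⟩))
    simp only [Equiv.symm_apply_apply] at h
    exact res_mem_gen q h
  refine ⟨B, fun l => mem_of_locally _ fun x => ?_⟩
  obtain ⟨i, hi⟩ := hc l x
  have hFQ : InQ (Q₁ ∪ Set.range (Points.ofPt b)) (F l i) := (hEQ l).of_map (e l i)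
  refine ⟨F l i, e l i, hi, ?_⟩
  rw [B.gen_eq (hE l) (hF l i) (hEQ l) hFQ]
  by_cases hQ : InQ Q₁ (F l i)
  · rw [hB _ _ hQ]
    exact hB₁ (.inl ⟨⟨l, i⟩, hQ⟩)
  · obtain ⟨k⟩ := (hm l i).resolve_left hQ
    have hVQ : InQ (Q₁ ∪ Set.range (Points.ofPt b)) V := Set.subset_union_right
    have hne : Nonempty (F l i ⟶ V) := ⟨k⟩
    rw [← B.gen_eq hV (hF l i) hVQ hFQ hne.some]
    refine Submodule.span_mono (Set.image_mono ?_) (hT ⟨l, i⟩ hQ hne.some (by rw [dif_pos hne]))
    exact fun y hy => hBs y (Finset.mem_biUnion.2 ⟨⟨l, i⟩, Finset.mem_univ _, hy⟩) hV hVQ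

end Groth.Agent.EtQCoh5
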