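import Groth.Agent.EtQCoh5.SubMod
import Groth.Agent.EtQCoh5.PushQcqs
import Groth.Agent.EtQCoh.PushAss
import Groth.Agent.EtQCoh.AnnSect

/-!
# Sections supported on a closed set with quasi-compact complement
-/

set_option backward.isDefEq.respectTransparency false
set_option backward.isDefEq.respectTransparency.types false
set_option linter.style.haveILetI false

noncomputable section

universe u

open CategoryTheory CategoryTheory.Limits AlgebraicGeometry Opposite AlgSp TensorProduct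

namespace Groth.Agent.EtQCoh5

open Groth.Agent.AlgSpQ4.MV Groth.Agent.AlgSpDec Groth.Agent.EtQCoh

theorem mem_zeroLocus_top_iff {W : Scheme.{u}} (I : Ideal Γ(W, ⊤)) (w : ↥W) :
    w ∈ W.zeroLocus (U := ⊤) (I : Set Γ(W, ⊤)) ↔ I ≤ primeAtPt W w := by
  rw [Scheme.mem_zeroLocus_iff]
  refine forall₂_congr fun a _ => ?_
  rw [W.mem_basicOpen a w trivial, primeAtPt, Ideal.mem_comap, IsLocalRing.mem_maximalIdeal, mem_nonunits_iff]

theorem zeroLocus_subset_iff {W : Scheme.{u}} [IsAffine W] (I J : Ideal Γ(W, ⊤)) :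
    W.zeroLocus (U := ⊤) (I : Set Γ(W, ⊤)) ⊆ W.zeroLocus (U := ⊤) (J : Set Γ(W, ⊤)) ↔ J ≤ I.radical := by
  constructor
  · intro h
    rw [Ideal.radical_eq_sInf]
    refine le_sInf fun P ⟨hIP, hP⟩ => ?_
    obtain ⟨w, rfl⟩ := primeAtPt_surjective (U := W) P
    exact (mem_zeroLocus_top_iff J w).1 (h ((mem_zeroLocus_top_iff I w).2 hIP))
  · intro h w hw
    rw [mem_zeroLocus_top_iff] at hw ⊢
    exact h.trans ((Ideal.radical_mono hw).trans (isPrime_primeAtPt W w).isRadical)

variable {S : Scheme.{u}} {X : Sp S}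

theorem mem_range_of_killed {M : ModEt X} [M.IsQuasicoherent] {E T : EtOver X} [IsAffine E.obj.left.left]
    [IsAffine T.obj.left.left] (g : T ⟶ E) {J : Ideal (gam E)} (hJ : J.FG)
    (N : Submodule (gam E) (sectModEt M E)) (hN : ∀ s, (∀ a ∈ J, a • s = 0) → s ∈ N) :
    letI := (pb g).toAlgebra
    ∀ t : gam T ⊗[gam E] sectModEt M E, (∀ a ∈ J, pb g a • θ M g t = 0) →
      t ∈ LinearMap.range (N.subtype.lTensor (gam T)) := by
  classical
  letI := (pb g).toAlgebra
  intro t ht
  have : Module.Flat (gam E) (gam T) := flat_pb g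
  obtain ⟨σ, hσ⟩ := hJ
  let μ : sectModEt M E →ₗ[gam E] (↥σ → sectModEt M E) := LinearMap.pi fun a => (a : gam E) • LinearMap.id
  let K : Submodule (gam E) (sectModEt M E) := LinearMap.ker μ
  have hK : K ≤ N := fun s hs => hN s fun a ha => by
    rw [← hσ] at ha
    have hle : Ideal.span (σ : Set (gam E)) ≤ Ideal.torsionOf (gam E) _ s :=
      Ideal.span_le.2 fun b hb => (Ideal.mem_torsionOf_iff _ _).2 (congrFun (LinearMap.mem_ker.1 hs) ⟨b, hb⟩)
    exact (Ideal.mem_torsionOf_iff _ _).1 (hle ha)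
  have e : ∀ (a : ↥σ) (x : gam T ⊗[gam E] sectModEt M E),
      TensorProduct.piRight (gam E) (gam E) (gam T) _ (μ.lTensor (gam T) x) a = pb g (a : gam E) • x := fun a x => by
    induction x with
    | zero => simp
    | add x y hx hy => simp only [map_add, Pi.add_apply, hx, hy, smul_add]
    | tmul r s =>
      rw [LinearMap.lTensor_tmul, TensorProduct.piRight_apply, TensorProduct.piRightHom_tmul,
        show pb g (a : gam E) • (r ⊗ₜ[gam E] s) = ((a : gam E) • r) ⊗ₜ[gam E] s from
          TensorProduct.smul_tmul' _ _ _]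
      exact (TensorProduct.smul_tmul (a : gam E) r s).symm
  have h0 : μ.lTensor (gam T) t = 0 := (TensorProduct.piRight (gam E) (gam E) (gam T) _).injective (funext fun a => by
    rw [e, map_zero]
    refine (cartAt M E T ‹_› g).1 ?_
    rw [θ_smul]
    exact (ht _ (hσ ▸ Ideal.subset_span a.2)).trans (map_zero (θ M g)).symm)
  obtain ⟨x, hx⟩ := (Module.Flat.lTensor_exact (gam T) (LinearMap.exact_subtype_ker_map μ) t).1 h0
  refine ⟨(Submodule.inclusion hK).lTensor (gam T) x, ?_⟩
  rw [← LinearMap.comp_apply, ← LinearMap.lTensor_comp]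
  exact hx

variable (T : Set (Points X))

/-- The inverse image of a set of points. -/
abbrev preT (W : EtOver X) : Set ↥W.obj.left.left := {w | Points.ofPt W.obj.hom w ∈ T}

theorem preT_map {E V : EtOver X} (g : V ⟶ E) (v : ↥V.obj.left.left) :
    v ∈ preT T V ↔ g.hom.left.left v ∈ preT T E := by
  show Points.ofPt V.obj.hom v ∈ T ↔ Points.ofPt E.obj.hom (g.hom.left.left v) ∈ T
  rw [ofPt_hom g v]

theorem exists_pow_le {W : EtOver X} [IsAffine W.obj.left.left] {I : Ideal (gam W)} (hI : I.FG)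
    (hIT : W.obj.left.left.zeroLocus (U := ⊤) (I : Set (gam W)) = preT T W) {A : Ideal (gam W)}
    (hA : W.obj.left.left.zeroLocus (U := ⊤) (A : Set (gam W)) ⊆ preT T W) : ∃ n, I ^ n ≤ A := by
  rw [← hIT, zeroLocus_subset_iff] at hA
  exact Ideal.exists_pow_le_of_le_radical_of_fg hA hI

theorem subset_of_pow_le {W : EtOver X} [IsAffine W.obj.left.left] {I : Ideal (gam W)}
    (hIT : W.obj.left.left.zeroLocus (U := ⊤) (I : Set (gam W)) = preT T W) {A : Ideal (gam W)} {n : ℕ}
    (h : I ^ n ≤ A) : W.obj.left.left.zeroLocus (U := ⊤) (A : Set (gam W)) ⊆ preT T W := by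
  rw [← hIT, zeroLocus_subset_iff]
  exact fun a ha => ⟨n, h (Ideal.pow_mem_pow ha n)⟩

/-- The sections supported in a set of points. -/
def suppSub (M : ModEt X) [M.IsQuasicoherent] : AffSub M where
  sub E hE :=
    { carrier := {s | E.obj.left.left.zeroLocus (U := ⊤) (annSect s : Set (gam E)) ⊆ preT T E}
      add_mem' := fun {a b} ha hb w hw => by
        rw [mem_zeroLocus_top_iff] at hw
        have hle : annSect a ⊓ annSect b ≤ annSect (a + b) := fun c hc => by
          rw [mem_annSect_iff', smul_add, (mem_annSect_iff' a c).1 hc.1, (mem_annSect_iff' b c).1 hc.2, add_zero]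
        rcases (isPrime_primeAtPt E.obj.left.left w).inf_le.1 (hle.trans hw) with h | h
        · exact ha ((mem_zeroLocus_top_iff _ w).2 h)
        · exact hb ((mem_zeroLocus_top_iff _ w).2 h)
      zero_mem' := fun w hw => by
        rw [mem_zeroLocus_top_iff, annSect_zero] at hw
        exact absurd (top_le_iff.1 hw) (isPrime_primeAtPt E.obj.left.left w).ne_top
      smul_mem' := fun r s hs w hw => hs ((mem_zeroLocus_top_iff _ w).2 (by
        have hle : annSect s ≤ annSect (r • s) := fun c hc => (mem_annSect_iff' (r • s) c).2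
          (by rw [smul_smul, mul_comm, mul_smul, (mem_annSect_iff' s c).1 hc, smul_zero])
        exact hle.trans ((mem_zeroLocus_top_iff _ w).1 hw))) }
  res_mem {E V} hE hV g {s} hs v hv := by
    rw [preT_map T g]
    refine hs ((mem_zeroLocus_top_iff _ _).2 ?_)
    rw [mem_zeroLocus_top_iff] at hv
    rw [← comap_primeAtPt]
    intro c hc
    exact hv ((mem_annSect_iff' _ _).2 (by rw [← res_smul, (mem_annSect_iff' s c).1 hc, map_zero]))
  locality {E} hE {s} ι Y hY g hc hs w hw := by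
    obtain ⟨j, y, rfl⟩ := hc w
    rw [← preT_map T (g j)]
    refine hs j ((mem_zeroLocus_top_iff _ _).2 ?_)
    have := hY j
    rw [annSect_res, Ideal.map_le_iff_le_comap, comap_primeAtPt]
    exact (mem_zeroLocus_top_iff _ _).1 hw

variable (hT : ∀ W : EtOver X, IsAffine W.obj.left.left →
  ∃ I : Ideal (gam W), I.FG ∧ W.obj.left.left.zeroLocus (U := ⊤) (I : Set (gam W)) = preT T W)

include hT

theorem isQuasicoherent_suppSub (M : ModEt X) [M.IsQuasicoherent] : (suppSub T M).toMod.IsQuasicoherent := by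
  refine AffSub.isQuasicoherent_toMod _ fun E V hE hV g => ?_
  letI := (pb g).toAlgebra
  intro t ht
  obtain ⟨I, hI, hIT⟩ := hT E hE
  have hIV : V.obj.left.left.zeroLocus (U := ⊤) ((I.map (pb g) : Ideal (gam V)) : Set (gam V)) = preT T V := by
    ext v
    rw [mem_zeroLocus_top_iff, Ideal.map_le_iff_le_comap, comap_primeAtPt, ← mem_zeroLocus_top_iff, hIT, preT_map T g]
  obtain ⟨n, hn⟩ := exists_pow_le T (hI.map _) hIV (A := annSect (θ M g t)) ht
  refine mem_range_of_killed g (hI.pow (n := n)) _ (fun s hs => ?_) t fun a ha => ?_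
  · exact subset_of_pow_le T hIT (A := annSect s) fun a ha => (mem_annSect_iff' s a).2 (hs a ha)
  · refine (mem_annSect_iff' _ _).1 (hn ?_)
    rw [← Ideal.map_pow]
    exact Ideal.mem_map_of_mem _ ha

theorem range_suppSub_eq_pow (M : ModEt X) [M.IsQuasicoherent] {W : EtOver X} (hW : IsAffine W.obj.left.left)
    (I : Ideal (gam W)) (hI : I.FG) (hIT : W.obj.left.left.zeroLocus (U := ⊤) (I : Set (gam W)) = preT T W) :
    Set.range ((suppSub T M).ι.val.app (op W)).hom =
      {x : sectModEt M W | ∃ n : ℕ, ∀ a ∈ I ^ n, (upΓ W a) • x = 0} := by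
  rw [AffSub.range_ι _ hW]
  ext x
  exact ⟨fun hx => (exists_pow_le T hI hIT hx).imp fun n hn a ha => (mem_annSect_iff' x a).1 (hn ha),
    fun ⟨n, hn⟩ => subset_of_pow_le T hIT fun a ha => (mem_annSect_iff' x a).2 (hn a ha)⟩

end Groth.Agent.EtQCoh5

namespace Groth.Agent.EtQCoh5

open Groth.Agent.AlgSpQ4.MV Groth.Agent.AlgSpDec Groth.Agent.EtQCoh

variable {S : Scheme.{u}} {U X : Sp S}

theorem exists_fg_zeroLocus {W : Scheme.{u}} [IsAffine W] (O : W.Opens) (hO : IsCompact (O : Set ↥W)) :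
    ∃ I : Ideal Γ(W, ⊤), I.FG ∧ W.zeroLocus (U := ⊤) (I : Set Γ(W, ⊤)) = (O : Set ↥W)ᶜ := by
  classical
  have key : ∀ x : ↥(O : Set ↥W), ∃ a : Γ(W, ⊤), W.basicOpen a ≤ O ∧ (x : ↥W) ∈ W.basicOpen a := fun x =>
    (isAffineOpen_top W).exists_basicOpen_le ⟨(x : ↥W), x.2⟩ trivial
  choose a hle hmem using key
  obtain ⟨s, hs⟩ := hO.elim_finite_subcover (fun x => (W.basicOpen (a x) : Set ↥W)) (fun x => (W.basicOpen (a x)).isOpen)
    fun x h => Set.mem_iUnion.2 ⟨⟨x, h⟩, hmem ⟨x, h⟩⟩
  refine ⟨Ideal.span ((s.image a : Finset Γ(W, ⊤)) : Set Γ(W, ⊤)), ⟨s.image a, rfl⟩, ?_⟩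
  ext w
  rw [mem_zeroLocus_top_iff, Ideal.span_le, Set.mem_compl_iff]
  constructor
  · intro h hw
    simp only [Set.subset_def, Set.mem_iUnion] at hs
    obtain ⟨x, hx, hwx⟩ := hs w hw
    have hp : a x ∈ primeAtPt W w := h (Finset.mem_image_of_mem a hx)
    have h' : w ∈ W.zeroLocus (U := ⊤) ((Ideal.span {a x} : Ideal Γ(W, ⊤)) : Set Γ(W, ⊤)) :=
      (mem_zeroLocus_top_iff _ w).2 (by rwa [Ideal.span_le, Set.singleton_subset_iff])
    rw [Scheme.mem_zeroLocus_iff] at h'
    exact h' (a x) (Ideal.mem_span_singleton_self _) hwx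
  · intro h b hb
    obtain ⟨x, -, rfl⟩ := Finset.mem_image.1 hb
    have : w ∉ W.basicOpen (a x) := fun hw => h (hle x hw)
    rw [W.mem_basicOpen (a x) w trivial] at this
    exact this

variable {j : U ⟶ X} (hj : RepWith @IsOpenImmersion j) (hjqc : IsQuasiCompactMor j)

include hj hjqc

theorem exists_fg_complement (W : EtOver X) (hW : IsAffine W.obj.left.left) :
    ∃ I : Ideal (gam W), I.FG ∧
      W.obj.left.left.zeroLocus (U := ⊤) (I : Set (gam W)) = preT (Set.range (Points.map j))ᶜ W := by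
  let π := (EtOver.bcπ hj.1 W).left
  have : IsOpenImmersion π := hj.property_snd W.obj.hom
  have : CompactSpace ↥(EtOver.bcObj hj.1 W).obj.left.left := compactSpace_bb hj.1 hjqc W
  obtain ⟨I, hI, hIO⟩ := exists_fg_zeroLocus π.opensRange (by
    rw [Scheme.Hom.coe_opensRange]
    exact isCompact_range π.continuous)
  refine ⟨I, hI, hIO.trans ?_⟩
  ext w
  show w ∉ Set.range π ↔ Points.ofPt W.obj.hom w ∉ Set.range (Points.map j)
  refine not_congr ⟨?_, ?_⟩
  · rintro ⟨z, rfl⟩
    exact ⟨_, ofPt_bcπ hj.1 W z⟩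
  · rintro ⟨y, hy⟩
    have h : Points.map j y = Points.map W.obj.hom (Points.ofScheme W.obj.left w) := by
      rw [hy, ← Points.ofPt_eq_map_ofScheme]
    obtain ⟨r, -, hr⟩ := AlgSpLib.exists_point_of_isPullback (hj.1.isPullback W.obj.hom) h
    rw [← Points.ofScheme_toScheme _ r, Points.map_ofPt, Category.id_comp] at hr
    have e := congrArg (Points.toScheme W.obj.left) hr
    rw [Points.toScheme_ofPt, Points.toScheme_ofScheme] at e
    exact ⟨_, e⟩

end Groth.Agent.EtQCoh5
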