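import Groth.Agent.EtQCoh5.FTUnion
import Groth.Agent.EtQCoh5.Supported
import Groth.Agent.EtQCoh.Supp
import Groth.Agent.AlgSpDec.QCohIdeal
import Groth.Agent.AlgSpDec.IdealFactor
import Groth.Agent.AlgSpLib.CartierRegular
import Groth.Agent.S10192
import Groth.Agent.AlgSpQ4.Induction

/-!
# Complements of quasi-compact open subspaces are cut out by ideals of finite type
-/

set_option backward.isDefEq.respectTransparency false
set_option backward.isDefEq.respectTransparency.types false
set_option linter.style.haveILetI false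

noncomputable section

universe u

open CategoryTheory CategoryTheory.Limits AlgebraicGeometry Opposite AlgSp TensorProduct

namespace Groth.Agent.EtQCoh5

open Groth.Agent.AlgSpQ4 Groth.Agent.AlgSpQ4.MV Groth.Agent.AlgSpDec Groth.Agent.EtQCoh

variable {S : Scheme.{u}} {X U : Sp S}

theorem res_unit {E T : EtOver X} (g : T ⟶ E) (a : sectModEt (unitModEt X) E) :
    unitEquiv T (res (unitModEt X) g a) = pb g (unitEquiv E a) := by
  letI := (pb g).toAlgebra
  have h := θ_unit (X := X) g (1 ⊗ₜ[gam E] a)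
  rw [θ_tmul, one_smul] at h
  refine h.trans ?_
  show algebraMap (gam E) (gam T) _ * 1 = _
  rw [mul_one]; rfl

/-- The submodule of the unit module given by a quasi-coherent family of ideals. -/
def idealSub (J : IdealEt X) (hJ : J.IsQCoh) : AffSub (unitModEt X) where
  sub E hE := Submodule.comap (unitEquiv E).toLinearMap (J.ideal E hE)
  res_mem {E T} hE hT g {s} hs := by
    show unitEquiv T (res _ g s) ∈ J.ideal T hT
    rw [res_unit]
    exact J.map_le g hE hT (Ideal.mem_map_of_mem _ hs)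
  locality {E} hE {s} ι Y hY g hc hs := by
    haveI := hE
    haveI := isQuasicoherent_unit (X := X)
    refine mem_of_locally (Submodule.comap (unitEquiv E).toLinearMap (J.ideal E hE)) fun x => ?_
    obtain ⟨j, hj⟩ := hc x
    refine ⟨Y j, g j, hj, ?_⟩
    have h := hJ (g j) hE (hY j) (hs j)
    have key : ∀ c ∈ (J.ideal E hE).map (pb (g j)), (unitEquiv (Y j)).symm c ∈
        gen (Submodule.comap (unitEquiv E).toLinearMap (J.ideal E hE)) (g j) := fun c hc => by
      induction hc using Submodule.span_induction with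
      | mem z hz =>
        obtain ⟨a, ha, rfl⟩ := hz
        have e : (unitEquiv (Y j)).symm (pb (g j) a) = res _ (g j) ((unitEquiv E).symm a) := by
          apply (unitEquiv (Y j)).injective
          rw [res_unit, LinearEquiv.apply_symm_apply, LinearEquiv.apply_symm_apply]
        rw [e]
        exact res_mem_gen (g j) (show unitEquiv E ((unitEquiv E).symm a) ∈ J.ideal E hE by
          rw [LinearEquiv.apply_symm_apply]; exact ha)
      | zero => rw [map_zero]; exact Submodule.zero_mem _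
      | add a b _ _ ha hb => rw [map_add]; exact Submodule.add_mem _ ha hb
      | smul a b _ hb => rw [map_smul]; exact Submodule.smul_mem _ _ hb
    have h' := key _ h
    exact ((unitEquiv (Y j)).symm_apply_apply _) ▸ h'

theorem isQuasicoherent_idealSub (J : IdealEt X) (hJ : J.IsQCoh) : (idealSub J hJ).toMod.IsQuasicoherent := by
  haveI := isQuasicoherent_unit (X := X)
  refine AffSub.isQuasicoherent_toMod _ fun E T hE hT g => ?_
  letI := (pb g).toAlgebra
  intro t ht
  let N := (idealSub J hJ).sub E hE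
  have key : ∀ c ∈ (J.ideal E hE).map (pb g), ∃ z : gam T ⊗[gam E] ↥N,
      unitEquiv T (θ (unitModEt X) g (N.subtype.lTensor (gam T) z)) = c := fun c hc => by
    induction hc using Submodule.span_induction with
    | mem z hz =>
      obtain ⟨a, ha, rfl⟩ := hz
      refine ⟨1 ⊗ₜ (⟨(unitEquiv E).symm a, show unitEquiv E ((unitEquiv E).symm a) ∈ J.ideal E hE by
        rw [LinearEquiv.apply_symm_apply]; exact ha⟩ : ↥N), ?_⟩
      rw [LinearMap.lTensor_tmul, θ_tmul, one_smul, res_unit]
      exact congrArg (pb g) ((unitEquiv E).apply_symm_apply a)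
    | zero => exact ⟨0, by simp⟩
    | add a b _ _ ha hb =>
      obtain ⟨x, hx⟩ := ha
      obtain ⟨y, hy⟩ := hb
      exact ⟨x + y, by rw [map_add, map_add, map_add, hx, hy]⟩
    | smul a b _ hb =>
      obtain ⟨x, rfl⟩ := hb
      exact ⟨a • x, by rw [show N.subtype.lTensor (gam T) (a • x) = a • N.subtype.lTensor (gam T) x from
        map_smul (N.subtype.baseChange (gam T)) a x, θ_smul, map_smul]⟩
  obtain ⟨z, hz⟩ := key _ (hJ g hE hT ht)
  exact ⟨z, (cartAt (unitModEt X) E T hT g).1 ((unitEquiv T).injective hz)⟩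

/-- The ideal on an affine object of a submodule of a family of ideals. -/
def idealOfSub {J : IdealEt X} {hJ : J.IsQCoh} [(idealSub J hJ).toMod.IsQuasicoherent]
    (B : PSub (idealSub J hJ).toMod (Set.univ : Set (Points X))) : IdealEt X where
  ideal E hE := (B.sub E hE (Set.subset_univ _)).map
    ((unitEquiv E).toLinearMap.comp (sapp (idealSub J hJ).ι E))
  map_le {E T} g hE hT := by
    rw [Ideal.map_le_iff_le_comap]
    rintro _ ⟨x, hx, rfl⟩
    refine ⟨res _ g x, (B.gen_eq hE hT _ _ g).le (res_mem_gen g hx), ?_⟩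
    show unitEquiv T (sapp _ T (res _ g x)) = pb g (unitEquiv E (sapp (idealSub J hJ).ι E x))
    rw [sapp_res, res_unit]

theorem isQCoh_idealOfSub {J : IdealEt X} {hJ : J.IsQCoh} [(idealSub J hJ).toMod.IsQuasicoherent]
    (B : PSub (idealSub J hJ).toMod (Set.univ : Set (Points X))) : (idealOfSub B).IsQCoh := by
  rintro E T g hE hT _ ⟨y, hy, rfl⟩
  have hy' := (B.gen_eq hE hT (Set.subset_univ _) (Set.subset_univ _) g).ge hy
  refine Submodule.span_induction (p := fun y _ =>
    ((unitEquiv T).toLinearMap.comp (sapp (idealSub J hJ).ι T)) y ∈ ((idealOfSub B).ideal E hE).map (pb g)) ?_ ?_ ?_ ?_ hy'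
  · rintro _ ⟨x, hx, rfl⟩
    rw [show ((unitEquiv T).toLinearMap.comp (sapp (idealSub J hJ).ι T)) (res _ g x) =
      pb g (unitEquiv E (sapp (idealSub J hJ).ι E x)) by
        show unitEquiv T (sapp _ T (res _ g x)) = _
        rw [sapp_res, res_unit]]
    exact Ideal.mem_map_of_mem _ ⟨x, hx, rfl⟩
  · rw [map_zero]; exact zero_mem _
  · intro a b _ _ ha hb; rw [map_add]; exact add_mem ha hb
  · intro a b _ hb; rw [map_smul]; exact Ideal.mul_mem_left _ _ hb

theorem zeroLocus_eq_preT {I : IdealEt X} {Z : Sp S} {i : Z ⟶ X} (hZ : IsCutOutBy I i) (E : EtOver X)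
    (hE : IsAffine E.obj.left.left) :
    E.obj.left.left.zeroLocus (U := ⊤) ((I.ideal E hE : Ideal (gam E)) : Set (gam E)) =
      preT (Set.range (Points.map i)) E := by
  ext u
  rw [mem_zeroLocus_top_iff]
  exact (mem_range_iff_ideal_le hZ E hE u).symm

variable [QuasiSeparatedSpace ↥S] (hX : IsAlgSpace X) (hqc : IsQuasiCompactSp X) (hqs : IsQuasiSeparatedSp X)
  (hU : IsAlgSpace U) {j : U ⟶ X} (hj : RepWith @IsOpenImmersion j)

include hX hqc hqs hU hj

theorem exists_fg_ideal_complement (hUqc : IsQuasiCompactSp U) :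
    ∃ (I : IdealEt X), I.IsQCoh ∧ (∀ (E : EtOver X) (hE : IsAffine E.obj.left.left), (I.ideal E hE).FG) ∧
      ∃ (Z : Space S) (i : Z.obj ⟶ X), IsCutOutBy I i ∧
        Set.range (Points.map i) = (Set.range (Points.map j))ᶜ := by
  classical
  let T : Set (Points X) := (Set.range (Points.map j))ᶜ
  have hTc : IsClosed T := (isOpen_range_openImm hX hj).isClosed_compl
  obtain ⟨Z₀, i₀, hi₀, hr₀, -⟩ := S10192.result ⟨X, hX⟩ T hTc
  let J : IdealEt X := idealOfRep hi₀.1
  have hJ₀ : IsCutOutBy J i₀.hom := ⟨hi₀, rfl⟩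
  have hJ : J.IsQCoh := AlgSpDec.isQCoh_idealOfRep hi₀.1 (AlgSpPts.isQuasiCompactMor_of_repWith ((repWith_iff _ _).2 ⟨hi₀.1, fun U V g a b h => by haveI : IsClosedImmersion b.left := ((repWith_iff _ _).1 hi₀).2 g a b h; exact inferInstance⟩))
  haveI := isQuasicoherent_idealSub J hJ
  obtain ⟨V, φ, hV, hφ, hφs⟩ := AlgSpLib.CartierRegular.exists_affine_atlas hX hqc
  let E : EtOver X := EtOver.mk φ hφ
  haveI hE : IsAffine E.obj.left.left := hV
  obtain ⟨I₀, hI₀, hI₀T⟩ := exists_fg_complement hj (AlgSpPts.isQuasiCompactMor_of_qc_qs hU hX hUqc hqs j) E hE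
  obtain ⟨n, hn⟩ := exists_pow_le T hI₀ hI₀T (A := J.ideal E hE) (by
    rw [zeroLocus_eq_preT hJ₀ E hE, hr₀])
  obtain ⟨G, hG⟩ := Ideal.FG.pow (n := n) hI₀
  have hlift : ∀ a : {a // a ∈ G}, ∃ x : sectModEt (idealSub J hJ).toMod E,
      unitEquiv E (sapp (idealSub J hJ).ι E x) = a.1 := fun a => by
    have hmem : (unitEquiv E).symm a.1 ∈ Set.range ((idealSub J hJ).ι.val.app (op E)).hom := by
      rw [AffSub.range_ι _ hE]
      show unitEquiv E ((unitEquiv E).symm a.1) ∈ J.ideal E hE
      rw [LinearEquiv.apply_symm_apply]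
      exact hn (hG.le (Ideal.subset_span a.2))
    obtain ⟨x, hx⟩ := hmem
    exact ⟨x, (congrArg (unitEquiv E) (show sapp (idealSub J hJ).ι E x = (unitEquiv E).symm a.1 from hx)).trans
      ((unitEquiv E).apply_symm_apply _)⟩
  choose s hs using hlift
  obtain ⟨B, hB⟩ := exists_psub_containing hX hqc hqs (M := (idealSub J hJ).toMod)
    (fun _ : ULift.{u} (Fin G.card) => E) fun l => s (G.equivFin.symm l.down)
  obtain ⟨Z, i, hZ⟩ := AlgSpDec.exists_isCutOutBy (isQCoh_idealOfSub B) hX
  refine ⟨idealOfSub B, isQCoh_idealOfSub B, fun E' hE' => (B.fg E' hE' _).map _, Z, i, hZ, ?_⟩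
  have hIle : I₀ ^ n ≤ (idealOfSub B).ideal E hE := by
    rw [← hG, Submodule.span_le]
    intro a ha
    refine ⟨s (G.equivFin.symm (G.equivFin ⟨a, ha⟩)), hB ⟨G.equivFin ⟨a, ha⟩⟩, ?_⟩
    rw [Equiv.symm_apply_apply]
    exact hs ⟨a, ha⟩
  have hJle : (idealOfSub B).ideal E hE ≤ J.ideal E hE := by
    rintro _ ⟨x, -, rfl⟩
    exact (AffSub.range_ι (idealSub J hJ) hE).le ⟨x, rfl⟩
  refine Set.Subset.antisymm (fun x hx => ?_) fun x hx => ?_
  all_goals obtain ⟨v, rfl⟩ := AlgSpLib.surjective_ofPt hφs x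
  · exact subset_of_pow_le T hI₀T hIle ((zeroLocus_eq_preT hZ E hE).ge (show v ∈ preT _ E from hx))
  · refine (mem_range_iff_ideal_le hZ E hE v).2 (hJle.trans ((mem_range_iff_ideal_le hJ₀ E hE v).1 ?_))
    rw [hr₀]
    exact hx

theorem isQuasiCompactSp_of_fg_ideal {I : IdealEt X}
    (hfg : ∀ (E : EtOver X) (hE : IsAffine E.obj.left.left), (I.ideal E hE).FG) {Z : Sp S} {i : Z ⟶ X}
    (hZ : IsCutOutBy I i) (hr : Set.range (Points.map i) = (Set.range (Points.map j))ᶜ) : IsQuasiCompactSp U := by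
  obtain ⟨V, φ, hV, hφ, hφs⟩ := AlgSpLib.CartierRegular.exists_affine_atlas hX hqc
  let E : EtOver X := EtOver.mk φ hφ
  haveI hE : IsAffine E.obj.left.left := hV
  refine AlgSpQ4.isQuasiCompactSp_of_range hX hU hj ?_
  obtain ⟨G, hG⟩ := hfg E hE
  let O : Set ↥E.obj.left.left := ⋃ g : {g // g ∈ G}, (E.obj.left.left.basicOpen g.1 : Set ↥E.obj.left.left)
  have hO : IsCompact O := isCompact_iUnion fun g => ((isAffineOpen_top E.obj.left.left).basicOpen g.1).isCompact
  have hzero : E.obj.left.left.zeroLocus (U := ⊤) ((I.ideal E hE : Ideal (gam E)) : Set (gam E)) = Oᶜ := by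
    ext v
    rw [mem_zeroLocus_top_iff, ← hG, Ideal.span_le, Set.mem_compl_iff, Set.mem_iUnion, not_exists]
    simp only [Set.subset_def, Subtype.forall, SetLike.mem_coe]
    refine forall₂_congr fun g _ => ?_
    rw [Scheme.mem_basicOpen E.obj.left.left g v trivial]
    exact ⟨fun h => h, fun h => (IsLocalRing.mem_maximalIdeal _).2 h⟩
  have : Set.range (Points.map j) = Points.ofPt φ '' O := by
    ext x
    constructor
    · intro hx
      obtain ⟨v, rfl⟩ := AlgSpLib.surjective_ofPt hφs x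
      refine ⟨v, ?_, rfl⟩
      by_contra hv
      have h1 : v ∈ preT (Set.range (Points.map i)) E := (zeroLocus_eq_preT hZ E hE).le (hzero.ge hv)
      exact (hr.le h1) hx
    · rintro ⟨v, hv, rfl⟩
      by_contra hx
      exact (hzero.le ((zeroLocus_eq_preT hZ E hE).ge (hr.ge hx))) hv
  rw [this]
  exact hO.image (Points.continuous_ofPt φ)

end Groth.Agent.EtQCoh5
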