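import Groth.Agent.EtQCoh5.FTExtend
import Groth.Agent.EtQCoh5.Largest
import Groth.Agent.EtQCoh5.FinLocFree

/-!
# Modules of finite type from submodules of finite type over affine objects
-/

set_option backward.isDefEq.respectTransparency false
set_option backward.isDefEq.respectTransparency.types false
set_option linter.style.haveILetI false

noncomputable section

universe u

open CategoryTheory CategoryTheory.Limits AlgebraicGeometry Opposite AlgSp TensorProduct

namespace Groth.Agent.EtQCoh5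

open Groth.Agent.AlgSpQ4 Groth.Agent.AlgSpQ4.MV Groth.Agent.AlgSpDec Groth.Agent.EtQCoh

variable {S : Scheme.{u}} {X U : Sp S}

set_option maxHeartbeats 1000000 in
set_option synthInstance.maxHeartbeats 100000 in
theorem isFiniteType_of_finite {M : ModEt X} [M.IsQuasicoherent]
    (h : ∀ E : EtOver X, IsAffine E.obj.left.left → Module.Finite (gam E) (sectModEt M E)) : M.IsFiniteType := by
  classical
  let I := {E : EtOver X // IsAffine E.obj.left.left}
  have hG : ∀ i : I, ∃ G : Finset (sectModEt M i.1), Submodule.span (gam i.1) (G : Set (sectModEt M i.1)) = ⊤ :=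
    fun i => (h i.1 i.2).fg_top
  choose G hG using hG
  have hepi : ∀ i : I, Epi (famMap M (U := i.1) fun x : {x // x ∈ G i} => x.1) := fun i => by
    refine epi_of_surjective _ fun {T} _ a y => ?_
    haveI := i.2
    letI := (pb a).toAlgebra
    have hy : (y : sectModEt M T) ∈ Submodule.span (gam T) (res M a '' (G i : Set (sectModEt M i.1))) := by
      rw [← gen_span, hG i]
      obtain ⟨t, rfl⟩ := (cartAt M i.1 T ‹_› a).2 y
      induction t with
      | zero => simp only [map_zero]; exact Submodule.zero_mem _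
      | add b c hb hc => simp only [map_add]; exact Submodule.add_mem _ hb hc
      | tmul r x =>
        rw [θ_tmul]
        exact Submodule.smul_mem _ _ (res_mem_gen a trivial)
    rw [show res M a '' (G i : Set (sectModEt M i.1)) = Set.range (fun x : {x // x ∈ G i} => res M a x.1) by
      ext z; simp] at hy
    obtain ⟨c, hc⟩ := Finsupp.mem_span_range_iff_exists_finsupp.1 hy
    refine ⟨ocomb _ a c, ?_⟩
    rw [famMap_ocomb, Finsupp.linearCombination_apply]
    exact hc
  let q : SheafOfModules.LocalGeneratorsData.{u + 1} M :=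
    { I := I
      X := fun i => i.1
      coversTop := fun T => by
        obtain ⟨ι, Y, hY, k, -, hc⟩ := exists_affine_open_cover T
        refine (etTop X).superset_covering ?_ (AlgSp.ofArrows_mem_etTop Y k hc)
        rw [Sieve.generate_le_iff]
        intro Z f hf
        obtain ⟨i⟩ := hf
        exact ⟨⟨_, hY i⟩, ⟨𝟙 _⟩⟩
      generators := fun i =>
        { I := {x // x ∈ G i}
          s := fun x => sectionsOfTop _ x.1
          epi := hepi i } }
  have hq : q.IsFiniteType := { isFiniteType := fun i => ⟨inferInstanceAs (Finite {x // x ∈ G i})⟩ }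
  exact { exists_localGeneratorsData := ⟨q, hq⟩ }

variable {M : ModEt X} [M.IsQuasicoherent] (B : PSub M (Set.univ : Set (Points X)))

/-- The compatible submodules of a submodule of finite type. -/
def PSub.toAffSub : AffSub M where
  sub E hE := B.sub E hE (Set.subset_univ _)
  res_mem {E T} hE hT g {s} hs := (B.gen_eq hE hT _ _ g).le (res_mem_gen g hs)
  locality {E} hE {s} ι Y hY g hc hs := by
    haveI := hE
    refine mem_of_locally _ fun x => ?_
    obtain ⟨j, hj⟩ := hc x
    exact ⟨Y j, g j, hj, (B.gen_eq hE (hY j) _ _ (g j)).ge (hs j)⟩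

theorem PSub.isQuasicoherent : B.toAffSub.toMod.IsQuasicoherent := by
  refine AffSub.isQuasicoherent_toMod _ fun E T hE hT g => ?_
  letI := (pb g).toAlgebra
  intro t ht
  have h := (B.gen_eq hE hT (Set.subset_univ _) (Set.subset_univ _) g).ge ht
  rw [gen_eq_range] at h
  obtain ⟨z, hz⟩ := h
  exact ⟨z, (cartAt M E T hT g).1 hz⟩

theorem PSub.mem_iff {E : EtOver X} (hE : IsAffine E.obj.left.left) (h : InQ Set.univ E) (s : sectModEt M E) :
    (∃ y, sapp B.toAffSub.ι E y = s) ↔ s ∈ B.sub E hE h :=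
  Set.ext_iff.1 (AffSub.range_ι B.toAffSub hE) s

theorem PSub.isFiniteType : B.toAffSub.toMod.IsFiniteType := by
  haveI := B.isQuasicoherent
  refine isFiniteType_of_finite fun E hE => ?_
  have hr : LinearMap.range (sapp B.toAffSub.ι E) = B.sub E hE (Set.subset_univ _) :=
    SetLike.ext fun s => B.mem_iff hE (Set.subset_univ _) s
  have : Module.Finite (gam E) ↥(LinearMap.range (sapp B.toAffSub.ι E)) :=
    Module.Finite.iff_fg.2 (hr.symm ▸ B.fg E hE _)
  exact Module.Finite.equiv (LinearEquiv.ofInjective _ (sapp_injective B.toAffSub.ι E)).symm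

theorem exists_lift_of_range {A A' C : ModEt X} (a : A ⟶ C) (b : A' ⟶ C) [Mono b]
    (h : ∀ E : EtOver X, IsAffine E.obj.left.left → ∀ x, ∃ y, sapp b E y = sapp a E x) :
    ∃ φ : A ⟶ A', φ ≫ b = a := by
  have h0 : a ≫ cokernel.π b = 0 := hom_ext_affine fun E hE x => by
    obtain ⟨y, hy⟩ := h E hE x
    show sapp (cokernel.π b) E (sapp a E x) = 0
    rw [← hy]
    exact congrArg (fun ψ : A' ⟶ cokernel b => sapp ψ E y) (cokernel.condition b)
  exact ⟨Abelian.monoLift b a h0, Abelian.monoLift_comp b a h0⟩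

theorem exists_iso_of_range {A A' C : ModEt X} (a : A ⟶ C) (b : A' ⟶ C) [Mono a] [Mono b]
    (h : ∀ E : EtOver X, IsAffine E.obj.left.left → ∀ x, ∃ y, sapp b E y = sapp a E x)
    (h' : ∀ E : EtOver X, IsAffine E.obj.left.left → ∀ x, ∃ y, sapp a E y = sapp b E x) :
    ∃ e : A ≅ A', e.hom ≫ b = a := by
  obtain ⟨φ, hφ⟩ := exists_lift_of_range a b h
  obtain ⟨ψ, hψ⟩ := exists_lift_of_range b a h'
  exact ⟨⟨φ, ψ, by rw [← cancel_mono a, Category.assoc, hψ, hφ, Category.id_comp],
    by rw [← cancel_mono b, Category.assoc, hφ, hψ, Category.id_comp]⟩, hφ⟩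

variable {j : U ⟶ X} (hj : IsEtaleMor j)

/-- A morphism of modules after restriction. -/
def restrMap {A A' : ModEt X} (φ : A ⟶ A') : restr hj A ⟶ restr hj A' :=
  haveI := PostcompSite.isContinuous j hj
  (SheafOfModules.pushforward.{u + 1} (EtPullRestrict.φ hj)).map φ

theorem restrEquiv_map {A A' : ModEt X} (φ : A ⟶ A') (E : EtOver U) (x : sectModEt (restr hj A) E) :
    restrEquiv hj A' E (sapp (restrMap hj φ) E x) =
      sapp φ ((EtOver.postcomp j hj).obj E) (restrEquiv hj A E x) := rfl

theorem mono_restrMap {A A' : ModEt X} (φ : A ⟶ A') [Mono φ] : Mono (restrMap hj φ) := by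
  refine ⟨fun {Z} f g e => hom_ext_affine fun E hE x => ?_⟩
  refine (restrEquiv hj A E).injective (sapp_injective φ _ ?_)
  rw [← restrEquiv_map, ← restrEquiv_map]
  exact congrArg (fun ψ : Z ⟶ restr hj A' => restrEquiv hj A' E (sapp ψ E x)) e

theorem pullIso_naturality (hrep : Representable j)
    [(SheafOfModules.pushforward.{u + 1} (bcRingHom hrep)).IsRightAdjoint] {A A' : ModEt X} (φ : A ⟶ A') :
    restrMap hj φ ≫ (pullIso hj hrep A').hom = (pullIso hj hrep A).hom ≫ (pullModEt hrep).map φ :=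
  haveI := PostcompSite.isContinuous j hj
  ((EtPullRestrict.modAdj hrep hj).leftAdjointUniq (pullPushAdjModEt hrep)).hom.naturality φ

set_option maxHeartbeats 2000000 in
/-- A submodule of finite type of a restriction gives a submodule on the image. -/
theorem exists_psub_of_restr [Mono j] {G : ModEt U} [G.IsQuasicoherent] [G.IsFiniteType]
    (hU : IsAlgSpace U) (g : G ⟶ restr hj M) :
    ∃ A₀ : PSub M (Set.range (Points.map j)), ∀ (E' : EtOver U) (hE' : IsAffine E'.obj.left.left) hQ s,
      s ∈ A₀.sub ((EtOver.postcomp j hj).obj E') hE' hQ ↔ ∃ x, restrEquiv hj M E' (sapp g E' x) = s := by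
  let J := {E' : EtOver U // IsAffine E'.obj.left.left}
  let ρ : ∀ E' : EtOver U, sectModEt G E' →ₗ[gam E'] sectModEt M ((EtOver.postcomp j hj).obj E') := fun E' =>
    (restrEquiv hj M E').toLinearMap.comp (sapp g E')
  let N : ∀ i : J, Submodule (gam ((EtOver.postcomp j hj).obj i.1)) (sectModEt M ((EtOver.postcomp j hj).obj i.1)) :=
    fun i => LinearMap.range (ρ i.1)
  have hgen : ∀ (E' T' : EtOver U) (_ : IsAffine E'.obj.left.left) (_ : IsAffine T'.obj.left.left) (k : T' ⟶ E'),
      gen (LinearMap.range (ρ E') : Submodule (gam ((EtOver.postcomp j hj).obj E')) _) ((EtOver.postcomp j hj).map k) =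
        (LinearMap.range (ρ T') : Submodule (gam ((EtOver.postcomp j hj).obj T')) _) := by
    intro E' T' hE' hT' k
    have hρ : ∀ x, res M ((EtOver.postcomp j hj).map k) (ρ E' x) = ρ T' (res G k x) := fun x => by
      show res M _ (restrEquiv hj M E' (sapp g E' x)) = restrEquiv hj M T' (sapp g T' (res G k x))
      rw [sapp_res, restrEquiv_res]
    refine le_antisymm (Submodule.span_le.2 ?_) ?_
    · rintro _ ⟨_, ⟨x, rfl⟩, rfl⟩
      exact ⟨res G k x, (hρ x).symm⟩
    · rintro _ ⟨y, rfl⟩
      letI := (pb k).toAlgebra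
      obtain ⟨t, rfl⟩ := (cartAt G E' T' hT' k).2 y
      induction t with
      | zero => simp only [map_zero]; exact Submodule.zero_mem _
      | add a b ha hb => simp only [map_add]; exact Submodule.add_mem _ ha hb
      | tmul r x =>
        rw [θ_tmul, map_smul, ← hρ]
        exact Submodule.smul_mem _ _ (res_mem_gen _ ⟨x, rfl⟩)
  obtain ⟨A₀, hA₀⟩ := exists_psub_of_family (Q := Set.range (Points.map j))
    (fun i : J => (EtOver.postcomp j hj).obj i.1) N
    (fun i => by
      haveI := i.2
      haveI := finite_sect G i.1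
      exact Module.Finite.iff_fg.1 (Module.Finite.range (ρ i.1)))
    (by
      rintro _ ⟨p, rfl⟩
      obtain ⟨W, a, ha, has⟩ := hU.atlas
      obtain ⟨w, rfl⟩ := AlgSpLib.surjective_ofPt has p
      obtain ⟨V, hV, c, ⟨v, hv⟩, -, -⟩ := exists_affine_nbhd (EtOver.mk a ha) ⊤ w trivial
      refine ⟨⟨V, hV⟩, v, ?_⟩
      show Points.ofPt (V.obj.hom ≫ j) v = Points.map j (Points.ofPt a w)
      rw [← Points.map_ofPt, ofPt_hom c, hv]
      rfl)
    (fun i i' T hT k k' => by
      have hw : (yon S).map k.hom.left ≫ i.1.obj.hom = (yon S).map k'.hom.left ≫ i'.1.obj.hom := by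
        rw [← cancel_mono j, Category.assoc, Category.assoc]
        exact (EtOver.w k).trans (EtOver.w k').symm
      have hk₀ : Etale k.hom.left.left := EtOver.etale_left k
      let T' : EtOver U := EtOver.mk ((yon S).map k.hom.left ≫ i.1.obj.hom)
        (AlgSpLib.repWith_comp ((repWith_yon_map_iff _ _).2 hk₀) i.1.property)
      let a : T' ⟶ i.1 := EtOver.homMk k.hom.left rfl
      let a' : T' ⟶ i'.1 := EtOver.homMk k'.hom.left hw.symm
      let c : T ⟶ (EtOver.postcomp j hj).obj T' := EtOver.homMk (𝟙 T.obj.left) (by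
        show (yon S).map (𝟙 T.obj.left) ≫ ((yon S).map k.hom.left ≫ i.1.obj.hom) ≫ j = T.obj.hom
        rw [(yon S).map_id, Category.id_comp, Category.assoc]
        exact EtOver.w k)
      have hk : k = c ≫ (EtOver.postcomp j hj).map a := EtOver.hom_ext _ _ (Category.id_comp _).symm
      have hk' : k' = c ≫ (EtOver.postcomp j hj).map a' := EtOver.hom_ext _ _ (Category.id_comp _).symm
      rw [hk, hk', gen_comp, gen_comp, hgen i.1 T' i.2 hT a, hgen i'.1 T' i'.2 hT a'])
  exact ⟨A₀, fun E' hE' hQ s => by rw [hA₀ ⟨E', hE'⟩ hE' hQ]; rfl⟩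

set_option maxHeartbeats 2000000 in
/-- Quasi-coherent submodules of finite type extend from quasi-compact open subspaces. -/
theorem exists_extend_submodule [QuasiSeparatedSpace ↥S] (hX : IsAlgSpace X) (hqc : IsQuasiCompactSp X)
    (hqs : IsQuasiSeparatedSp X) (hU : IsAlgSpace U) (hUqc : IsQuasiCompactSp U) (hjo : RepWith @IsOpenImmersion j)
    [(SheafOfModules.pushforward.{u + 1} (bcRingHom hjo.1)).IsRightAdjoint]
    (G : ModEt U) [G.IsQuasicoherent] [G.IsFiniteType] (g : G ⟶ (pullModEt hjo.1).obj M) [Mono g] (hj : IsEtaleMor j) :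
    ∃ (G' : ModEt X) (g' : G' ⟶ M), Mono g' ∧ G'.IsQuasicoherent ∧ G'.IsFiniteType ∧
      ∃ e : (pullModEt hjo.1).obj G' ≅ G, e.hom ≫ g = (pullModEt hjo.1).map g' := by
  haveI : Mono j := mono_of_openImm hjo
  obtain ⟨A₀, hA₀⟩ := exists_psub_of_restr hj hU (g ≫ (pullIso hj hjo.1 M).inv)
  have hQc : IsCompact (Set.range (Points.map j)) := by
    have := (AlgSpPts.isQuasiCompactSp_iff hU).1 hUqc
    exact isCompact_range (Points.continuous_map j)
  obtain ⟨B, hB⟩ := exists_psub_extends hX hqc hqs (isOpen_range_openImm hX hjo) hQc A₀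
  refine ⟨B.toAffSub.toMod, B.toAffSub.ι, inferInstance, B.isQuasicoherent, B.isFiniteType, ?_⟩
  haveI := mono_restrMap hj B.toAffSub.ι
  have hnat := pullIso_naturality hj hjo.1 B.toAffSub.ι
  have hm : (pullModEt hjo.1).map B.toAffSub.ι =
      (pullIso hj hjo.1 B.toAffSub.toMod).inv ≫ restrMap hj B.toAffSub.ι ≫ (pullIso hj hjo.1 M).hom := by
    rw [hnat, Iso.inv_hom_id_assoc]
  haveI : Mono ((pullModEt hjo.1).map B.toAffSub.ι) := by rw [hm]; infer_instance
  have hQ : ∀ E' : EtOver U, InQ (Set.range (Points.map j)) ((EtOver.postcomp j hj).obj E') := fun E' => by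
    rintro _ ⟨t, rfl⟩
    exact ⟨Points.ofPt E'.obj.hom t, Points.map_ofPt _ _ t⟩
  have key : ∀ (E' : EtOver U) (hE' : IsAffine E'.obj.left.left) (z : sectModEt (restr hj M) E'),
      (∃ y, sapp (restrMap hj B.toAffSub.ι) E' y = z) ↔ ∃ x, sapp (g ≫ (pullIso hj hjo.1 M).inv) E' x = z := by
    intro E' hE' z
    have h1 := (B.mem_iff (E := (EtOver.postcomp j hj).obj E') hE' (Set.subset_univ _) (restrEquiv hj M E' z)).trans
      ((SetLike.ext_iff.1 (hB _ hE' (hQ E') (Set.subset_univ _)) _).trans (hA₀ E' hE' (hQ E') _))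
    constructor
    · rintro ⟨y, rfl⟩
      obtain ⟨x, hx⟩ := h1.1 ⟨restrEquiv hj B.toAffSub.toMod E' y, (restrEquiv_map hj _ E' y).symm⟩
      exact ⟨x, (restrEquiv hj M E').injective hx⟩
    · rintro ⟨x, hx⟩
      obtain ⟨y, hy⟩ := h1.2 ⟨x, congrArg _ hx⟩
      refine ⟨(restrEquiv hj B.toAffSub.toMod E').symm y, (restrEquiv hj M E').injective ?_⟩
      rw [restrEquiv_map, LinearEquiv.apply_symm_apply, hy]
  obtain ⟨e₀, he₀⟩ := exists_iso_of_range (restrMap hj B.toAffSub.ι) (g ≫ (pullIso hj hjo.1 M).inv)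
    (fun E hE x => (key E hE _).1 ⟨x, rfl⟩) (fun E hE x => (key E hE _).2 ⟨x, rfl⟩)
  refine ⟨(pullIso hj hjo.1 B.toAffSub.toMod).symm ≪≫ e₀, ?_⟩
  rw [hm, Iso.trans_hom, Category.assoc, Iso.symm_hom]
  congr 1
  rw [← he₀, Category.assoc, Category.assoc, Iso.inv_hom_id, Category.comp_id]

end Groth.Agent.EtQCoh5
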