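import Groth.Agent.EtQCoh5.Exact

/-!
# Submodules given by their sections over affine objects
-/

set_option backward.isDefEq.respectTransparency false
set_option backward.isDefEq.respectTransparency.types false
set_option linter.style.haveILetI false

noncomputable section

universe u

open CategoryTheory CategoryTheory.Limits AlgebraicGeometry Opposite AlgSp TensorProduct

namespace Groth.Agent.EtQCoh5

open Groth.Agent.AlgSpQ4.MV Groth.Agent.AlgSpDec Groth.Agent.EtQCoh

variable {S : Scheme.{u}} {X : Sp S}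

/-- Compatible submodules of the sections over affine objects. -/
structure AffSub (M : ModEt X) where
  /-- the submodule over an affine object -/
  sub : ∀ E : EtOver X, IsAffine E.obj.left.left → Submodule (gam E) (sectModEt M E)
  res_mem : ∀ {E T : EtOver X} (hE : IsAffine E.obj.left.left) (hT : IsAffine T.obj.left.left) (g : T ⟶ E)
    {s : sectModEt M E}, s ∈ sub E hE → res M g s ∈ sub T hT
  locality : ∀ {E : EtOver X} (hE : IsAffine E.obj.left.left) {s : sectModEt M E} (ι : Type u) (Y : ι → EtOver X)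
    (hY : ∀ j, IsAffine (Y j).obj.left.left) (g : ∀ j, Y j ⟶ E),
    (∀ x : ↥E.obj.left.left, ∃ j, x ∈ Set.range (g j).hom.left.left) →
      (∀ j, res M (g j) s ∈ sub (Y j) (hY j)) → s ∈ sub E hE

namespace AffSub

variable {M : ModEt X} (N : AffSub M)

/-- The sections over any object. -/
def ext' (E : EtOver X) : Submodule ((OEtRing X).obj.obj (op E)) (sectModEt M E) where
  carrier := {s | ∀ (T : EtOver X) (hT : IsAffine T.obj.left.left) (g : T ⟶ E), res M g s ∈ N.sub T hT}
  add_mem' {a b} ha hb T hT g := by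
    rw [map_add]
    exact (N.sub T hT).add_mem (ha T hT g) (hb T hT g)
  zero_mem' T hT g := by
    rw [map_zero]
    exact (N.sub T hT).zero_mem
  smul_mem' r s hs T hT g := by
    rw [show res M g (r • s) = pb g (ULift.down r) • res M g s from res_smul g (ULift.down r) s]
    exact (N.sub T hT).smul_mem _ (hs T hT g)

theorem mem_ext'_iff {E : EtOver X} (hE : IsAffine E.obj.left.left) (s : sectModEt M E) :
    s ∈ N.ext' E ↔ s ∈ N.sub E hE :=
  ⟨fun h => by simpa [res_id] using h E hE (𝟙 E), fun h _ hT g => N.res_mem hE hT g h⟩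

theorem res_mem' {E T : EtOver X} (g : T ⟶ E) {s : sectModEt M E} (h : s ∈ N.ext' E) : res M g s ∈ N.ext' T :=
  fun W hW k => by
    rw [← res_comp]
    exact h W hW (k ≫ g)

theorem exists_local_sieve {E : EtOver X} (R : Sieve E) (hR : R ∈ etTop X E) {s : sectModEt M E}
    (h : ∀ ⦃V : EtOver X⦄ (f : V ⟶ E), R f → res M f s ∈ N.ext' V) : s ∈ N.ext' E := by
  intro T hT g
  obtain ⟨ι, hι, Y, hY, k, hk, hc⟩ := exists_finite_affine_cover (T := T) (R.pullback g) ((etTop X).pullback_stable g hR)
  refine N.locality hT ι Y hY k hc fun j => ?_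
  rw [← res_comp]
  exact (N.mem_ext'_iff (hY j) _).1 (h _ (hk j))

/-- The submodule as a presheaf. -/
def psh : PresheafOfModules.{u + 1} (OEtRing X).obj where
  obj E := ModuleCat.of _ (N.ext' E.unop)
  map {E T} g := ModuleCat.ofHom
    (Y := (ModuleCat.restrictScalars ((OEtRing X).obj.map g).hom).obj (ModuleCat.of _ (N.ext' T.unop)))
    { toFun := fun s => ⟨res M g.unop s.1, N.res_mem' g.unop s.2⟩
      map_add' := fun a b => Subtype.ext (map_add (res M g.unop) a.1 b.1)
      map_smul' := fun r s => Subtype.ext (PresheafOfModules.map_smul M.val g r s.1) }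
  map_id E := ModuleCat.hom_ext (LinearMap.ext fun s => Subtype.ext (res_id M (W := E.unop) s.1))
  map_comp g h := ModuleCat.hom_ext (LinearMap.ext fun s => Subtype.ext (res_comp M h.unop g.unop s.1))

theorem isSheaf_psh : Presheaf.IsSheaf (etTop X) N.psh.presheaf := by
  refine (Presheaf.isSheaf_iff_isSheaf_forget _ _ (CategoryTheory.forget AddCommGrpCat.{u + 1})).2
    ((isSheaf_iff_isSheaf_of_type _ _).2 fun E R hR x hx => ?_)
  have hsh := ((isSheaf_iff_isSheaf_of_type _ _).1
    ((Presheaf.isSheaf_iff_isSheaf_forget _ _ (CategoryTheory.forget AddCommGrpCat.{u + 1})).1 M.isSheaf)) R hR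
  let x' : Presieve.FamilyOfElements (M.val.presheaf ⋙ CategoryTheory.forget AddCommGrpCat.{u + 1}) R.arrows :=
    fun V f hf => (x f hf : N.ext' V).1
  obtain ⟨t, ht, htu⟩ := hsh x' fun V₁ V₂ W g₁ g₂ f₁ f₂ h₁ h₂ e =>
    congrArg (fun z : N.ext' W => z.1) (hx g₁ g₂ h₁ h₂ e)
  have hmem : (t : sectModEt M E) ∈ N.ext' E := N.exists_local_sieve R hR fun V f hf => by
    rw [show res M f t = (x f hf : N.ext' V).1 from ht f hf]
    exact (x f hf : N.ext' V).2
  exact ⟨(⟨t, hmem⟩ : N.ext' E), fun V f hf => Subtype.ext (ht f hf),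
    fun t' ht' => Subtype.ext (htu (t' : N.ext' E).1 fun V f hf => congrArg (fun z : N.ext' V => z.1) (ht' f hf))⟩

/-- The submodule. -/
def toMod : ModEt X where
  val := N.psh
  isSheaf := N.isSheaf_psh

/-- The inclusion. -/
def ι : N.toMod ⟶ M where
  val :=
    { app := fun E => ModuleCat.ofHom (N.ext' E.unop).subtype
      naturality := fun _ => rfl }

instance : Mono N.ι where
  right_cancellation {Z} a b h := SheafOfModules.hom_ext (PresheafOfModules.hom_ext fun E =>
    ModuleCat.hom_ext (LinearMap.ext fun z => Subtype.ext (congrArg (fun k : Z ⟶ M => k.val.app E z) h)))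

theorem range_ι {E : EtOver X} (hE : IsAffine E.obj.left.left) :
    Set.range (N.ι.val.app (op E)).hom = (N.sub E hE : Set (sectModEt M E)) := by
  ext s
  refine ⟨?_, fun hs => ⟨(⟨s, (N.mem_ext'_iff hE s).2 hs⟩ : N.ext' E), rfl⟩⟩
  rintro ⟨z, rfl⟩
  exact (N.mem_ext'_iff hE _).1 (z : N.ext' E).2

theorem isQuasicoherent_toMod [M.IsQuasicoherent]
    (h : ∀ (E T : EtOver X) (hE : IsAffine E.obj.left.left) (hT : IsAffine T.obj.left.left) (g : T ⟶ E),
      letI := (pb g).toAlgebra
      ∀ t : gam T ⊗[gam E] sectModEt M E, θ M g t ∈ N.sub T hT →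
        t ∈ LinearMap.range ((N.sub E hE).subtype.lTensor (gam T))) :
    N.toMod.IsQuasicoherent := by
  refine isQuasicoherent_of_cartAt fun E hE T hT g => ⟨?_, fun y => ?_⟩
  · letI := (pb g).toAlgebra
    have : Module.Flat (gam E) (gam T) := flat_pb g
    refine (injective_iff_map_eq_zero _).2 fun t ht => ?_
    exact (map_eq_zero_iff _ (Module.Flat.lTensor_preserves_injective_linearMap _ (sapp_injective N.ι E))).1
      ((cartAt M E T hT g).1 (by rw [θ_naturality, ht, map_zero, map_zero]))
  · letI := (pb g).toAlgebra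
    obtain ⟨t, ht⟩ := (cartAt M E T hT g).2 (sapp N.ι T y)
    obtain ⟨s, hs⟩ := h E T hE hT g t (by
      rw [ht]
      exact (N.mem_ext'_iff hT _).1 (y : N.ext' T).2)
    let incl : N.sub E hE →ₗ[gam E] sectModEt N.toMod E :=
      { toFun := fun z => (⟨z.1, (N.mem_ext'_iff hE _).2 z.2⟩ : N.ext' E)
        map_add' := fun _ _ => rfl
        map_smul' := fun _ _ => rfl }
    refine ⟨incl.lTensor (gam T) s, sapp_injective N.ι T ?_⟩
    rw [← θ_naturality, ← LinearMap.comp_apply, ← LinearMap.lTensor_comp]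
    exact (congrArg (θ M g) hs).trans ht

end AffSub

/-- The sections annihilated by an ideal. -/
def annSub (M : ModEt X) (I : IdealEt X) (hI : I.IsQCoh) : AffSub M where
  sub E hE := Submodule.torsionBySet (gam E) (sectModEt M E) (I.ideal E hE : Set (gam E))
  res_mem {E T} hE hT g {s} hs := by
    rw [Submodule.mem_torsionBySet_iff] at hs ⊢
    rintro ⟨a, ha⟩
    have hle : (I.ideal E hE).map (pb g) ≤ Ideal.torsionOf (gam T) _ (res M g s) := by
      rw [Ideal.map_le_iff_le_comap]
      intro c hc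
      rw [Ideal.mem_comap, Ideal.mem_torsionOf_iff, ← res_smul, hs ⟨c, hc⟩, map_zero]
    exact (Ideal.mem_torsionOf_iff _ _).1 (hle (hI g hE hT ha))
  locality {E} hE {s} ι Y hY g hc hs := by
    rw [Submodule.mem_torsionBySet_iff]
    rintro ⟨a, ha⟩
    refine sect_ext' M Y g hc fun j => ?_
    rw [res_smul, map_zero]
    exact (Submodule.mem_torsionBySet_iff _ _).1 (hs j) ⟨_, I.map_le (g j) hE (hY j) (Ideal.mem_map_of_mem _ ha)⟩

set_option maxHeartbeats 1000000 in
theorem isQuasicoherent_annSub (M : ModEt X) [M.IsQuasicoherent] (I : IdealEt X) (hI : I.IsQCoh)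
    (hft : ∀ (E : EtOver X) (hE : IsAffine E.obj.left.left), (I.ideal E hE).FG) :
    (annSub M I hI).toMod.IsQuasicoherent := by
  classical
  refine AffSub.isQuasicoherent_toMod _ fun E T hE hT g => ?_
  letI := (pb g).toAlgebra
  intro t ht
  have : Module.Flat (gam E) (gam T) := flat_pb g
  obtain ⟨σ, hσ⟩ := hft E hE
  let μ : sectModEt M E →ₗ[gam E] (↥σ → sectModEt M E) := LinearMap.pi fun a => (a : gam E) • LinearMap.id
  have hex : Function.Exact ((annSub M I hI).sub E hE).subtype μ := by
    intro s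
    constructor
    · intro hs
      refine ⟨⟨s, (Submodule.mem_torsionBySet_iff _ _).2 ?_⟩, rfl⟩
      rintro ⟨a, ha⟩
      rw [← hσ] at ha
      have hle : Ideal.span (σ : Set (gam E)) ≤ Ideal.torsionOf (gam E) _ s :=
        Ideal.span_le.2 fun b hb => (Ideal.mem_torsionOf_iff _ _).2 (congrFun hs ⟨b, hb⟩)
      exact (Ideal.mem_torsionOf_iff _ _).1 (hle ha)
    · rintro ⟨⟨z, hz⟩, rfl⟩
      funext a
      exact (Submodule.mem_torsionBySet_iff _ _).1 hz ⟨a, hσ ▸ Ideal.subset_span a.2⟩
  refine (Module.Flat.lTensor_exact (gam T) hex t).1 ((TensorProduct.piRight (gam E) (gam E) (gam T) _).injective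
    (funext fun a => ?_))
  have e : ∀ x : gam T ⊗[gam E] sectModEt M E,
      TensorProduct.piRight (gam E) (gam E) (gam T) _ (μ.lTensor (gam T) x) a = pb g (a : gam E) • x := fun x => by
    induction x with
    | zero => simp
    | add x y hx hy => simp only [map_add, Pi.add_apply, hx, hy, smul_add]
    | tmul r s =>
      rw [LinearMap.lTensor_tmul, TensorProduct.piRight_apply, TensorProduct.piRightHom_tmul,
        show pb g (a : gam E) • (r ⊗ₜ[gam E] s) = ((a : gam E) • r) ⊗ₜ[gam E] s from
          TensorProduct.smul_tmul' _ _ _]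
      exact (TensorProduct.smul_tmul (a : gam E) r s).symm
  rw [e, map_zero]
  refine (cartAt M E T hT g).1 ?_
  rw [θ_smul]
  refine Eq.trans ?_ (map_zero (θ M g)).symm
  exact (Submodule.mem_torsionBySet_iff _ _).1 ht
    ⟨_, I.map_le g hE hT (Ideal.mem_map_of_mem _ (hσ ▸ Ideal.subset_span a.2))⟩

end Groth.Agent.EtQCoh5
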