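import Groth.Agent.EtQCoh5.Pull
import Groth.Agent.EtQCoh5.SubMod
import Groth.Agent.EtQCoh.FiniteSections
import Mathlib.RingTheory.Localization.BaseChange
import Mathlib.RingTheory.Finiteness.Basic

/-!
# Submodules of finite type given over affine objects in a set of points
-/

set_option backward.isDefEq.respectTransparency false
set_option backward.isDefEq.respectTransparency.types false
set_option linter.style.haveILetI false

noncomputable section

universe u

open CategoryTheory CategoryTheory.Limits AlgebraicGeometry Opposite AlgSp TensorProduct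

namespace Groth.Agent.EtQCoh5

open Groth.Agent.AlgSpQ4.MV Groth.Agent.AlgSpDec Groth.Agent.EtQCoh

variable {S : Scheme.{u}} {X : Sp S} {M : ModEt X}

/-- The submodule generated by the restrictions of a submodule. -/
def gen {W T : EtOver X} (N : Submodule (gam W) (sectModEt M W)) (g : T ⟶ W) : Submodule (gam T) (sectModEt M T) :=
  Submodule.span (gam T) (res M g '' (N : Set (sectModEt M W)))

theorem res_mem_gen {W T : EtOver X} {N : Submodule (gam W) (sectModEt M W)} (g : T ⟶ W) {s : sectModEt M W}
    (hs : s ∈ N) : res M g s ∈ gen N g :=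
  Submodule.subset_span ⟨s, hs, rfl⟩

theorem res_mem_span {W T : EtOver X} (A : Set (sectModEt M W)) (g : T ⟶ W) {s : sectModEt M W}
    (hs : s ∈ Submodule.span (gam W) A) : res M g s ∈ Submodule.span (gam T) (res M g '' A) := by
  induction hs using Submodule.span_induction with
  | mem x hx => exact Submodule.subset_span ⟨x, hx, rfl⟩
  | zero => rw [map_zero]; exact Submodule.zero_mem _
  | add x y _ _ hx hy => rw [map_add]; exact Submodule.add_mem _ hx hy
  | smul a x _ hx => rw [res_smul]; exact Submodule.smul_mem _ _ hx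

theorem gen_span {W T : EtOver X} (A : Set (sectModEt M W)) (g : T ⟶ W) :
    gen (Submodule.span (gam W) A) g = Submodule.span (gam T) (res M g '' A) := by
  refine le_antisymm (Submodule.span_le.2 ?_) (Submodule.span_mono (Set.image_mono Submodule.subset_span))
  rintro _ ⟨s, hs, rfl⟩
  exact res_mem_span A g hs

theorem gen_comp {W T T' : EtOver X} (N : Submodule (gam W) (sectModEt M W)) (h : T' ⟶ T) (g : T ⟶ W) :
    gen N (h ≫ g) = gen (gen N g) h := by
  refine Eq.trans ?_ (gen_span (res M g '' (N : Set (sectModEt M W))) h).symm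
  show Submodule.span _ _ = _
  congr 1
  rw [← Set.image_comp]
  exact Set.image_congr fun s _ => res_comp M h g s

theorem gen_id {W : EtOver X} (N : Submodule (gam W) (sectModEt M W)) : gen N (𝟙 W) = N := by
  show Submodule.span _ _ = _
  rw [Set.image_congr (fun s _ => res_id M s), Set.image_id', Submodule.span_eq]

theorem gen_mono {W T : EtOver X} {N N' : Submodule (gam W) (sectModEt M W)} (h : N ≤ N') (g : T ⟶ W) :
    gen N g ≤ gen N' g := Submodule.span_mono (Set.image_mono h)

theorem gen_fg {W T : EtOver X} {N : Submodule (gam W) (sectModEt M W)} (hN : N.FG) (g : T ⟶ W) : (gen N g).FG := by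
  classical
  obtain ⟨A, rfl⟩ := hN
  rw [gen_span]
  exact ⟨A.image (res M g), by rw [Finset.coe_image]⟩

theorem gen_eq_range {W T : EtOver X} (N : Submodule (gam W) (sectModEt M W)) (g : T ⟶ W) :
    letI := (pb g).toAlgebra
    gen N g = LinearMap.range ((θLin M g).comp (N.subtype.baseChange (gam T))) := by
  letI := (pb g).toAlgebra
  refine le_antisymm (Submodule.span_le.2 ?_) ?_
  · rintro _ ⟨s, hs, rfl⟩
    refine ⟨1 ⊗ₜ (⟨s, hs⟩ : N), ?_⟩
    rw [LinearMap.comp_apply, LinearMap.baseChange_tmul, θLin_apply, θ_tmul, one_smul]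
    rfl
  · rintro _ ⟨t, rfl⟩
    induction t with
    | zero => simp
    | add a b ha hb => rw [map_add]; exact Submodule.add_mem _ ha hb
    | tmul r s =>
      rw [LinearMap.comp_apply, LinearMap.baseChange_tmul, θLin_apply, θ_tmul]
      exact Submodule.smul_mem _ _ (res_mem_gen g s.2)

variable [M.IsQuasicoherent]

/-- Membership in a submodule may be tested on a covering. -/
theorem mem_of_locally {E : EtOver X} [IsAffine E.obj.left.left] (N : Submodule (gam E) (sectModEt M E))
    {s : sectModEt M E}
    (h : ∀ x : ↥E.obj.left.left, ∃ (V : EtOver X) (a : V ⟶ E),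
      x ∈ Set.range a.hom.left.left ∧ res M a s ∈ gen N a) : s ∈ N := by
  obtain ⟨ι, hι, F, hF, e, hm, hc⟩ := exists_cover_of_sieve (T := E) (fun V a => res M a s ∈ gen N a)
    (fun V V' a b hab => by rw [gen_comp, res_comp]; exact res_mem_gen b hab) h
  letI := fun i => (pb (e i)).toAlgebra
  suffices s ∈ LinearMap.range N.subtype by
    obtain ⟨z, rfl⟩ := this
    exact z.2
  refine mem_range_of_cover (isCoverAlg_of_cover F e hc) N.subtype fun i => ?_
  have h' := hm i
  rw [gen_eq_range] at h'
  obtain ⟨t, ht⟩ := h'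
  refine ⟨t, (cartAt M E (F i) (hF i) (e i)).1 ?_⟩
  rw [θ_tmul, one_smul, ← ht]
  rfl

theorem le_of_locally {E : EtOver X} [IsAffine E.obj.left.left] {N N' : Submodule (gam E) (sectModEt M E)}
    (h : ∀ x : ↥E.obj.left.left, ∃ (V : EtOver X) (a : V ⟶ E), x ∈ Set.range a.hom.left.left ∧ gen N a ≤ gen N' a) :
    N ≤ N' := fun s hs => mem_of_locally N' fun x => by
  obtain ⟨V, a, hx, hle⟩ := h x
  exact ⟨V, a, hx, hle (res_mem_gen a hs)⟩

theorem eq_of_locally {E : EtOver X} [IsAffine E.obj.left.left] {N N' : Submodule (gam E) (sectModEt M E)}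
    (h : ∀ x : ↥E.obj.left.left, ∃ (V : EtOver X) (a : V ⟶ E), x ∈ Set.range a.hom.left.left ∧ gen N a = gen N' a) :
    N = N' :=
  le_antisymm (le_of_locally fun x => (h x).imp fun _ ⟨a, hx, e⟩ => ⟨a, hx, e.le⟩)
    (le_of_locally fun x => (h x).imp fun _ ⟨a, hx, e⟩ => ⟨a, hx, e.ge⟩)

set_option maxHeartbeats 1000000 in
/-- A class of the base change whose image lies in the generated submodule comes from the submodule. -/
theorem mk_lTensor_eq_zero {E F T W : EtOver X} [IsAffine E.obj.left.left] [IsAffine F.obj.left.left]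
    [IsAffine T.obj.left.left] [IsAffine W.obj.left.left] (g : T ⟶ E) (e : F ⟶ E) (p : W ⟶ T) (q : W ⟶ F)
    (hw : p ≫ g = q ≫ e) (h : IsPullback p.hom.left.left q.hom.left.left g.hom.left.left e.hom.left.left)
    (N : Submodule (gam F) (sectModEt M F)) :
    letI := (pb g).toAlgebra
    letI := (pb e).toAlgebra
    letI : Module (gam E) (sectModEt M F) := Module.compHom _ (pb e)
    haveI : IsScalarTower (gam E) (gam F) (sectModEt M F) := ⟨fun a b x => mul_smul (pb e a) b x⟩
    ∀ x : gam T ⊗[gam E] sectModEt M F, κ M g e p q hw x ∈ gen N q →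
      (N.restrictScalars (gam E)).mkQ.lTensor (gam T) x = 0 := by
  letI := (pb g).toAlgebra
  letI := (pb e).toAlgebra
  letI : Module (gam E) (sectModEt M F) := Module.compHom _ (pb e)
  haveI : IsScalarTower (gam E) (gam F) (sectModEt M F) := ⟨fun a b x => mul_smul (pb e a) b x⟩
  intro x hx
  let N' := N.restrictScalars (gam E)
  have hpush : ∀ a : gam W, ∀ n ∈ N, ∃ y : gam T ⊗[gam E] ↥N',
      κ M g e p q hw (N'.subtype.lTensor (gam T) y) = a • res M q n := by
    letI := (pb p).toAlgebra
    letI := (pb q).toAlgebra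
    letI := (pb (p ≫ g)).toAlgebra
    haveI : IsScalarTower (gam E) (gam T) (gam W) := .of_algebraMap_eq fun _ => rfl
    haveI : IsScalarTower (gam E) (gam F) (gam W) := .of_algebraMap_eq fun x =>
      (DFunLike.congr_fun (congrArg pb hw) x : pb (p ≫ g) x = pb (q ≫ e) x)
    haveI := isPushout_gam hw h
    intro a n hn
    obtain ⟨z, rfl⟩ := (Algebra.IsPushout.equiv (gam E) (gam T) (gam F) (gam W)).surjective a
    induction z with
    | zero => exact ⟨0, by simp⟩
    | add z z' hz hz' =>
      obtain ⟨y, hy⟩ := hz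
      obtain ⟨y', hy'⟩ := hz'
      exact ⟨y + y', by rw [map_add, map_add, hy, hy', map_add, add_smul]⟩
    | tmul r c =>
      refine ⟨r ⊗ₜ (⟨c • n, N.smul_mem c hn⟩ : ↥N'), ?_⟩
      rw [LinearMap.lTensor_tmul, κ_tmul, Algebra.IsPushout.equiv_tmul, mul_smul]
      exact congrArg (pb p r • ·) (res_smul q c n)
  have hspan : ∀ w ∈ gen N q, ∃ y : gam T ⊗[gam E] ↥N', κ M g e p q hw (N'.subtype.lTensor (gam T) y) = w := by
    intro w hw'
    induction hw' using Submodule.span_induction with
    | mem v hv =>
      obtain ⟨n, hn, rfl⟩ := hv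
      simpa using hpush 1 n hn
    | zero => exact ⟨0, by simp⟩
    | add v v' hv hv' h1 h2 =>
      obtain ⟨y, hy⟩ := h1
      obtain ⟨y', hy'⟩ := h2
      exact ⟨y + y', by rw [map_add, map_add, hy, hy']⟩
    | smul a v hv h1 =>
      obtain ⟨y, hy⟩ := h1
      suffices ∀ y : gam T ⊗[gam E] ↥N', ∃ y', κ M g e p q hw (N'.subtype.lTensor (gam T) y') =
          a • κ M g e p q hw (N'.subtype.lTensor (gam T) y) by
        obtain ⟨y', hy'⟩ := this y
        exact ⟨y', hy'.trans (by rw [hy])⟩
      intro y
      induction y with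
      | zero => exact ⟨0, by simp⟩
      | add y₁ y₂ h₁ h₂ =>
        obtain ⟨z₁, hz₁⟩ := h₁
        obtain ⟨z₂, hz₂⟩ := h₂
        exact ⟨z₁ + z₂, by simp only [map_add, smul_add, hz₁, hz₂]⟩
      | tmul r n =>
        obtain ⟨z, hz⟩ := hpush (a * pb p r) n.1 n.2
        refine ⟨z, hz.trans ?_⟩
        rw [LinearMap.lTensor_tmul, κ_tmul, mul_smul]
        rfl
  obtain ⟨y, hy⟩ := hspan _ hx
  have hxy : N'.subtype.lTensor (gam T) y = x :=
    (κ_bijective M g e p q hw h (cartAt M F W inferInstance q)).1 hy
  rw [← hxy, ← LinearMap.comp_apply, ← LinearMap.lTensor_comp,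
    show N'.mkQ.comp N'.subtype = 0 from LinearMap.ext fun z => (Submodule.Quotient.mk_eq_zero N').2 z.2,
    LinearMap.lTensor_zero, LinearMap.zero_apply]

set_option maxHeartbeats 2000000 in
/-- Compatible submodules on a covering of an affine object descend. -/
theorem exists_descend {E : EtOver X} [IsAffine E.obj.left.left] {ι : Type u} [Finite ι] (F : ι → EtOver X)
    [∀ i, IsAffine (F i).obj.left.left] (e : ∀ i, F i ⟶ E)
    (hc : ∀ x : ↥E.obj.left.left, ∃ i, x ∈ Set.range (e i).hom.left.left)
    (N : ∀ i, Submodule (gam (F i)) (sectModEt M (F i))) (hN : ∀ i, (N i).FG)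
    (hcompat : ∀ (i j : ι) (V : EtOver X) (_ : IsAffine V.obj.left.left) (a : V ⟶ F i) (b : V ⟶ F j),
      a ≫ e i = b ≫ e j → gen (N i) a = gen (N j) b) :
    ∃ N₀ : Submodule (gam E) (sectModEt M E), N₀.FG ∧ ∀ i, gen N₀ (e i) = N i := by
  classical
  letI := fun i => (pb (e i)).toAlgebra
  letI : ∀ i, Module (gam E) (sectModEt M (F i)) := fun i => Module.compHom _ (pb (e i))
  haveI : ∀ i, IsScalarTower (gam E) (gam (F i)) (sectModEt M (F i)) := fun i =>
    ⟨fun a b x => mul_smul (pb (e i) a) b x⟩
  have := Fintype.ofFinite ι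
  let r : ∀ i, sectModEt M E →ₗ[gam E] sectModEt M (F i) := fun i =>
    { toFun := res M (e i)
      map_add' := map_add _
      map_smul' := fun a x => res_smul (e i) a x }
  let η : sectModEt M E →ₗ[gam E] ∀ i, sectModEt M (F i) ⧸ (N i).restrictScalars (gam E) :=
    LinearMap.pi fun i => ((N i).restrictScalars (gam E)).mkQ.comp (r i)
  let N₀ := LinearMap.ker η
  have hmem : ∀ s, s ∈ N₀ ↔ ∀ i, res M (e i) s ∈ N i := fun s =>
    (funext_iff (g := fun i => (0 : sectModEt M (F i) ⧸ (N i).restrictScalars (gam E)))).trans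
      (forall_congr' fun i => Submodule.Quotient.mk_eq_zero _)
  have hgen : ∀ i, gen N₀ (e i) = N i := fun m => by
    refine le_antisymm (Submodule.span_le.2 ?_) fun t ht => ?_
    · rintro _ ⟨s, hs, rfl⟩
      exact (hmem s).1 hs m
    have : Module.Flat (gam E) (gam (F m)) := flat_pb (e m)
    obtain ⟨u₀, rfl⟩ := (cartAt M E (F m) inferInstance (e m)).2 t
    have h0 : η.lTensor (gam (F m)) u₀ = 0 := by
      refine (TensorProduct.piRight (gam E) (gam E) (gam (F m)) _).injective (funext fun k => ?_)
      have e1 : ∀ v : gam (F m) ⊗[gam E] sectModEt M E,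
          TensorProduct.piRight (gam E) (gam E) (gam (F m)) _ (η.lTensor (gam (F m)) v) k =
            ((N k).restrictScalars (gam E)).mkQ.lTensor (gam (F m)) ((r k).lTensor (gam (F m)) v) := fun v => by
        induction v with
        | zero => simp
        | add a b ha hb => simp only [map_add, Pi.add_apply, ha, hb]
        | tmul a b => simp [η, r]
      rw [e1, map_zero, Pi.zero_apply]
      obtain ⟨W, hW, p, q, hw, hp, -⟩ := exists_affine_pullback (e m) (e k)
      refine mk_lTensor_eq_zero (e m) (e k) p q hw hp (N k) _ ?_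
      have e2 : ∀ v : gam (F m) ⊗[gam E] sectModEt M E,
          κ M (e m) (e k) p q hw ((r k).lTensor (gam (F m)) v) = res M p (θ M (e m) v) := fun v => by
        induction v with
        | zero => simp only [map_zero]
        | add a b ha hb => simp only [map_add, ha, hb]
        | tmul a b =>
          rw [LinearMap.lTensor_tmul, κ_tmul, θ_tmul, res_smul, ← res_comp, hw, res_comp]
          rfl
      rw [e2, ← hcompat m k W hW p q hw]
      exact res_mem_gen p ht
    obtain ⟨y, hy⟩ := (Module.Flat.lTensor_exact (gam (F m)) (LinearMap.exact_subtype_ker_map η) u₀).1 h0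
    rw [gen_eq_range]
    exact ⟨y, by rw [LinearMap.comp_apply, θLin_apply, ← hy]; rfl⟩
  refine ⟨N₀, Module.Finite.iff_fg.1 (finite_of_cover (isCoverAlg_of_cover F e hc) fun i => ?_), hgen⟩
  have : Module.Flat (gam E) (gam (F i)) := flat_pb (e i)
  let φ := (θLin M (e i)).comp (N₀.subtype.baseChange (gam (F i)))
  have hφ : Function.Injective φ := (cartAt M E (F i) inferInstance (e i)).1.comp
    (Module.Flat.lTensor_preserves_injective_linearMap _ N₀.injective_subtype)
  have : Module.Finite (gam (F i)) ↥(LinearMap.range φ) := Module.Finite.iff_fg.2 (by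
    rw [← gen_eq_range, hgen]; exact hN i)
  exact Module.Finite.equiv (LinearEquiv.ofInjective φ hφ).symm

end Groth.Agent.EtQCoh5
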