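import Groth.Agent.EtQCoh5.FTMod
import Mathlib.CategoryTheory.Subobject.Basic
import Mathlib.CategoryTheory.Filtered.Basic

/-!
# Quasi-coherent modules are unions of their submodules of finite type
-/

set_option backward.isDefEq.respectTransparency false
set_option backward.isDefEq.respectTransparency.types false
set_option linter.style.haveILetI false

noncomputable section

universe u

open CategoryTheory CategoryTheory.Limits AlgebraicGeometry Opposite AlgSp TensorProduct

namespace Groth.Agent.EtQCoh5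

open Groth.Agent.AlgSpQ4 Groth.Agent.AlgSpQ4.MV Groth.Agent.AlgSpDec Groth.Agent.EtQCoh

variable {S : Scheme.{u}} {X : Sp S} {M : ModEt X}

theorem gen_sup {W T : EtOver X} (N N' : Submodule (gam W) (sectModEt M W)) (g : T ⟶ W) :
    gen (N ⊔ N') g = gen N g ⊔ gen N' g := by
  conv_lhs => rw [← Submodule.span_eq N, ← Submodule.span_eq N', ← Submodule.span_union, gen_span]
  rw [Set.image_union, Submodule.span_union]
  rfl

variable [M.IsQuasicoherent]

/-- The submodule of finite type of a quasi-coherent subobject of finite type. -/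
def psubOfMap {N : ModEt X} [N.IsQuasicoherent] [N.IsFiniteType] (ι : N ⟶ M) :
    PSub M (Set.univ : Set (Points X)) where
  sub E _ _ := LinearMap.range (sapp ι E)
  gen_eq {E T} hE hT _ _ g := by
    refine le_antisymm (Submodule.span_le.2 ?_) ?_
    · rintro _ ⟨_, ⟨x, rfl⟩, rfl⟩
      exact ⟨res N g x, sapp_res ι g x⟩
    · rintro _ ⟨y, rfl⟩
      letI := (pb g).toAlgebra
      obtain ⟨t, rfl⟩ := (cartAt N E T hT g).2 y
      induction t with
      | zero => simp only [map_zero]; exact Submodule.zero_mem _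
      | add a b ha hb => simp only [map_add]; exact Submodule.add_mem _ ha hb
      | tmul r x =>
        rw [θ_tmul, map_smul, sapp_res]
        exact Submodule.smul_mem _ _ (res_mem_gen g ⟨x, rfl⟩)
  fg E _ _ := by
    haveI := finite_sect N E
    exact Module.Finite.iff_fg.1 (Module.Finite.range (sapp ι E))

/-- The sum of two submodules of finite type. -/
def PSub.sup {Q : Set (Points X)} (A B : PSub M Q) : PSub M Q where
  sub E hE hQ := A.sub E hE hQ ⊔ B.sub E hE hQ
  gen_eq {E T} hE hT hEQ hTQ g := by rw [gen_sup, A.gen_eq hE hT hEQ hTQ, B.gen_eq hE hT hEQ hTQ]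
  fg E hE hQ := (A.fg E hE hQ).sup (B.fg E hE hQ)

/-- The subobjects of finite type. -/
def IsFTSub (N : Subobject M) : Prop :=
  (Subobject.underlying.obj N).IsQuasicoherent ∧ (Subobject.underlying.obj N).IsFiniteType

theorem isFTSub_mk (B : PSub M (Set.univ : Set (Points X))) : IsFTSub (Subobject.mk B.toAffSub.ι) := by
  let e := (Subobject.underlyingIso B.toAffSub.ι).symm
  have hq : (Subobject.underlying.obj (Subobject.mk B.toAffSub.ι)).IsQuasicoherent :=
    ObjectProperty.prop_of_iso (SheafOfModules.isQuasicoherent (OEtRing X)) e B.isQuasicoherent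
  haveI := hq
  haveI := B.isQuasicoherent
  haveI := B.isFiniteType
  refine ⟨hq, isFiniteType_of_finite fun E hE => ?_⟩
  haveI := finite_sect B.toAffSub.toMod E
  refine Module.Finite.of_surjective (sapp e.hom E) fun y => ⟨sapp e.inv E y, ?_⟩
  exact congrArg (fun ψ : _ ⟶ _ => sapp ψ E y) e.inv_hom_id

theorem le_mk_of_forall (B : PSub M (Set.univ : Set (Points X))) (N : Subobject M)
    (h : ∀ E (hE : IsAffine E.obj.left.left) x, sapp N.arrow E x ∈ B.sub E hE (Set.subset_univ _)) :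
    N ≤ Subobject.mk B.toAffSub.ι := by
  obtain ⟨φ, hφ⟩ := exists_lift_of_range N.arrow B.toAffSub.ι
    fun E hE x => (B.mem_iff hE _ _).2 (h E hE x)
  exact Subobject.le_mk_of_comm φ hφ

variable (hX : IsAlgSpace X) (hqc : IsQuasiCompactSp X) (hqs : IsQuasiSeparatedSp X)

theorem exists_ge {N₁ N₂ : Subobject M} (h₁ : IsFTSub N₁) (h₂ : IsFTSub N₂) :
    ∃ N₃, IsFTSub N₃ ∧ N₁ ≤ N₃ ∧ N₂ ≤ N₃ := by
  haveI : (Subobject.underlying.obj N₁).IsQuasicoherent := h₁.1
  haveI : (Subobject.underlying.obj N₁).IsFiniteType := h₁.2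
  haveI : (Subobject.underlying.obj N₂).IsQuasicoherent := h₂.1
  haveI : (Subobject.underlying.obj N₂).IsFiniteType := h₂.2
  refine ⟨_, isFTSub_mk ((psubOfMap N₁.arrow).sup (psubOfMap N₂.arrow)),
    le_mk_of_forall _ _ fun E hE x => ?_, le_mk_of_forall _ _ fun E hE x => ?_⟩
  · exact Submodule.mem_sup_left ⟨x, rfl⟩
  · exact Submodule.mem_sup_right ⟨x, rfl⟩

include hX hqc hqs in
theorem exists_mem [QuasiSeparatedSpace ↥S] {E : EtOver X} [IsAffine E.obj.left.left] (s : sectModEt M E) :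
    ∃ N : Subobject M, IsFTSub N ∧ ∃ x, sapp N.arrow E x = s := by
  obtain ⟨B, hB⟩ := exists_psub_containing (M := M) hX hqc hqs (fun _ : PUnit.{u + 1} => E) fun _ => s
  obtain ⟨y, hy⟩ := (B.mem_iff ‹_› (Set.subset_univ _) s).2 (hB ⟨⟩)
  refine ⟨_, isFTSub_mk B, sapp (Subobject.underlyingIso B.toAffSub.ι).inv E y, ?_⟩
  rw [← hy]
  exact congrArg (fun ψ : B.toAffSub.toMod ⟶ M => sapp ψ E y) (Subobject.underlyingIso_arrow B.toAffSub.ι)

include hX hqc hqs in
set_option maxHeartbeats 2000000 in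
theorem isFiltered_and_isColimit [QuasiSeparatedSpace ↥S] (P : ObjectProperty (Subobject M)) (hP : ∀ N, P N ↔ IsFTSub N)
    (ι : P.ι ⋙ Subobject.underlying ⟶ (Functor.const P.FullSubcategory).obj M)
    (hι : ∀ N : P.FullSubcategory, ι.app N = N.obj.arrow) :
    IsFiltered P.FullSubcategory ∧ Nonempty (IsColimit (Cocone.mk M ι)) := by
  classical
  haveI : ∀ l : PEmpty.{u + 1}, IsAffine (l.elim : EtOver X).obj.left.left := fun l => l.elim
  obtain ⟨B₀, -⟩ := exists_psub_containing (M := M) hX hqc hqs (fun l : PEmpty.{u + 1} => (l.elim : EtOver X))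
    fun l => l.elim
  let z₀ : P.FullSubcategory := ⟨_, (hP _).2 (isFTSub_mk B₀)⟩
  haveI : Nonempty P.FullSubcategory := ⟨z₀⟩
  have hsup : ∀ a b : P.FullSubcategory, ∃ c, ∃ (_ : a ⟶ c) (_ : b ⟶ c), True := fun a b => by
    obtain ⟨N, hN, h₁, h₂⟩ := exists_ge ((hP _).1 a.property) ((hP _).1 b.property)
    exact ⟨⟨N, (hP _).2 hN⟩, ObjectProperty.homMk (homOfLE h₁), ObjectProperty.homMk (homOfLE h₂), trivial⟩
  haveI : IsFilteredOrEmpty P.FullSubcategory :=
    ⟨hsup, fun X Y f g => ⟨Y, 𝟙 Y, congrArg (· ≫ 𝟙 Y) (ObjectProperty.hom_ext _ (Subsingleton.elim _ _))⟩⟩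
  refine ⟨IsFiltered.mk, ⟨?_⟩⟩
  letI : DecidableEq P.FullSubcategory := Classical.decEq _
  let K := Σ E : {E : EtOver X // IsAffine E.obj.left.left}, sectModEt M E.1
  have hK : ∀ k : K, ∃ N : P.FullSubcategory, ∃ x, sapp N.obj.arrow k.1.1 x = k.2 := fun k => by
    haveI := k.1.2
    obtain ⟨N, hN, x, hx⟩ := exists_mem hX hqc hqs k.2
    exact ⟨⟨N, (hP _).2 hN⟩, x, hx⟩
  choose N xN hxN using hK
  let D : K → ModEt X := fun k => (P.ι ⋙ Subobject.underlying).obj (N k)
  let a : ∐ D ⟶ M := Sigma.desc fun k => (N k).obj.arrow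
  have hsurj : ∀ (E : EtOver X) (hE : IsAffine E.obj.left.left) (s : sectModEt M E), ∃ z, sapp a E z = s :=
    fun E hE s => ⟨sapp (Sigma.ι D ⟨⟨E, hE⟩, s⟩) E (xN ⟨⟨E, hE⟩, s⟩), by
      show sapp (Sigma.ι D _ ≫ a) E _ = s
      rw [Sigma.ι_desc]
      exact hxN ⟨⟨E, hE⟩, s⟩⟩
  haveI : Epi a := ⟨fun {Z} f g h => hom_ext_affine fun E hE s => by
    obtain ⟨z, rfl⟩ := hsurj E hE s
    exact congrArg (fun ψ : ∐ D ⟶ Z => sapp ψ E z) h⟩
  have hker : ∀ c : Cocone (P.ι ⋙ Subobject.underlying),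
      kernel.ι a ≫ Sigma.desc (fun k => c.ι.app (N k)) = 0 := fun c => hom_ext_affine fun E hE w => by
    let z := sapp (kernel.ι a) E w
    have hz : sapp a E z = 0 := congrArg (fun ψ : kernel a ⟶ M => sapp ψ E w) (kernel.condition a)
    show sapp (Sigma.desc fun k => c.ι.app (N k)) E z = 0
    obtain ⟨s, hs⟩ := spanOf_eq_top D E z
    have hbd : ∀ s : Finset K, ∃ T : P.FullSubcategory, ∀ k ∈ s, Nonempty (N k ⟶ T) := fun s => by
      induction s using Finset.induction with
      | empty => exact ⟨z₀, fun k hk => absurd hk (Finset.notMem_empty k)⟩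
      | insert k s _ ih =>
        obtain ⟨T, hT⟩ := ih
        obtain ⟨R, g₁, g₂, -⟩ := hsup T (N k)
        refine ⟨R, fun l hl => ?_⟩
        rcases Finset.mem_insert.1 hl with rfl | hl
        · exact ⟨g₂⟩
        · exact ⟨(hT l hl).some ≫ g₁⟩
    obtain ⟨T, hT⟩ := hbd s
    let m : ∀ k ∈ s, N k ⟶ T := fun k hk => (hT k hk).some
    let y : sectModEt ((P.ι ⋙ Subobject.underlying).obj T) E :=
      ∑ k ∈ s.attach, sapp ((P.ι ⋙ Subobject.underlying).map (m k.1 k.2)) E (sapp (prj D k.1) E z)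
    have key : ∀ {Z : ModEt X} (f : ∀ N : P.FullSubcategory, (P.ι ⋙ Subobject.underlying).obj N ⟶ Z)
        (hf : ∀ {A B} (g : A ⟶ B), (P.ι ⋙ Subobject.underlying).map g ≫ f B = f A),
        sapp (Sigma.desc fun k => f (N k)) E z = sapp (f T) E y := by
      intro Z f hf
      conv_lhs => rw [← hs]
      rw [map_sum, ← Finset.sum_attach, map_sum]
      refine Finset.sum_congr rfl fun k _ => ?_
      show sapp (Sigma.ι D k.1 ≫ Sigma.desc fun k => f (N k)) E (sapp (prj D k.1) E z) = _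
      rw [Sigma.ι_desc, ← hf (m k.1 k.2)]
      rfl
    have h1 : sapp T.obj.arrow E y = 0 := by
      exact (key (fun N => N.obj.arrow) (fun {A B} g => Subobject.underlying_arrow _)).symm.trans hz
    rw [key (fun N => c.ι.app N) (fun g => c.w g), sapp_injective T.obj.arrow E (h1.trans (map_zero _).symm), map_zero]
  refine
    { desc := fun c => Abelian.epiDesc a (Sigma.desc fun k => c.ι.app (N k)) (hker c)
      fac := fun c T => hom_ext_affine fun E hE x => ?_
      uniq := fun c m hm => (cancel_epi a).1 ?_ }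
  · obtain ⟨z, hz⟩ := hsurj E hE (sapp T.obj.arrow E x)
    show sapp (Abelian.epiDesc a _ (hker c)) E (sapp (ι.app T) E x) = _
    rw [hι]
    refine (congrArg (sapp (Abelian.epiDesc a (Sigma.desc fun k => c.ι.app (N k)) (hker c)) E) hz.symm).trans ?_
    refine (congrArg (fun ψ : ∐ D ⟶ c.pt => sapp ψ E z) (Abelian.comp_epiDesc a _ (hker c))).trans ?_
    let k : K := ⟨⟨E, hE⟩, sapp T.obj.arrow E x⟩
    obtain ⟨R, g₁, g₂, -⟩ := hsup (N k) T
    have e1 : sapp ((P.ι ⋙ Subobject.underlying).map g₁) E (xN k) =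
        sapp ((P.ι ⋙ Subobject.underlying).map g₂) E x := sapp_injective R.obj.arrow E (by
      refine Eq.trans ?_ ((hxN k).trans ?_)
      · exact congrArg (fun ψ : (P.ι ⋙ Subobject.underlying).obj (N k) ⟶ M => sapp ψ E (xN k))
          (Subobject.underlying_arrow _)
      · exact (congrArg (fun ψ : (P.ι ⋙ Subobject.underlying).obj T ⟶ M => sapp ψ E x)
          (Subobject.underlying_arrow _)).symm)
    let z' := z - sapp (Sigma.ι D k) E (xN k)
    have hz' : sapp a E z' = 0 := by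
      rw [map_sub, hz, sub_eq_zero]
      exact ((congrArg (fun ψ : D k ⟶ M => sapp ψ E (xN k)) (Sigma.ι_desc _ _)).trans (hxN k)).symm
    obtain ⟨w, hw⟩ := sapp_exact (kerSeq a) (kerSeq_exact a) E z' |>.1 hz'
    have hzero : sapp (Sigma.desc fun k => c.ι.app (N k)) E z' = 0 := by
      rw [← hw]
      exact congrArg (fun ψ : kernel a ⟶ c.pt => sapp ψ E w) (hker c)
    rw [map_sub, sub_eq_zero] at hzero
    rw [hzero]
    refine (congrArg (fun ψ : D k ⟶ c.pt => sapp ψ E (xN k)) (Sigma.ι_desc _ k)).trans ?_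
    rw [← c.w g₁, ← c.w g₂]
    exact congrArg (sapp (c.ι.app R) E) e1
  · rw [Abelian.comp_epiDesc]
    refine Sigma.hom_ext _ _ fun k => ?_
    rw [← Category.assoc, Sigma.ι_desc, Sigma.ι_desc, ← hι]
    exact hm _

end Groth.Agent.EtQCoh5
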