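import Mathlib.Algebra.Category.ModuleCat.Sheaf.Quasicoherent
import Mathlib.Algebra.Category.ModuleCat.Sheaf.PullbackFree

/-!
# Presentations of corepresenting objects of pushforwards
-/

set_option backward.isDefEq.respectTransparency false
set_option backward.isDefEq.respectTransparency.types false

noncomputable section

universe v₁ v₂ u₁ u₂ u

open CategoryTheory Limits

namespace Groth.Agent.EtQCoh5

variable {C : Type u₁} [Category.{v₁} C] {D : Type u₂} [Category.{v₂} D]
  {J : GrothendieckTopology C} {K : GrothendieckTopology D} {F : C ⥤ D}
  {S : Sheaf J RingCat.{u}} {R : Sheaf K RingCat.{u}} [Functor.IsContinuous F J K]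
  [HasSheafify J AddCommGrpCat.{u}] [J.WEqualsLocallyBijective AddCommGrpCat.{u}]
  [HasSheafify K AddCommGrpCat.{u}] [K.WEqualsLocallyBijective AddCommGrpCat.{u}]
  (φ : S ⟶ (F.sheafPushforwardContinuous RingCat.{u} J K).obj R) [F.Final]

/-- Maps from free modules and a direct image. -/
def freeTransport (I : Type u) (N : SheafOfModules.{u} R) :
    (SheafOfModules.free I ⟶ N) ≃ (SheafOfModules.free I ⟶ (SheafOfModules.pushforward.{u} φ).obj N) :=
  N.freeHomEquiv.trans ((Equiv.piCongrRight fun _ : I =>
    Equiv.ofBijective _ (SheafOfModules.bijective_pushforwardSections (M := N) φ)).trans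
      ((SheafOfModules.pushforward.{u} φ).obj N).freeHomEquiv.symm)

theorem freeTransport_comp {I : Type u} {N N' : SheafOfModules.{u} R} (h : SheafOfModules.free I ⟶ N) (p : N ⟶ N') :
    freeTransport φ I N' (h ≫ p) = freeTransport φ I N h ≫ (SheafOfModules.pushforward.{u} φ).map p := by
  apply ((SheafOfModules.pushforward.{u} φ).obj N').freeHomEquiv.injective
  funext i
  simp only [freeTransport, Equiv.trans_apply, Equiv.apply_symm_apply, SheafOfModules.freeHomEquiv_comp_apply]
  rfl

variable {M : SheafOfModules.{u} S} {L : SheafOfModules.{u} R} (P : M.Presentation)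
  (e : ∀ N, (L ⟶ N) ≃ (M ⟶ (SheafOfModules.pushforward.{u} φ).obj N))
  (he : ∀ {N N' : SheafOfModules.{u} R} (d : L ⟶ N) (p : N ⟶ N'),
    e N' (d ≫ p) = e N d ≫ (SheafOfModules.pushforward.{u} φ).map p)

/-- The relations of a presentation. -/
def relOf : SheafOfModules.free (R := S) P.relations.I ⟶ SheafOfModules.free P.generators.I :=
  (SheafOfModules.freeHomEquiv _).symm P.relations.s ≫ kernel.ι P.generators.π

theorem relOf_π : relOf P ≫ P.generators.π = 0 := by
  rw [relOf, Category.assoc, kernel.condition, comp_zero]

/-- The transported relations. -/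
def relTo : SheafOfModules.free (R := R) P.relations.I ⟶ SheafOfModules.free P.generators.I :=
  (freeTransport φ _ _).symm (relOf P ≫ freeTransport φ _ _ (𝟙 _))

theorem relTo_comp {N : SheafOfModules.{u} R} (h : SheafOfModules.free P.generators.I ⟶ N) :
    freeTransport φ _ _ (relTo φ P ≫ h) = relOf P ≫ freeTransport φ _ _ h := by
  rw [freeTransport_comp, relTo, Equiv.apply_symm_apply, Category.assoc, ← freeTransport_comp, Category.id_comp]

/-- The transported generators. -/
def genTo : SheafOfModules.free (R := R) P.generators.I ⟶ L :=
  (freeTransport φ _ L).symm (P.generators.π ≫ e L (𝟙 L))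

include he in
theorem genTo_comp {N : SheafOfModules.{u} R} (d : L ⟶ N) :
    freeTransport φ _ _ (genTo φ P e ≫ d) = P.generators.π ≫ e N d := by
  rw [freeTransport_comp, genTo, Equiv.apply_symm_apply, Category.assoc, ← he, Category.id_comp]

theorem freeTransport_zero {I : Type u} (N : SheafOfModules.{u} R) : freeTransport φ I N 0 = 0 := by
  apply ((SheafOfModules.pushforward.{u} φ).obj N).freeHomEquiv.injective
  funext i
  simp only [freeTransport, Equiv.trans_apply, Equiv.apply_symm_apply]
  rfl

include he in
theorem relTo_genTo : relTo φ P ≫ genTo φ P e = 0 := by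
  apply (freeTransport φ _ _).injective
  rw [relTo_comp, genTo, Equiv.apply_symm_apply, ← Category.assoc, relOf_π, zero_comp,
    freeTransport_zero φ]

/-- The generators of a presentation are a cokernel of the relations. -/
def isColimitGen : IsColimit (CokernelCofork.ofπ P.generators.π (relOf_π P)) :=
  P.isColimit

/-- An object corepresenting maps to a direct image has the transported presentation. -/
def presentationOfCorepresents : L.Presentation :=
  SheafOfModules.presentationOfIsCokernelFree (relTo φ P) (genTo φ P e) (relTo_genTo φ P e he)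
    (CokernelCofork.IsColimit.ofπ _ _
      (fun {N} h hh => (e N).symm ((isColimitGen P).desc
        (CokernelCofork.ofπ (freeTransport φ _ _ h) (by rw [← relTo_comp, hh, freeTransport_zero φ]))))
      (fun {N} h hh => by
        apply (freeTransport φ _ _).injective
        rw [genTo_comp φ P e he, Equiv.apply_symm_apply]
        exact (isColimitGen P).fac _ WalkingParallelPair.one)
      (fun {N} h hh m hm => by
        apply (e N).injective
        rw [Equiv.apply_symm_apply]
        refine Cofork.IsColimit.hom_ext (isColimitGen P) ?_
        erw [Cofork.IsColimit.π_desc]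
        show P.generators.π ≫ e N m = _
        rw [← genTo_comp φ P e he, hm]
        rfl))

end Groth.Agent.EtQCoh5
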