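import Groth.Agent.EtQCoh5.Restrict
import Groth.Agent.EtQCoh5.Transport
import Mathlib.CategoryTheory.Filtered.Final

/-!
# Global presentations and base change of terminal objects
-/

set_option backward.isDefEq.respectTransparency false
set_option backward.isDefEq.respectTransparency.types false

noncomputable section

universe u

open CategoryTheory CategoryTheory.Limits AlgebraicGeometry Opposite AlgSp

namespace Groth.Agent.EtQCoh5

open Groth.Agent.AlgSpQ4.MV Groth.Agent.AlgSpDec Groth.Agent.EtQCoh

variable {S : Scheme.{u}} {X Y : Sp S}

section terminal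

variable {T₀ : EtOver X} (hT : IsTerminal T₀)

/-- The slice over a terminal object. -/
def sliceEquiv : Over T₀ ≌ EtOver X where
  functor := Over.forget T₀
  inverse := { obj := fun E => Over.mk (hT.from E), map := fun f => Over.homMk f (hT.hom_ext _ _) }
  unitIso := NatIso.ofComponents (fun A => Over.isoMk (Iso.refl _) (hT.hom_ext _ _))
    (fun f => Over.OverMorphism.ext (by simp))
  counitIso := NatIso.ofComponents (fun _ => Iso.refl _) (fun f => by simp)
  functor_unitIso_comp A := by simp

instance : (sliceEquiv hT).functor.IsContinuous ((etTop X).over T₀) (etTop X) :=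
  inferInstanceAs ((Over.forget T₀).IsContinuous ((etTop X).over T₀) (etTop X))

instance : (sliceEquiv hT).inverse.IsContinuous (etTop X) ((etTop X).over T₀) :=
  haveI : (sliceEquiv hT).functor.IsCocontinuous ((etTop X).over T₀) (etTop X) :=
    inferInstanceAs ((Over.forget T₀).IsCocontinuous ((etTop X).over T₀) (etTop X))
  (sliceEquiv hT).toAdjunction.isContinuous_of_isCocontinuous _ _

/-- The ring map for the section of the slice over a terminal object. -/
def sliceRingHom : OEtRing X ⟶ ((sliceEquiv hT).inverse.sheafPushforwardContinuous RingCat.{u + 1} (etTop X)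
    ((etTop X).over T₀)).obj (OEtOn T₀) :=
  ObjectProperty.homMk
    { app := fun E => 𝟙 ((OEtRing X).obj.obj E)
      naturality := fun _ _ _ => (Category.comp_id _).trans (Category.id_comp _).symm }

/-- Modules on the slice over a terminal object. -/
def sliceModEquiv : ModEtOn T₀ ≌ ModEt X :=
  (SheafOfModules.pushforwardPushforwardEquivalence.{u + 1} (sliceEquiv hT)
    (S := OEtOn T₀) (R := OEtRing X) (𝟙 (OEtOn T₀)) (sliceRingHom hT)
    (by
      ext E : 2
      simp only [sliceEquiv, sliceRingHom]
      exact ((OEtRing X).obj.map_id _).trans (Category.id_comp _).symm)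
    (by
      ext E : 2
      simp only [sliceEquiv, sliceRingHom]
      exact (Category.id_comp _).trans ((Category.id_comp _).trans ((OEtRing X).obj.map_id _)))).symm

/-- A presentation over a terminal object gives a presentation. -/
def presentationOfTerminal (M : ModEt X) (P : (SheafOfModules.over M T₀).Presentation) : M.Presentation :=
  (P.map (sliceModEquiv hT).functor (Iso.refl _)).ofIsIso ((sliceModEquiv hT).counit.app M)

end terminal

/-- An object with invertible structure map is terminal. -/
def isTerminalOfIsIso (T₀ : EtOver X) [IsIso T₀.obj.hom] : IsTerminal T₀ :=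
  IsTerminal.ofUniqueHom
    (fun E => EtOver.homMk ((yon S).preimage (E.obj.hom ≫ inv T₀.obj.hom)) (by
      rw [(yon S).map_preimage, Category.assoc, IsIso.inv_hom_id, Category.comp_id]))
    (fun E m => EtOver.hom_ext _ _ ((yon S).map_injective (by
      refine Eq.trans ?_ ((yon S).map_preimage _).symm
      rw [← EtOver.w m, Category.assoc, IsIso.hom_inv_id]
      exact (Category.comp_id _).symm)))

instance isIso_bcObj_hom {g : X ⟶ Y} (hg : Representable g) (T₀ : EtOver Y) [IsIso T₀.obj.hom] :
    IsIso ((EtOver.bc hg).obj T₀).obj.hom :=
  (hg.isPullback T₀.obj.hom).isIso_fst_of_isIso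

theorem final_bc {g : X ⟶ Y} (hg : Representable g) (T₀ : EtOver Y) [IsIso T₀.obj.hom] :
    (EtOver.bc hg).Final := by
  refine ⟨fun E => ?_⟩
  let a : StructuredArrow E (EtOver.bc hg) :=
    StructuredArrow.mk ((isTerminalOfIsIso ((EtOver.bc hg).obj T₀)).from E)
  haveI : Nonempty (StructuredArrow E (EtOver.bc hg)) := ⟨a⟩
  refine zigzag_isConnected fun b c => ?_
  have key : ∀ b : StructuredArrow E (EtOver.bc hg), Zigzag b a := fun b =>
    Zigzag.of_hom (StructuredArrow.homMk ((isTerminalOfIsIso T₀).from b.right)
      ((isTerminalOfIsIso ((EtOver.bc hg).obj T₀)).hom_ext _ _))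
  exact (key b).trans (key c).symm

/-- The whole of an affine scheme as an object of its site. -/
def top (U : Over S) : EtOver ((yon S).obj U) := EtOver.mk (𝟙 _) (repWith_id _ U)

instance (U : Over S) : IsIso (top U).obj.hom := inferInstanceAs (IsIso (𝟙 _))

/-- Quasi-coherent modules on an affine scheme have presentations. -/
def presentationAffine {U : Over S} (hU : IsAffine U.left) (M : ModEt ((yon S).obj U)) (hM : M.IsQuasicoherent) :
    M.Presentation :=
  presentationOfTerminal (isTerminalOfIsIso (top U)) M
    (presentation M (top U) (haveI : IsAffine (top U).obj.left.left := hU; cartAt M (top U)))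

end Groth.Agent.EtQCoh5
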