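import Groth.Agent.EtQCoh5.SubMod
import Groth.Agent.EtQCoh.WeakAssPts
import Mathlib.RingTheory.Smooth.IntegralClosure

/-!
# The integral closure of the structure sheaf in a quasi-coherent algebra
-/

set_option backward.isDefEq.respectTransparency false
set_option backward.isDefEq.respectTransparency.types false
set_option linter.style.haveILetI false

noncomputable section

universe u

open CategoryTheory CategoryTheory.Limits AlgebraicGeometry Opposite AlgSp TensorProduct

namespace Groth.Agent.EtQCoh5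

open Groth.Agent.AlgSpQ4.MV Groth.Agent.AlgSpDec Groth.Agent.EtQCoh

variable {S : Scheme.{u}} {X : Sp S} (A : EtSh X CommRingCat.{u + 1}) (φ : OEt X ⟶ A)

/-- An algebra as a module. -/
abbrev algMod : ModEt X :=
  (SheafOfModules.restrictScalars
      ((sheafCompose (etTop X) (forget₂ CommRingCat.{u + 1} RingCat.{u + 1})).map φ)).obj
    (SheafOfModules.unit ((sheafCompose (etTop X) (forget₂ CommRingCat.{u + 1} RingCat.{u + 1})).obj A))

/-- The structure map on sections. -/
def str (E : EtOver X) : gam E →+* ↥(A.obj.obj (op E)) :=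
  (φ.hom.app (op E)).hom.comp (ULift.ringEquiv (R := gam E)).symm.toRingHom

theorem smul_algMod {E : EtOver X} (a : gam E) (x : sectModEt (algMod A φ) E) :
    a • x = (show sectModEt (algMod A φ) E from str A φ E a * (show ↥(A.obj.obj (op E)) from x)) := rfl

theorem res_algMod {E T : EtOver X} (g : T ⟶ E) (x : sectModEt (algMod A φ) E) :
    res (algMod A φ) g x = (show sectModEt (algMod A φ) T from A.obj.map g.op (show ↥(A.obj.obj (op E)) from x)) := rfl

theorem map_str {E T : EtOver X} (g : T ⟶ E) (a : gam E) : A.obj.map g.op (str A φ E a) = str A φ T (pb g a) :=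
  (NatTrans.naturality_apply φ.hom g.op (ULift.up a)).symm

variable [(algMod A φ).IsQuasicoherent]

/-- Base change of the sections of the algebra. -/
theorem exists_algEquiv {E T : EtOver X} [IsAffine E.obj.left.left] [IsAffine T.obj.left.left] (g : T ⟶ E) :
    letI := (pb g).toAlgebra; letI := (str A φ E).toAlgebra; letI := (str A φ T).toAlgebra
    ∃ e : gam T ⊗[gam E] ↥(A.obj.obj (op E)) ≃ₐ[gam T] ↥(A.obj.obj (op T)),
      ∀ x : ↥(A.obj.obj (op E)), e ((1 : gam T) ⊗ₜ[gam E] x) = A.obj.map g.op x := by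
  let := (pb g).toAlgebra; let := (str A φ E).toAlgebra; let := (str A φ T).toAlgebra
  let := ((str A φ T).comp (pb g)).toAlgebra
  have : IsScalarTower (gam E) (gam T) ↥(A.obj.obj (op T)) := .of_algebraMap_eq fun _ => rfl
  let ρ : ↥(A.obj.obj (op E)) →ₐ[gam E] ↥(A.obj.obj (op T)) :=
    { (A.obj.map g.op).hom with commutes' := fun a => map_str A φ g a }
  let e₀ : gam T ⊗[gam E] ↥(A.obj.obj (op E)) →ₐ[gam T] ↥(A.obj.obj (op T)) :=
    Algebra.TensorProduct.lift (Algebra.ofId _ _) ρ fun _ _ => Commute.all _ _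
  let idM : ↥(A.obj.obj (op E)) ≃ₗ[gam E] sectModEt (algMod A φ) E :=
    { toFun := fun x => x
      invFun := fun x => x
      map_add' := fun _ _ => rfl
      map_smul' := fun a x => (Algebra.smul_def a x).trans (smul_algMod A φ a _).symm
      left_inv := fun _ => rfl
      right_inv := fun _ => rfl }
  have key : ∀ t, (e₀ t : sectModEt (algMod A φ) T) = θ (algMod A φ) g (idM.lTensor (gam T) t) := fun t => by
    refine tensor_addHom_ext
      (f := (show gam T ⊗[gam E] ↥(A.obj.obj (op E)) →+ sectModEt (algMod A φ) T from e₀.toRingHom.toAddMonoidHom))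
      (g := (θ (algMod A φ) g).comp (idM.lTensor (gam T)).toAddEquiv.toAddMonoidHom) (fun r x => ?_) t
    show e₀ (r ⊗ₜ[gam E] x) = θ (algMod A φ) g (r ⊗ₜ[gam E] idM x)
    rw [θ_tmul, Algebra.TensorProduct.lift_tmul]
    rfl
  have hb : Function.Bijective e₀ := by
    rw [show (e₀ : _ → _) = (θ (algMod A φ) g : _ → _) ∘ idM.lTensor (gam T) from funext key]
    exact (cartAt (algMod A φ) E T ‹_› g).comp (idM.lTensor (gam T)).bijective
  refine ⟨AlgEquiv.ofBijective e₀ hb, fun x => ?_⟩
  show e₀ ((1 : gam T) ⊗ₜ[gam E] x) = _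
  rw [Algebra.TensorProduct.lift_tmul, map_one, one_mul]
  rfl

/-- The integral sections over an affine object. -/
def intSubmodule (E : EtOver X) : Submodule (gam E) (sectModEt (algMod A φ) E) where
  carrier := {x | (str A φ E).IsIntegralElem (show ↥(A.obj.obj (op E)) from x)}
  add_mem' ha hb := RingHom.IsIntegralElem.add _ ha hb
  zero_mem' := RingHom.isIntegralElem_zero _
  smul_mem' a x hx := RingHom.IsIntegralElem.mul _ (RingHom.isIntegralElem_map (str A φ E)) hx

theorem isIntegralElem_map {E T : EtOver X} (g : T ⟶ E) {x : ↥(A.obj.obj (op E))}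
    (hx : (str A φ E).IsIntegralElem x) : (str A φ T).IsIntegralElem (A.obj.map g.op x) := by
  obtain ⟨p, hp, h0⟩ := hx
  refine ⟨p.map (pb g), hp.map _, ?_⟩
  rw [Polynomial.eval₂_map, show (str A φ T).comp (pb g) = (A.obj.map g.op).hom.comp (str A φ E) from
    RingHom.ext fun a => (map_str A φ g a).symm, ← Polynomial.hom_eval₂, h0, map_zero]

theorem mem_range_of_isIntegralElem {E T : EtOver X} [IsAffine E.obj.left.left] [IsAffine T.obj.left.left]
    (g : T ⟶ E) :
    letI := (pb g).toAlgebra; letI := (str A φ E).toAlgebra; letI := (str A φ T).toAlgebra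
    ∀ (e : gam T ⊗[gam E] ↥(A.obj.obj (op E)) ≃ₐ[gam T] ↥(A.obj.obj (op T))) (t : gam T ⊗[gam E] ↥(A.obj.obj (op E))),
      (str A φ T).IsIntegralElem (e t) →
        t ∈ LinearMap.range ((integralClosure (gam E) ↥(A.obj.obj (op E))).val.toLinearMap.lTensor (gam T)) := by
  let := (pb g).toAlgebra; let := (str A φ E).toAlgebra; let := (str A φ T).toAlgebra
  intro e t ht
  have : Algebra.Etale (gam E) (gam T) := RingHom.etale_algebraMap.1 (etale_pb g)
  have hi : IsIntegral (gam T) t := by
    have h := (show IsIntegral (gam T) (e t) from ht).map e.symm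
    rwa [e.symm_apply_apply] at h
  obtain ⟨c, hc⟩ := (TensorProduct.toIntegralClosure_bijective_of_smooth (R := gam E) (S := gam T)
    (B := ↥(A.obj.obj (op E)))).2 ⟨t, hi⟩
  exact ⟨c, congrArg (fun z : integralClosure (gam T) (gam T ⊗[gam E] ↥(A.obj.obj (op E))) => z.1) hc⟩

theorem isIntegralElem_of_cover {E : EtOver X} [IsAffine E.obj.left.left] {x : ↥(A.obj.obj (op E))} (ι : Type u)
    (Y : ι → EtOver X) (hY : ∀ j, IsAffine (Y j).obj.left.left) (g : ∀ j, Y j ⟶ E)
    (hc : ∀ z : ↥E.obj.left.left, ∃ j, z ∈ Set.range (g j).hom.left.left)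
    (h : ∀ j, (str A φ (Y j)).IsIntegralElem (A.obj.map (g j).op x)) : (str A φ E).IsIntegralElem x := by
  let := (str A φ E).toAlgebra
  let := fun j => (pb (g j)).toAlgebra
  have := hY
  have hmem : x ∈ LinearMap.range (integralClosure (gam E) ↥(A.obj.obj (op E))).val.toLinearMap :=
    mem_range_of_cover (isCoverAlg_of_cover Y g hc) _ fun j => by
      let := (str A φ (Y j)).toAlgebra
      obtain ⟨e, he⟩ := exists_algEquiv A φ (g j)
      exact mem_range_of_isIntegralElem A φ (g j) e _ (by rw [he]; exact h j)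
  obtain ⟨y, rfl⟩ := hmem
  exact y.2

/-- The integral sections. -/
def intSub : AffSub (algMod A φ) where
  sub E _ := intSubmodule A φ E
  res_mem {E T} hE hT g {s} h := isIntegralElem_map A φ g h
  locality {E} hE {s} ι Y hY g hc hs := isIntegralElem_of_cover A φ ι Y hY g hc hs

theorem isQuasicoherent_intSub : (intSub A φ).toMod.IsQuasicoherent := by
  refine AffSub.isQuasicoherent_toMod _ fun E T hE hT g => ?_
  let := (pb g).toAlgebra; let := (str A φ E).toAlgebra; let := (str A φ T).toAlgebra
  intro t ht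
  obtain ⟨e, he⟩ := exists_algEquiv A φ g
  let idM : ↥(A.obj.obj (op E)) ≃ₗ[gam E] sectModEt (algMod A φ) E :=
    { toFun := fun x => x
      invFun := fun x => x
      map_add' := fun _ _ => rfl
      map_smul' := fun a x => (Algebra.smul_def a x).trans (smul_algMod A φ a _).symm
      left_inv := fun _ => rfl
      right_inv := fun _ => rfl }
  have key : ∀ z, θ (algMod A φ) g (idM.lTensor (gam T) z) = (e z : sectModEt (algMod A φ) T) := fun z => by
    refine tensor_addHom_ext (f := (θ (algMod A φ) g).comp (idM.lTensor (gam T)).toAddEquiv.toAddMonoidHom)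
      (g := (show gam T ⊗[gam E] ↥(A.obj.obj (op E)) →+ sectModEt (algMod A φ) T from e.toRingEquiv.toAddEquiv.toAddMonoidHom))
      (fun r x => ?_) z
    show θ (algMod A φ) g (r ⊗ₜ[gam E] idM x) = e (r ⊗ₜ[gam E] x)
    rw [θ_tmul, show r ⊗ₜ[gam E] x = r • ((1 : gam T) ⊗ₜ[gam E] x) by rw [TensorProduct.smul_tmul', smul_eq_mul, mul_one],
      map_smul, he]
    rfl
  obtain ⟨z, rfl⟩ := (idM.lTensor (gam T)).surjective t
  rw [key] at ht
  obtain ⟨c, hc⟩ := mem_range_of_isIntegralElem A φ g e z ht
  let into : ↥(integralClosure (gam E) ↥(A.obj.obj (op E))) →ₗ[gam E] ↥(intSubmodule A φ E) :=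
    LinearMap.codRestrict _ (idM.toLinearMap.comp (integralClosure (gam E) ↥(A.obj.obj (op E))).val.toLinearMap)
      fun y => y.2
  refine ⟨into.lTensor (gam T) c, ?_⟩
  rw [← hc]
  exact (LinearMap.congr_fun (LinearMap.lTensor_comp (gam T) _ into) c).symm.trans
    (LinearMap.congr_fun (LinearMap.lTensor_comp (gam T) idM.toLinearMap _) c)

/-- The subring of integral sections over any object. -/
def intRing (E : EtOver X) : Subring ↥(A.obj.obj (op E)) where
  carrier := {x | (show sectModEt (algMod A φ) E from x) ∈ (intSub A φ).ext' E}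
  mul_mem' {a b} ha hb T hT g := by
    show (str A φ T).IsIntegralElem (A.obj.map g.op (a * b))
    rw [map_mul]
    exact RingHom.IsIntegralElem.mul _ (ha T hT g) (hb T hT g)
  one_mem' T hT g := by
    show (str A φ T).IsIntegralElem (A.obj.map g.op 1)
    rw [map_one]
    exact RingHom.isIntegralElem_one _
  add_mem' ha hb := ((intSub A φ).ext' E).add_mem ha hb
  zero_mem' := ((intSub A φ).ext' E).zero_mem
  neg_mem' h := ((intSub A φ).ext' E).neg_mem h

/-- The integral closure as a presheaf of rings. -/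
def intPsh : (EtOver X)ᵒᵖ ⥤ CommRingCat.{u + 1} where
  obj E := CommRingCat.of (intRing A φ E.unop)
  map {E T} g := CommRingCat.ofHom
    (((A.obj.map g).hom.comp (intRing A φ E.unop).subtype).codRestrict (intRing A φ T.unop)
      fun x => (intSub A φ).res_mem' g.unop (s := (show sectModEt (algMod A φ) E.unop from x.1)) x.2)
  map_id E := CommRingCat.hom_ext (RingHom.ext fun x => Subtype.ext (by
    show A.obj.map (𝟙 E) x.1 = x.1
    rw [A.obj.map_id]
    rfl))
  map_comp g h := CommRingCat.hom_ext (RingHom.ext fun x => Subtype.ext (by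
    show A.obj.map (g ≫ h) x.1 = A.obj.map h (A.obj.map g x.1)
    rw [A.obj.map_comp]
    rfl))

theorem isSheaf_intPsh : Presheaf.IsSheaf (etTop X) (intPsh A φ) := by
  refine (Presheaf.isSheaf_iff_isSheaf_forget _ _ (CategoryTheory.forget CommRingCat.{u + 1})).2 ?_
  refine Presheaf.isSheaf_of_iso_iff (P := (intSub A φ).psh.presheaf ⋙ CategoryTheory.forget AddCommGrpCat.{u + 1})
    (NatIso.ofComponents (fun _ => Iso.refl _) fun _ => rfl) |>.1 ?_
  exact (Presheaf.isSheaf_iff_isSheaf_forget _ _ (CategoryTheory.forget AddCommGrpCat.{u + 1})).1 (intSub A φ).isSheaf_psh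

theorem str_mem (E : EtOver X) (r : (OEt X).obj.obj (op E)) : φ.hom.app (op E) r ∈ intRing A φ E := fun T hT g => by
  show (str A φ T).IsIntegralElem (A.obj.map g.op (str A φ E (ULift.down r)))
  rw [map_str]
  exact RingHom.isIntegralElem_map _

/-- The structure map of the integral closure. -/
def intStr : OEt X ⟶ ⟨intPsh A φ, isSheaf_intPsh A φ⟩ where
  hom :=
    { app := fun E => CommRingCat.ofHom ((φ.hom.app E).hom.codRestrict _ (str_mem A φ E.unop))
      naturality := fun E T g => CommRingCat.hom_ext (RingHom.ext fun r => Subtype.ext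
        (NatTrans.naturality_apply φ.hom g r)) }

/-- The inclusion of the integral closure. -/
def intIncl : (⟨intPsh A φ, isSheaf_intPsh A φ⟩ : EtSh X CommRingCat.{u + 1}) ⟶ A where
  hom :=
    { app := fun E => CommRingCat.ofHom (intRing A φ E.unop).subtype
      naturality := fun _ _ _ => rfl }

theorem isQuasicoherent_intMod : (algMod _ (intStr A φ)).IsQuasicoherent := by
  let γ : (intSub A φ).toMod ⟶ algMod _ (intStr A φ) :=
    { val := PresheafOfModules.homMk
        { app := fun E => AddCommGrpCat.ofHom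
            (AddMonoidHom.mk' (fun x => x) fun _ _ => rfl)
          naturality := fun _ _ _ => rfl } fun E r x => rfl }
  haveI : IsIso ((SheafOfModules.toSheaf.{u + 1} (OEtRing X)).map γ) := by
    haveI : IsIso ((sheafToPresheaf _ _).map ((SheafOfModules.toSheaf.{u + 1} (OEtRing X)).map γ)) := by
      rw [NatTrans.isIso_iff_isIso_app]
      exact fun E => ConcreteCategory.isIso_iff_bijective _ |>.2 ⟨fun _ _ h => h, fun y => ⟨y, rfl⟩⟩
    exact isIso_of_reflects_iso _ (sheafToPresheaf _ _)
  haveI : IsIso γ := isIso_of_reflects_iso γ (SheafOfModules.toSheaf.{u + 1} (OEtRing X))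
  exact ObjectProperty.prop_of_iso (SheafOfModules.isQuasicoherent (OEtRing X)) (asIso γ) (isQuasicoherent_intSub A φ)

theorem exists_integralClosure_subalgebra :
    ∃ (A' : EtSh X CommRingCat.{u + 1}) (ι : A' ⟶ A) (φ' : OEt X ⟶ A'),
      φ' ≫ ι = φ ∧ (∀ E : EtOver X, Function.Injective (ι.hom.app (op E))) ∧
      (∀ E : EtOver X, IsAffine E.obj.left.left → ∀ x : A.obj.obj (op E),
        x ∈ Set.range (ι.hom.app (op E)) ↔ (φ.hom.app (op E)).hom.IsIntegralElem x) ∧
      (algMod A' φ').IsQuasicoherent := by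
  refine ⟨_, intIncl A φ, intStr A φ, Sheaf.hom_ext rfl, fun E => Subtype.val_injective, fun E hE x => ?_,
    isQuasicoherent_intMod A φ⟩
  have hiff : (str A φ E).IsIntegralElem x ↔ (φ.hom.app (op E)).hom.IsIntegralElem x := by
    constructor
    · rintro ⟨p, hp, h0⟩
      exact ⟨p.map (ULift.ringEquiv (R := gam E)).symm.toRingHom, hp.map _, by rw [Polynomial.eval₂_map]; exact h0⟩
    · rintro ⟨p, hp, h0⟩
      refine ⟨p.map (ULift.ringEquiv (R := gam E)).toRingHom, hp.map _, ?_⟩
      rw [Polynomial.eval₂_map]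
      exact h0
  rw [← hiff]
  refine ⟨?_, fun h => ⟨(⟨x, ((intSub A φ).mem_ext'_iff hE (show sectModEt (algMod A φ) E from x)).2 h⟩ : intRing A φ E), rfl⟩⟩
  rintro ⟨y, rfl⟩
  exact ((intSub A φ).mem_ext'_iff hE _).1 (y : intRing A φ E).2

end Groth.Agent.EtQCoh5
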