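import Groth.Agent.EtQCoh.Alg
import Groth.Agent.CAlgUI.DescentProj
import Mathlib.Algebra.Module.Projective
import Mathlib.LinearAlgebra.DFinsupp

/-!
# Projectivity descends along covering families of algebras
-/

set_option linter.style.haveILetI false

noncomputable section

universe u

open TensorProduct

namespace Groth.Agent.EtQCoh5

open Groth.Agent.EtQCoh

theorem projective_restrict {R : Type u} [CommRing R] (A : Type u) [CommRing A] [Algebra R A] (M : Type u)
    [AddCommGroup M] [Module R M] [Module A M] [IsScalarTower R A M] [Module.Projective R A] [Module.Projective A M] :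
    Module.Projective R M := by
  classical
  obtain ⟨s, hs⟩ := ‹Module.Projective A M›
  have : Module.Projective R (M →₀ A) := Module.Projective.of_equiv (finsuppLequivDFinsupp R).symm
  exact Module.Projective.of_split (s.restrictScalars R) ((Finsupp.linearCombination A id).restrictScalars R)
    (LinearMap.ext hs)

variable {C : Type u} [CommRing C] {ι : Type u} [Finite ι] {D : ι → Type u} [∀ i, CommRing (D i)]
  [∀ i, Algebra C (D i)] (h : IsCoverAlg (C := C) D) {P : Type u} [AddCommGroup P] [Module C P]

include h

theorem faithfullyFlat_pi_of_cover : Module.FaithfullyFlat C (∀ i, D i) := by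
  have := h.flat
  classical
  have := Fintype.ofFinite ι
  have : Module.Flat C (∀ i, D i) :=
    Module.Flat.of_linearEquiv (DFinsupp.linearEquivFunOnFintype (R := C) (M := D)).symm
  refine Module.FaithfullyFlat.of_comap_surjective fun q => ?_
  obtain ⟨i, p, hp⟩ := h.surj q
  exact ⟨PrimeSpectrum.comap (Pi.evalRingHom D i) p, by rw [← hp]; rfl⟩

omit h in
theorem projective_eval (i : ι) :
    letI := (Pi.evalRingHom D i).toAlgebra
    Module.Projective (∀ i, D i) (D i) := by
  classical
  letI := (Pi.evalRingHom D i).toAlgebra
  refine Module.Projective.of_split (M := ∀ i, D i)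
    ({ toFun := Pi.single i
       map_add' := Pi.single_add i
       map_smul' := fun s x => ?_ } : D i →ₗ[∀ i, D i] ∀ i, D i)
    ({ toFun := fun s => s i
       map_add' := fun _ _ => rfl
       map_smul' := fun _ _ => rfl } : (∀ i, D i) →ₗ[∀ i, D i] D i) (LinearMap.ext fun x => Pi.single_eq_same i x)
  funext j
  obtain rfl | hj := eq_or_ne j i
  · exact (Pi.single_eq_same j _).trans (congrArg (s j * ·) (Pi.single_eq_same j x).symm)
  · exact (Pi.single_eq_of_ne hj _).trans ((mul_zero (s j)).symm.trans (congrArg (s j * ·) (Pi.single_eq_of_ne hj x).symm))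

theorem projective_of_cover (hP : ∀ i, Module.Projective (D i) (D i ⊗[C] P)) : Module.Projective C P := by
  classical
  have := Fintype.ofFinite ι
  have := faithfullyFlat_pi_of_cover h
  suffices Module.Projective (∀ i, D i) ((∀ i, D i) ⊗[C] P) from
    CAlgUI.projective_descent (R := C) (S := ∀ i, D i)
  letI : ∀ i, Algebra (∀ i, D i) (D i) := fun i => (Pi.evalRingHom D i).toAlgebra
  haveI : ∀ i, IsScalarTower C (∀ i, D i) (D i) := fun i => .of_algebraMap_eq fun _ => rfl
  haveI : ∀ i, Module.Projective (∀ i, D i) (D i) := fun i => projective_eval i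
  haveI : ∀ i, Module.Projective (∀ i, D i) (D i ⊗[C] P) := fun i =>
    projective_restrict (D i) (D i ⊗[C] P)
  let e : (∀ i, D i) ⊗[C] P →ₗ[∀ i, D i] ∀ i, D i ⊗[C] P := LinearMap.pi fun i =>
    AlgebraTensorModule.map (Algebra.linearMap (∀ i, D i) (D i)) (LinearMap.id (R := C) (M := P))
  have he : ∀ t, e t = TensorProduct.piLeft C P D t := fun t => by
    induction t with
    | zero => simp only [map_zero]
    | add a b ha hb => rw [map_add, map_add, ha, hb]
    | tmul a b => funext i; simp [e]; rfl
  have hb : Function.Bijective e := by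
    rw [show (e : _ → _) = TensorProduct.piLeft C P D from funext he]
    exact LinearEquiv.bijective _
  exact Module.Projective.of_equiv ((LinearEquiv.ofBijective e hb).trans DFinsupp.linearEquivFunOnFintype.symm).symm

end Groth.Agent.EtQCoh5
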