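import Groth.Agent.EtQCoh5.ProjSect

/-!
# Pullbacks of locally projective modules are locally projective
-/

set_option backward.isDefEq.respectTransparency false
set_option backward.isDefEq.respectTransparency.types false
set_option linter.style.haveILetI false

noncomputable section

universe u

open CategoryTheory CategoryTheory.Limits AlgebraicGeometry Opposite AlgSp TensorProduct

namespace Groth.Agent.EtQCoh5

open Groth.Agent.AlgSpQ4.MV Groth.Agent.AlgSpDec Groth.Agent.EtQCoh

variable {S : Scheme.{u}} {X Y : Sp S}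

section slice

variable {M : ModEt X} {E : EtOver X}

theorem oapp_ofree_ext {I : Type (u + 1)} {N : ModEtOn E} {a b : ofree E I ⟶ N}
    (h : ∀ {T : EtOver X} (f : T ⟶ E) (i : I), oapp a f (obasis I f i) = oapp b f (obasis I f i)) : a = b := by
  apply N.freeHomEquiv.injective
  funext i
  exact Subtype.ext (funext fun ⟨V⟩ => h V.hom i)

variable (σ : sectModEt M E →ₗ[gam E] (sectModEt M E →₀ gam E))

/-- The endomorphism of the free module given by a splitting. -/
def splitMap : ofree E (sectModEt M E) ⟶ ofree E (sectModEt M E) :=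
  (ofree E (sectModEt M E)).freeHomEquiv.symm fun x => sectionsOfTop _ (ocomb _ (𝟙 E) (σ x))

theorem splitMap_basis {T : EtOver X} (f : T ⟶ E) (x : sectModEt M E) :
    oapp (splitMap σ) f (obasis _ f x) = ocomb _ f ((σ x).mapRange (pb f) (map_zero _)) := by
  refine (oapp_basis (fun x => sectionsOfTop (ofree E (sectModEt M E)) (ocomb _ (𝟙 E) (σ x))) f x).trans ?_
  rw [sectionsOfTop_val, ores_ocomb]

theorem mapRange_smul_pb {I : Type (u + 1)} {T : EtOver X} (f : T ⟶ E) (a : gam E) (d : I →₀ gam E) :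
    (a • d).mapRange (pb f) (map_zero _) = pb f a • d.mapRange (pb f) (map_zero _) := by
  ext i
  simp

set_option maxHeartbeats 1000000 in
theorem splitMap_ocomb {T : EtOver X} (f : T ⟶ E) (d : sectModEt M E →₀ gam E) :
    oapp (splitMap σ) f (ocomb _ f (d.mapRange (pb f) (map_zero _))) =
      ocomb _ f ((σ (Finsupp.linearCombination (gam E) id d)).mapRange (pb f) (map_zero _)) := by
  induction d using Finsupp.induction_linear with
  | zero => simp
  | add c d hc hd =>
    rw [Finsupp.mapRange_add (by simp), map_add, map_add, hc, hd, map_add, map_add, Finsupp.mapRange_add (by simp),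
      map_add]
  | single x r =>
    rw [Finsupp.mapRange_single, Finsupp.linearCombination_single, id, σ.map_smul r x, mapRange_smul_pb,
      (ocomb _ f).map_smul, ← splitMap_basis, ← (oapp (splitMap σ) f).map_smul]
    exact congrArg (oapp (splitMap σ) f) (Finsupp.linearCombination_single _ _ _)

theorem relsMap_splitMap : relsMap M E ≫ splitMap σ = 0 := oapp_ofree_ext fun {T} f c => by
  show oapp (splitMap σ) f (oapp (relsMap M E) f (obasis _ f c)) = _
  rw [relsMap_basis, splitMap_ocomb, show Finsupp.linearCombination (gam E) id c.1 = 0 from c.2, map_zero,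
    Finsupp.mapRange_zero, map_zero]
  rfl

theorem linearCombination_res_mapRange {T : EtOver X} (f : T ⟶ E) (d : sectModEt M E →₀ gam E) :
    Finsupp.linearCombination (gam T) (fun y : sectModEt M E => res M f y) (d.mapRange (pb f) (map_zero _)) =
      res M f (Finsupp.linearCombination (gam E) id d) := by
  induction d using Finsupp.induction_linear with
  | zero => simp
  | add c d hc hd => rw [Finsupp.mapRange_add (by simp), map_add, hc, hd, map_add, map_add]
  | single y r =>
    rw [Finsupp.mapRange_single, Finsupp.linearCombination_single, Finsupp.linearCombination_single, id, res_smul]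

theorem splitMap_genMap (hσ : ∀ x, Finsupp.linearCombination (gam E) id (σ x) = x) :
    splitMap σ ≫ genMap M E = genMap M E := oapp_ofree_ext fun {T} f x => by
  show oapp (genMap M E) f (oapp (splitMap σ) f (obasis _ f x)) = _
  rw [splitMap_basis]
  have e : obasis (sectModEt M E) f x = ocomb _ f (Finsupp.single x 1) :=
    ((Finsupp.linearCombination_single _ _ _).trans (one_smul _ _)).symm
  rw [e]
  refine (genMap_ocomb M f _).trans (Eq.trans ?_ (genMap_ocomb M f _).symm)
  rw [Finsupp.linearCombination_single, one_smul, linearCombination_res_mapRange, hσ]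

theorem exists_retract_ofree (hM : CartAt M E) (hp : Module.Projective (gam E) (sectModEt M E)) :
    ∃ s : SheafOfModules.over M E ⟶ ofree E (sectModEt M E), s ≫ genMap M E = 𝟙 _ := by
  obtain ⟨σ, hσ⟩ := hp
  haveI : Epi (genMap M E) := (gens M E hM).epi
  haveI := epi_relsLift hM
  have hk : kernel.ι (genMap M E) ≫ splitMap σ = 0 := by
    rw [← cancel_epi (relsLift M E), ← Category.assoc, relsLift_ι, relsMap_splitMap, comp_zero]
  let s₀ := Abelian.epiDesc (genMap M E) (splitMap σ) hk
  exact ⟨s₀, (cancel_epi (genMap M E)).1 (by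
    rw [← Category.assoc, Abelian.comp_epiDesc, splitMap_genMap σ hσ, Category.comp_id])⟩

theorem projective_of_retract [IsAffine E.obj.left.left] {I : Type (u + 1)}
    (i : SheafOfModules.over M E ⟶ ofree E I) (r : ofree E I ⟶ SheafOfModules.over M E) (h : i ≫ r = 𝟙 _) :
    Module.Projective (gam E) (sectModEt M E) := by
  let c : (I →₀ gam E) ≃ₗ[gam E] osect (ofree E I) (𝟙 E) :=
    LinearEquiv.ofBijective (ocomb I (𝟙 E)) ⟨ocomb_injective I (𝟙 E), ocomb_surjective I (𝟙 E)⟩
  let i' : sectModEt M E →ₗ[gam E] (I →₀ gam E) :=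
    { toFun := fun x => c.symm (oapp i (𝟙 E) x)
      map_add' := fun x y => by rw [← map_add, ← map_add]
      map_smul' := fun a x => by rw [RingHom.id_apply, ← map_smul, ← map_smul] }
  let r' : (I →₀ gam E) →ₗ[gam E] sectModEt M E :=
    { toFun := fun d => oapp r (𝟙 E) (c d)
      map_add' := fun x y => by rw [map_add, map_add]
      map_smul' := fun a x => by rw [RingHom.id_apply, map_smul, map_smul] }
  refine Module.Projective.of_split i' r' (LinearMap.ext fun x => ?_)
  show oapp r (𝟙 E) (c (c.symm (oapp i (𝟙 E) x))) = x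
  rw [LinearEquiv.apply_symm_apply]
  exact congrArg (fun k : SheafOfModules.over M E ⟶ SheafOfModules.over M E => oapp k (𝟙 E) x) h

theorem small_of_retract [IsAffine E.obj.left.left] {I : Type (u + 1)} [Small.{u} I]
    (i : SheafOfModules.over M E ⟶ ofree E I) (r : ofree E I ⟶ SheafOfModules.over M E) (h : i ≫ r = 𝟙 _) :
    Small.{u} (sectModEt M E) := by
  let c : (I →₀ gam E) ≃ₗ[gam E] osect (ofree E I) (𝟙 E) :=
    LinearEquiv.ofBijective (ocomb I (𝟙 E)) ⟨ocomb_injective I (𝟙 E), ocomb_surjective I (𝟙 E)⟩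
  haveI : Small.{u} (I →₀ gam E) := ⟨Shrink.{u} I →₀ gam E, ⟨(Finsupp.domCongr (equivShrink I)).toEquiv⟩⟩
  refine small_of_injective (f := fun x => c.symm (oapp i (𝟙 E) x)) fun x y hxy => ?_
  have h' := congrArg (fun d => (oapp r (𝟙 E) (c d) : sectModEt M E)) hxy
  simp only [LinearEquiv.apply_symm_apply] at h'
  have hx : ∀ z : sectModEt M E, (oapp r (𝟙 E) (oapp i (𝟙 E) z) : sectModEt M E) = z := fun z =>
    congrArg (fun k : SheafOfModules.over M E ⟶ SheafOfModules.over M E => oapp k (𝟙 E) z) h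
  rwa [hx, hx] at h'

end slice

section terminal

variable {T₀ : EtOver X} (hT : IsTerminal T₀)

/-- The free module seen on the slice of a terminal object. -/
def freeSlice (I : Type (u + 1)) :
    (sliceModEquiv hT).functor.obj (ofree T₀ I) ≅ SheafOfModules.free (R := OEtRing X) I :=
  (SheafOfModules.mapFreeIso (sliceModEquiv hT).functor I (Iso.refl _)).symm

/-- Retracts of free modules descend from the slice. -/
def retractOfSlice {M : ModEt X} {I : Type (u + 1)} (r : Retract (SheafOfModules.over M T₀) (ofree T₀ I)) :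
    Retract M (SheafOfModules.free (R := OEtRing X) I) :=
  ((Retract.ofIso ((sliceModEquiv hT).counitIso.app M).symm).trans (r.map (sliceModEquiv hT).functor)).trans
    (Retract.ofIso (freeSlice hT I))

/-- Retracts of free modules restrict to the slice. -/
def retractToSlice {M : ModEt X} {I : Type (u + 1)} (r : Retract M (SheafOfModules.free (R := OEtRing X) I)) :
    Retract (SheafOfModules.over M T₀) (ofree T₀ I) :=
  (r.map (sliceModEquiv hT).inverse).trans
    (Retract.ofIso ((sliceModEquiv hT).inverse.mapIso (freeSlice hT I).symm ≪≫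
      ((sliceModEquiv hT).unitIso.app (ofree T₀ I)).symm))

end terminal

variable {f : X ⟶ Y} {U V : Over S} {p : (yon S).obj U ⟶ Y} {q : (yon S).obj V ⟶ X}
  {r : (yon S).obj V ⟶ (yon S).obj U}

set_option maxHeartbeats 1000000 in
theorem projAt_restr_pull (hf : Representable f) (hU : IsAffine U.left) (hV : IsAffine V.left)
    (hp : RepWith @Etale p) (hq : RepWith @Etale q) (hr : Representable r) (hw : q ≫ f = r ≫ p)
    [(SheafOfModules.pushforward.{u + 1} (bcRingHom hf)).IsRightAdjoint]
    (G : ModEt Y) (hG : G.IsQuasicoherent) (h : ProjAt (restr (isEtaleMor_of_repWith p hp) G) (top U)) :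
    ProjAt (restr (isEtaleMor_of_repWith q hq) ((pullModEt hf).obj G)) (top V) := by
  have hqe := isEtaleMor_of_repWith q hq
  have hpe := isEtaleMor_of_repWith p hp
  haveI := PostcompSite.isContinuous q hqe
  haveI := PostcompSite.isContinuous p hpe
  have hpq : Representable (r ≫ p) := MorphismProperty.comp_mem _ r p hr hp.1
  obtain ⟨c₁⟩ := nonempty_pushCompIso hq.1 hf hpq hw
  obtain ⟨c₂⟩ := nonempty_pushCompIso hr hp.1 hpq rfl
  let adjX := (pullPushAdjModEt hf).comp (EtPullRestrict.modAdj hq.1 hqe)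
  let adjY := EtPullRestrict.modAdj hp.1 hpe
  let L := restr hqe ((pullModEt hf).obj G)
  let M := restr hpe G
  let e : ∀ N, (L ⟶ N) ≃ (M ⟶ (pushModEt hr).obj N) := fun N =>
    (adjX.homEquiv G N).trans ((Iso.homCongr (Iso.refl G) ((c₁ ≪≫ c₂.symm).app N)).trans
      (adjY.homEquiv G ((pushModEt hr).obj N)).symm)
  have he : ∀ {N N' : ModEt ((yon S).obj V)} (d : L ⟶ N) (k : N ⟶ N'),
      e N' (d ≫ k) = e N d ≫ (pushModEt hr).map k := fun {N N'} d k => by
    show (adjY.homEquiv G _).symm (𝟙 G ≫ adjX.homEquiv G N' (d ≫ k) ≫ (c₁ ≪≫ c₂.symm).hom.app N') =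
      (adjY.homEquiv G _).symm (𝟙 G ≫ adjX.homEquiv G N d ≫ (c₁ ≪≫ c₂.symm).hom.app N) ≫ (pushModEt hr).map k
    rw [← adjY.homEquiv_naturality_right_symm, adjX.homEquiv_naturality_right]
    congr 1
    simp only [Category.id_comp, Category.assoc]
    exact congrArg (adjX.homEquiv G N d ≫ ·) ((c₁ ≪≫ c₂.symm).hom.naturality k)
  haveI := final_bc hr (top U)
  haveI : IsAffine (top U).obj.left.left := hU
  haveI : IsAffine (top V).obj.left.left := hV
  haveI := isQuasicoherent_restr hpe G hG
  obtain ⟨N₀, _, _, hN₀, ⟨ε⟩⟩ := h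
  haveI : Small.{u} (sectModEt M (top U)) := small_map ε.toEquiv.symm
  obtain ⟨s, hs⟩ := exists_retract_ofree (cartAt M (top U)) (Module.Projective.of_equiv ε)
  let ρ := retractOfSlice (isTerminalOfIsIso (top U)) { i := s, r := genMap M (top U), retract := hs }
  let I := sectModEt M (top U)
  let j : L ⟶ SheafOfModules.free I := (e _).symm (ρ.i ≫ freeTransport (bcRingHom hr) I _ (𝟙 _))
  let k : SheafOfModules.free I ⟶ L := (freeTransport (bcRingHom hr) I L).symm (ρ.r ≫ e L (𝟙 L))
  have hjk : j ≫ k = 𝟙 L := by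
    apply (e L).injective
    rw [he, Equiv.apply_symm_apply, Category.assoc, ← freeTransport_comp, Category.id_comp, Equiv.apply_symm_apply,
      ρ.retract_assoc]
  let σ := retractToSlice (isTerminalOfIsIso (top V)) ({ i := j, r := k, retract := hjk } : Retract L _)
  haveI := small_of_retract σ.i σ.r σ.retract
  have hP := projective_of_retract σ.i σ.r σ.retract
  exact ⟨Shrink.{u} (sectModEt L (top V)), inferInstance, inferInstance,
    Module.Projective.of_equiv (Shrink.linearEquiv (gam (top V)) (sectModEt L (top V))).symm,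
    ⟨Shrink.linearEquiv (gam (top V)) (sectModEt L (top V))⟩⟩

end Groth.Agent.EtQCoh5

namespace Groth.Agent.EtQCoh5

open Groth.Agent.AlgSpQ4.MV Groth.Agent.AlgSpDec Groth.Agent.EtQCoh

variable {S : Scheme.{u}} {X Y : Sp S} {f : X ⟶ Y}

set_option maxHeartbeats 1000000 in
theorem projAt_pull_open (hf : Representable f) {U : Over S} (p : (yon S).obj U ⟶ Y) (hp : RepWith @Etale p)
    [(SheafOfModules.pushforward.{u + 1} (bcRingHom hf)).IsRightAdjoint]
    (G : ModEt Y) (hG : G.IsQuasicoherent) (hproj : ∀ E : EtOver Y, IsAffine E.obj.left.left → ProjAt G E)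
    [((pullModEt hf).obj G).IsQuasicoherent]
    (O : ((EtOver.bc hf).obj (EtOver.mk p hp)).obj.left.left.Opens) (hO : IsAffineOpen O)
    (U' : U.left.Opens) (hU' : IsAffineOpen U') (hle : O ≤ (hf.snd p).left ⁻¹ᵁ U') :
    ProjAt ((pullModEt hf).obj G) (etOpen ((EtOver.bc hf).obj (EtOver.mk p hp)) O) := by
  let R := (EtOver.bc hf).obj (EtOver.mk p hp)
  let W := etOpen R O
  let T : Over S := Over.mk (U'.ι ≫ U.hom)
  let j : T ⟶ U := CategoryTheory.Over.homMk U'.ι rfl
  have hj : RepWith @Etale ((yon S).map j ≫ p) :=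
    AlgSpLib.repWith_comp ((repWith_yon_map_iff _ _).2 (inferInstanceAs (Etale U'.ι))) hp
  have hr₀ : Set.range (O.ι ≫ (hf.snd p).left) ⊆ Set.range U'.ι := by
    rintro _ ⟨x, rfl⟩
    exact U'.range_ι.ge (hle (O.range_ι.le ⟨x, rfl⟩))
  let r : W.obj.left ⟶ T := CategoryTheory.Over.homMk (IsOpenImmersion.lift U'.ι (O.ι ≫ (hf.snd p).left) hr₀) (by
    show IsOpenImmersion.lift _ _ hr₀ ≫ U'.ι ≫ U.hom = O.ι ≫ R.obj.left.hom
    rw [IsOpenImmersion.lift_fac_assoc, Category.assoc]
    exact congrArg (O.ι ≫ ·) (Over.w (hf.snd p)))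
  have hrj : r ≫ j = (etOpenι R O).hom.left ≫ hf.snd p :=
    Over.OverMorphism.ext (IsOpenImmersion.lift_fac _ _ _)
  have hw : W.obj.hom ≫ f = (yon S).map r ≫ (yon S).map j ≫ p := by
    show ((yon S).map (etOpenι R O).hom.left ≫ hf.fst p) ≫ f = _
    rw [← Category.assoc ((yon S).map r), ← Functor.map_comp, hrj, Category.assoc, hf.w, Functor.map_comp,
      Category.assoc]
  have hT := (projAt_restr_iff (isEtaleMor_of_repWith _ hj) G (top T)).2 (hproj _ hU')
  have hq := projAt_restr_pull (U := T) (V := W.obj.left) (p := (yon S).map j ≫ p) (q := W.obj.hom)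
    (r := (yon S).map r) hf (show IsAffine T.left from hU') (show IsAffine W.obj.left.left from hO) hj W.property
    (representable_yon_map r) hw G hG hT
  let W' := (EtOver.postcomp W.obj.hom (isEtaleMor_of_repWith _ W.property)).obj (top W.obj.left)
  haveI : IsAffine W'.obj.left.left := hO
  let k : W ⟶ W' := EtOver.homMk (𝟙 _) (by
    show (yon S).map (𝟙 W.obj.left) ≫ 𝟙 _ ≫ W.obj.hom = W.obj.hom
    rw [(yon S).map_id, Category.id_comp, Category.id_comp])
  exact projAt_of_map k (cartAt _ W' W hO k)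
    ((projAt_restr_iff (isEtaleMor_of_repWith _ W.property) _ (top W.obj.left)).1 hq)

theorem projAt_pull (hf : Representable f) (hY : IsAlgSpace Y)
    [(SheafOfModules.pushforward.{u + 1} (bcRingHom hf)).IsRightAdjoint]
    (G : ModEt Y) (hG : G.IsQuasicoherent) (hproj : ∀ E : EtOver Y, IsAffine E.obj.left.left → ProjAt G E)
    (E : EtOver X) [IsAffine E.obj.left.left] : ProjAt ((pullModEt hf).obj G) E := by
  haveI := isQuasicoherent_pull hf hY G hG
  obtain ⟨U, a, ha, has⟩ := hY.atlas
  let R := (EtOver.bc hf).obj (EtOver.mk a ha)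
  have sq := ha.rep.isPullback' (E.obj.hom ≫ f)
  let t := ha.rep.snd (E.obj.hom ≫ f)
  have ht : Etale t.left := ha.property_snd (E.obj.hom ≫ f)
  let V : EtOver X := EtOver.mk ((yon S).map t ≫ E.obj.hom)
    (AlgSpLib.repWith_comp ((repWith_yon_map_iff _ _).2 ht) E.property)
  let c : V ⟶ E := EtOver.homMk t rfl
  let b : V ⟶ R := EtOver.homMk (hf.lift V.obj.hom (ha.rep.fst' (E.obj.hom ≫ f)) (by
      show ((yon S).map t ≫ E.obj.hom) ≫ f = _
      rw [Category.assoc]
      exact sq.w.symm))
    (hf.lift_fst _ _ _)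
  have hts : Surjective t.left := has.property_snd (E.obj.hom ≫ f)
  have hloc : ∀ z : ↥R.obj.left.left, ∃ (O : R.obj.left.left.Opens) (U' : U.left.Opens),
      IsAffineOpen O ∧ IsAffineOpen U' ∧ O ≤ (hf.snd a).left ⁻¹ᵁ U' ∧ z ∈ O := fun z => by
    obtain ⟨U', hU', hz, -⟩ := exists_isAffineOpen_mem_and_subset (U := (⊤ : U.left.Opens))
      (x := (hf.snd a).left z) trivial
    obtain ⟨O, hO, hzO, hOle⟩ := exists_isAffineOpen_mem_and_subset (U := (hf.snd a).left ⁻¹ᵁ U') (x := z) hz
    exact ⟨O, U', hO, hU', hOle, hzO⟩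
  choose O U' hO hU' hle hzO using hloc
  obtain ⟨ι, hι, F, hF, e, hm, hcov⟩ := exists_cover_of_sieve (T := E)
    (fun Z m => ∃ z, Nonempty (Z ⟶ etOpen R (O z))) (fun Z Z' m k ⟨z, ⟨l⟩⟩ => ⟨z, ⟨k ≫ l⟩⟩) (fun x => by
      obtain ⟨y, hy⟩ := hts.surj x
      let O' := b.hom.left.left ⁻¹ᵁ O (b.hom.left.left y)
      refine ⟨etOpen V O', etOpenι V O' ≫ c, ?_, b.hom.left.left y, ⟨?_⟩⟩
      · obtain ⟨y', hy'⟩ := (range_etOpenι V O').ge (show y ∈ O' from hzO _)
        refine ⟨y', ?_⟩
        show t.left ((etOpenι V O').hom.left.left y') = x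
        rw [hy', hy]
      · exact openTo (etOpenι V O' ≫ b) _ (by
          rintro _ ⟨y', rfl⟩
          exact (range_etOpenι V O').le ⟨y', rfl⟩))
  refine projAt_of_cover (cartAt _ E) F e hcov fun i => ?_
  obtain ⟨z, ⟨k⟩⟩ := hm i
  haveI : IsAffine (etOpen R (O z)).obj.left.left := hO z
  exact projAt_of_map k (cartAt _ _ (F i) (hF i) k)
    (projAt_pull_open hf a ha G hG hproj (O z) (hO z) (U' z) (hU' z) (hle z))

end Groth.Agent.EtQCoh5
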