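import Groth.Agent.EtQCoh5.Pull
import Groth.Agent.EtQCoh5.ProjAlg
import Groth.Prelude.Def_AlgSpModX

/-!
# Locally projective quasi-coherent modules: sections over affine objects
-/

set_option backward.isDefEq.respectTransparency false
set_option backward.isDefEq.respectTransparency.types false
set_option linter.style.haveILetI false

noncomputable section

universe u

open CategoryTheory CategoryTheory.Limits AlgebraicGeometry Opposite AlgSp TensorProduct

namespace Groth.Agent.EtQCoh5

open Groth.Agent.AlgSpQ4.MV Groth.Agent.AlgSpDec Groth.Agent.EtQCoh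

variable {S : Scheme.{u}} {X Y : Sp S}

/-- The sections over an object are a projective module, up to universe. -/
def ProjAt (M : ModEt X) (E : EtOver X) : Prop :=
  ∃ (N : Type u) (_ : AddCommGroup N) (_ : Module (gam E) N),
    Module.Projective (gam E) N ∧ Nonempty (N ≃ₗ[gam E] sectModEt M E)

theorem projAt_of_iso {M M' : ModEt X} (e : M ≅ M') {E : EtOver X} (h : ProjAt M E) : ProjAt M' E := by
  obtain ⟨N, _, _, hN, ⟨f⟩⟩ := h
  refine ⟨N, ‹_›, ‹_›, hN, ⟨f.trans (LinearEquiv.ofBijective
    ({ toFun := fun x => e.hom.val.app (op E) x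
       map_add' := map_add _
       map_smul' := app_smul e.hom } : sectModEt M E →ₗ[gam E] sectModEt M' E) ?_)⟩⟩
  refine Function.bijective_iff_has_inverse.2 ⟨fun x => e.inv.val.app (op E) x, fun x => ?_, fun x => ?_⟩
  · exact congrArg (fun k : M ⟶ M => k.val.app (op E) x) e.hom_inv_id
  · exact congrArg (fun k : M' ⟶ M' => k.val.app (op E) x) e.inv_hom_id

theorem projAt_of_map {M : ModEt X} {E T : EtOver X} (g : T ⟶ E) (hg : CartMap M g) (h : ProjAt M E) :
    ProjAt M T := by
  letI := (pb g).toAlgebra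
  obtain ⟨N, _, _, hN, ⟨f⟩⟩ := h
  refine ⟨gam T ⊗[gam E] N, inferInstance, inferInstance, inferInstance,
    ⟨(f.baseChange (gam E) (gam T) N (sectModEt M E)).trans (LinearEquiv.ofBijective (θLin M g) hg)⟩⟩

/-- Projectivity of sections is local for the etale topology. -/
theorem projAt_of_cover {M : ModEt X} {E : EtOver X} [IsAffine E.obj.left.left] (hM : CartAt M E) {ι : Type u}
    [Finite ι] (F : ι → EtOver X) [∀ i, IsAffine (F i).obj.left.left] (e : ∀ i, F i ⟶ E)
    (hcov : ∀ x : ↥E.obj.left.left, ∃ i, x ∈ Set.range (e i).hom.left.left) (h : ∀ i, ProjAt M (F i)) :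
    ProjAt M E := by
  choose N hNa hNm hNp hNe using h
  haveI : ∀ i, Small.{u} (sectModEt M (F i)) := fun i => small_map (hNe i).some.toEquiv.symm
  haveI : Small.{u} (sectModEt M E) :=
    small_of_injective (f := fun s i => res M (e i) s) fun s t hst => sect_ext' M F e hcov fun i => congrFun hst i
  let ε := Shrink.linearEquiv (gam E) (sectModEt M E)
  refine ⟨Shrink.{u} (sectModEt M E), inferInstance, inferInstance, ?_, ⟨ε⟩⟩
  letI := fun i => (pb (e i)).toAlgebra
  refine projective_of_cover (D := fun i => gam (F i)) (isCoverAlg_of_cover F e hcov) fun i => ?_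
  have := hNp i
  exact Module.Projective.of_equiv ((hNe i).some.trans ((ε.baseChange (gam E) (gam (F i)) _ _).trans
    (LinearEquiv.ofBijective (θLin M (e i)) (hM (F i) inferInstance (e i)))).symm)

variable {f : X ⟶ Y} (hf : IsEtaleMor f)

theorem projAt_restr_iff (M : ModEt Y) (E : EtOver X) :
    ProjAt (restr hf M) E ↔ ProjAt M ((EtOver.postcomp f hf).obj E) := by
  constructor
  · rintro ⟨N, a, m, hN, ⟨e⟩⟩
    exact ⟨N, a, m, hN, ⟨(e.trans (restrEquiv hf M E) : N ≃ₗ[gam E] sectModEt M ((EtOver.postcomp f hf).obj E))⟩⟩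
  · rintro ⟨N, a, m, hN, ⟨e⟩⟩
    letI m' : Module (gam E) N := m
    let e' : N ≃ₗ[gam E] sectModEt M ((EtOver.postcomp f hf).obj E) :=
      { e.toAddEquiv with map_smul' := e.map_smul }
    exact ⟨N, a, m', hN, ⟨e'.trans (restrEquiv hf M E).symm⟩⟩

section Companion

variable {U : Over S} {M : ModEt ((yon S).obj U)} {G : U.left.Modules}
  (c : ZarCompanion U.left G ((resSchModEt U).obj M)) (W : U.left.Opens)

/-- The object of the small etale site given by an open. -/
abbrev openObj : EtOver ((yon S).obj U) := (EtOver.ofScheme U).obj (etaleOfOpen U.left W)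

/-- Functions on an open, in two forms. -/
def openRing : gam (openObj (U := U) W) ≃+* Γ(U.left, W) := W.topIso.commRingCatIsoToRingEquiv

/-- The sections on an open, identified by a companion. -/
def companionEquiv : sectModEt M (openObj W) ≃+ Γ(G, W) := (c.iso W).trans AddEquiv.ulift

theorem companionEquiv_smul (a : gam (openObj (U := U) W)) (x : sectModEt M (openObj W)) :
    companionEquiv c W (a • x) = openRing W a • companionEquiv c W x := by
  have h := congrArg ULift.down (c.map_smul W (openRing W a) x)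
  refine Eq.trans (congrArg (companionEquiv c W) ?_) h
  have : W.topIso.inv (openRing W a) = a := (openRing (U := U) W).symm_apply_apply a
  rw [this]
  rfl

include c in
theorem projAt_open (h : Module.Projective Γ(U.left, W) Γ(G, W)) : ProjAt M (openObj W) := by
  letI inst : Module (gam (openObj (U := U) W)) Γ(G, W) := Module.compHom _ (openRing W).toRingHom
  refine ⟨Γ(G, W), inferInstance, inst, ?_, ⟨((companionEquiv c W).toLinearEquiv (companionEquiv_smul c W)).symm⟩⟩
  let σ : Γ(U.left, W) →+* gam (openObj (U := U) W) := (openRing W).symm.toRingHom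
  let σ' : gam (openObj (U := U) W) →+* Γ(U.left, W) := (openRing W).toRingHom
  haveI : RingHomInvPair σ σ' := RingHomInvPair.of_ringEquiv (openRing W).symm
  haveI : RingHomInvPair σ' σ := RingHomInvPair.of_ringEquiv (openRing W)
  exact Module.Projective.of_equiv ({ AddEquiv.refl _ with
    map_smul' := fun b x => by
      show b • x = openRing W ((openRing W).symm b) • x
      rw [RingEquiv.apply_symm_apply] } : Γ(G, W) ≃ₛₗ[σ] Γ(G, W))

include c in
theorem projective_open (h : ProjAt M (openObj W)) : Module.Projective Γ(U.left, W) Γ(G, W) := by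
  obtain ⟨N, _, _, hN, ⟨e⟩⟩ := h
  let σ : gam (openObj (U := U) W) →+* Γ(U.left, W) := (openRing W).toRingHom
  let σ' : Γ(U.left, W) →+* gam (openObj (U := U) W) := (openRing W).symm.toRingHom
  haveI : RingHomInvPair σ σ' := RingHomInvPair.of_ringEquiv (openRing W)
  haveI : RingHomInvPair σ' σ := RingHomInvPair.of_ringEquiv (openRing W).symm
  exact Module.Projective.of_equiv ({ e.toAddEquiv.trans (companionEquiv c W) with
    map_smul' := fun a x => by
      show companionEquiv c W (e (a • x)) = openRing W a • companionEquiv c W (e x)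
      rw [map_smul, companionEquiv_smul] } : N ≃ₛₗ[σ] Γ(G, W))

end Companion

/-- A morphism from an open of an object over a scheme to the open of the scheme containing its image. -/
theorem exists_to_openObj {U : Over S} (R : EtOver ((yon S).obj U)) (y : ↥R.obj.left.left) :
    ∃ (W : U.left.Opens) (O : R.obj.left.left.Opens), IsAffineOpen W ∧ y ∈ O ∧
      Nonempty (etOpen R O ⟶ openObj W) := by
  obtain ⟨a, ha⟩ := (yon S).map_surjective R.obj.hom
  obtain ⟨W, hW, hyW, -⟩ := exists_isAffineOpen_mem_and_subset (U := (⊤ : U.left.Opens)) (x := a.left y) trivial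
  let O := a.left ⁻¹ᵁ W
  have hr : Set.range (O.ι ≫ a.left) ⊆ Set.range W.ι := by
    rintro _ ⟨x, rfl⟩
    exact W.range_ι.ge (O.range_ι.le ⟨x, rfl⟩)
  refine ⟨W, O, hW, hyW, ⟨EtOver.homMk (CategoryTheory.Over.homMk (IsOpenImmersion.lift W.ι (O.ι ≫ a.left) hr) ?_) ?_⟩⟩
  · show IsOpenImmersion.lift _ _ hr ≫ W.ι ≫ U.hom = O.ι ≫ R.obj.left.hom
    rw [IsOpenImmersion.lift_fac_assoc, Category.assoc]
    exact congrArg (O.ι ≫ ·) (Over.w a)
  · show (yon S).map _ ≫ (yon S).map _ ≫ 𝟙 _ = (yon S).map _ ≫ R.obj.hom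
    rw [Category.comp_id, ← ha, ← Functor.map_comp, ← Functor.map_comp]
    congr 1
    exact Over.OverMorphism.ext (IsOpenImmersion.lift_fac _ _ _)

/-- Projectivity over the opens of a surjective chart gives projectivity over all affine objects. -/
theorem projAt_of_chart {M : ModEt X} [M.IsQuasicoherent] {U : Over S} (p : (yon S).obj U ⟶ X)
    (hp : IsEtaleMor p) (hs : RepWith @Surjective p)
    (h : ∀ W : U.left.Opens, IsAffineOpen W → ProjAt M ((EtOver.postcomp p hp).obj (openObj W)))
    (E : EtOver X) [IsAffine E.obj.left.left] : ProjAt M E := by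
  let R := (EtOver.bc hs.1).obj E
  let c : (EtOver.postcomp p hp).obj R ⟶ E := (EtPullRestrict.adj hs.1 hp).counit.app E
  have hsurj : Surjective c.hom.left.left := by
    have h := hs.property_snd E.obj.hom
    have e : c.hom.left = 𝟙 R.obj.left ≫ hs.1.snd E.obj.hom := rfl
    rw [e, Category.id_comp]
    exact h
  obtain ⟨ι, hι, F, hF, e, hm, hcov⟩ := exists_cover_of_sieve (T := E)
    (fun V _ => ∃ W : U.left.Opens, IsAffineOpen W ∧ Nonempty (V ⟶ (EtOver.postcomp p hp).obj (openObj W)))
    (fun V V' a b ⟨W, hW, ⟨q⟩⟩ => ⟨W, hW, ⟨b ≫ q⟩⟩) (fun x => by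
      obtain ⟨y, hy⟩ := hsurj.surj x
      obtain ⟨W, O, hW, hyO, ⟨k⟩⟩ := exists_to_openObj R y
      obtain ⟨z, hz⟩ := (range_etOpenι R O).ge hyO
      refine ⟨_, (EtOver.postcomp p hp).map (etOpenι R O) ≫ c, ⟨z, ?_⟩, W, hW, ⟨(EtOver.postcomp p hp).map k⟩⟩
      rw [← hy, ← hz]
      rfl)
  refine projAt_of_cover (cartAt M E) F e hcov fun i => ?_
  obtain ⟨W, hW, ⟨k⟩⟩ := hm i
  haveI : IsAffine ((EtOver.postcomp p hp).obj (openObj W)).obj.left.left := hW
  exact projAt_of_map k (cartAt M _ (F i) (hF i) k) (h W hW)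

end Groth.Agent.EtQCoh5
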