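import Groth.Agent.EtQCoh5.Colim
import Groth.Agent.AlgSpDec.EtPullRestrict

/-!
# Quasi-coherence and restriction along etale morphisms
-/

set_option backward.isDefEq.respectTransparency false
set_option backward.isDefEq.respectTransparency.types false
set_option linter.style.haveILetI false

noncomputable section

universe u

open CategoryTheory CategoryTheory.Limits AlgebraicGeometry Opposite AlgSp TensorProduct

namespace Groth.Agent.EtQCoh5

open Groth.Agent.AlgSpQ4.MV Groth.Agent.AlgSpDec Groth.Agent.EtQCoh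

variable {S : Scheme.{u}} {X Y : Sp S}

theorem cartMap_of_isIso (M : ModEt X) {E T : EtOver X} (i : T ⟶ E) [IsIso i] : CartMap M i := by
  let := (pb i).toAlgebra
  have hs : ∀ t : gam T ⊗[gam E] sectModEt M E, ∃ y, t = 1 ⊗ₜ y := fun t => by
    induction t with
    | zero => exact ⟨0, by rw [TensorProduct.tmul_zero]⟩
    | add a b ha hb =>
      obtain ⟨y, rfl⟩ := ha
      obtain ⟨z, rfl⟩ := hb
      exact ⟨y + z, (TensorProduct.tmul_add _ _ _).symm⟩
    | tmul r x =>
      refine ⟨pb (inv i) r • x, ?_⟩
      rw [← TensorProduct.smul_tmul, Algebra.smul_def, mul_one]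
      congr 1
      show r = pb (i ≫ inv i) r
      rw [IsIso.hom_inv_id, pb_id]
  refine ⟨(injective_iff_map_eq_zero _).2 fun t ht => ?_, fun x => ⟨1 ⊗ₜ res M (inv i) x, ?_⟩⟩
  · obtain ⟨y, rfl⟩ := hs t
    rw [θ_tmul, one_smul] at ht
    rw [← res_id M y, ← IsIso.inv_hom_id i, res_comp, ht, map_zero, TensorProduct.tmul_zero]
  · rw [θ_tmul, one_smul, ← res_comp, IsIso.hom_inv_id, res_id]

variable {f : X ⟶ Y} (hf : IsEtaleMor f)

/-- Restriction of modules along an etale morphism. -/
def restr (M : ModEt Y) : ModEt X :=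
  haveI := PostcompSite.isContinuous f hf
  (SheafOfModules.pushforward.{u + 1} (EtPullRestrict.φ hf)).obj M

instance restrModule (M : ModEt Y) (E : EtOver X) :
    Module (gam E) (sectModEt M ((EtOver.postcomp f hf).obj E)) :=
  sectModule M ((EtOver.postcomp f hf).obj E)

/-- Sections of a restriction, additively. -/
def restrAddEquiv (M : ModEt Y) (E : EtOver X) :
    sectModEt (restr hf M) E ≃+ sectModEt M ((EtOver.postcomp f hf).obj E) :=
  { toFun := fun x => x
    invFun := fun x => x
    left_inv := fun _ => rfl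
    right_inv := fun _ => rfl
    map_add' := fun _ _ => rfl }

theorem φ_apply (E : EtOver X) (r : (OEtRing X).obj.obj (op E)) :
    haveI := PostcompSite.isContinuous f hf
    ((EtPullRestrict.φ hf).hom.app (op E)).hom r = r := by
  show (BigSite.ORing Scheme.etalePrecoverage S).obj.map (𝟙 E.obj.left).op r = r
  rw [op_id, CategoryTheory.Functor.map_id]
  rfl

set_option maxHeartbeats 1000000 in
theorem restr_smul (M : ModEt Y) (E : EtOver X) (a : gam E) (x : sectModEt (restr hf M) E) :
    restrAddEquiv hf M E (a • x) = a • restrAddEquiv hf M E x :=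
  haveI := PostcompSite.isContinuous f hf
  congrArg (fun r : (OEtRing Y).obj.obj (op ((EtOver.postcomp f hf).obj E)) => r • restrAddEquiv hf M E x)
    (φ_apply hf E (upΓ E a))

/-- Sections of a restriction. -/
def restrEquiv (M : ModEt Y) (E : EtOver X) :
    sectModEt (restr hf M) E ≃ₗ[gam E] sectModEt M ((EtOver.postcomp f hf).obj E) :=
  (restrAddEquiv hf M E).toLinearEquiv (restr_smul hf M E)

theorem restrEquiv_res (M : ModEt Y) {E T : EtOver X} (g : T ⟶ E) (x : sectModEt (restr hf M) E) :
    restrEquiv hf M T (res _ g x) = res M ((EtOver.postcomp f hf).map g) (restrEquiv hf M E x) := rfl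

set_option maxHeartbeats 2000000 in
theorem cartMap_restr_iff (M : ModEt Y) {E T : EtOver X} (g : T ⟶ E) :
    CartMap (restr hf M) g ↔ CartMap M ((EtOver.postcomp f hf).map g) := by
  letI := (pb g).toAlgebra
  let e : gam T ⊗[gam E] sectModEt (restr hf M) E ≃ₗ[gam E] gam T ⊗[gam E] sectModEt M ((EtOver.postcomp f hf).obj E) :=
    (restrEquiv hf M E).lTensor (gam T)
  have key : ∀ t, restrEquiv hf M T (θ (restr hf M) g t) = θ M ((EtOver.postcomp f hf).map g) (e t) := fun t => by
    induction t with
    | zero => simp only [map_zero]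
    | add a b ha hb => rw [map_add, map_add, ha, hb, map_add, map_add]
    | tmul r x =>
      rw [θ_tmul, map_smul, restrEquiv_res]
      rfl
  show Function.Bijective (θ (restr hf M) g) ↔ Function.Bijective (θ M ((EtOver.postcomp f hf).map g))
  rw [← Function.Bijective.of_comp_iff' (restrEquiv hf M T).bijective (θ (restr hf M) g)]
  rw [show (restrEquiv hf M T : _ → _) ∘ (θ (restr hf M) g) =
    (θ M ((EtOver.postcomp f hf).map g) : _ → _) ∘ e from funext key]
  exact Function.Bijective.of_comp_iff _ e.bijective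

theorem isQuasicoherent_restr (M : ModEt Y) (hM : M.IsQuasicoherent) : (restr hf M).IsQuasicoherent :=
  isQuasicoherent_of_cartAt fun E hE T hT g => (cartMap_restr_iff hf M g).2
    (haveI : IsAffine ((EtOver.postcomp f hf).obj E).obj.left.left := hE; cartAt M ((EtOver.postcomp f hf).obj E) ((EtOver.postcomp f hf).obj T) hT _)

variable (hrep : Representable f)
include hf

/-- The pullback along a representable etale morphism is the restriction. -/
def pullIso [(SheafOfModules.pushforward.{u + 1} (bcRingHom hrep)).IsRightAdjoint] (M : ModEt Y) :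
    restr hf M ≅ (pullModEt hrep).obj M :=
  haveI := PostcompSite.isContinuous f hf
  ((EtPullRestrict.modAdj hrep hf).leftAdjointUniq (pullPushAdjModEt hrep)).app M

theorem isQuasicoherent_pullModEt [(SheafOfModules.pushforward.{u + 1} (bcRingHom hrep)).IsRightAdjoint]
    (M : ModEt Y) (hM : M.IsQuasicoherent) : ((pullModEt hrep).obj M).IsQuasicoherent :=
  ObjectProperty.prop_of_iso (SheafOfModules.isQuasicoherent (OEtRing X)) (pullIso hf hrep M)
    (isQuasicoherent_restr hf M hM)

theorem cartAt_postcomp (M : ModEt Y) (hM : (restr hf M).IsQuasicoherent) (E : EtOver X)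
    [IsAffine E.obj.left.left] : CartAt M ((EtOver.postcomp f hf).obj E) := by
  intro T hT g
  let g₀ : T.obj.left ⟶ E.obj.left := g.hom.left
  have : Etale g₀.left := EtOver.etale_left g
  let T' : EtOver X := EtOver.mk ((yon S).map g₀ ≫ E.obj.hom)
    (AlgSpLib.repWith_comp ((repWith_yon_map_iff _ _).2 ‹Etale g₀.left›) E.property)
  let g' : T' ⟶ E := EtOver.homMk g₀ rfl
  have hw : ((EtOver.postcomp f hf).obj T').obj.hom = T.obj.hom :=
    (Category.assoc _ _ _).trans (EtOver.w g)
  let i : T ⟶ (EtOver.postcomp f hf).obj T' := EtOver.homMk (𝟙 T.obj.left) (by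
    show (yon S).map (𝟙 T.obj.left) ≫ ((EtOver.postcomp f hf).obj T').obj.hom = T.obj.hom
    rw [hw, (yon S).map_id, Category.id_comp])
  let j : (EtOver.postcomp f hf).obj T' ⟶ T := EtOver.homMk (𝟙 T.obj.left) (by
    show (yon S).map (𝟙 T.obj.left) ≫ T.obj.hom = ((EtOver.postcomp f hf).obj T').obj.hom
    refine Eq.trans ?_ hw.symm
    rw [(yon S).map_id, Category.id_comp])
  have : IsIso i := ⟨j, EtOver.hom_ext _ _ (Category.comp_id _), EtOver.hom_ext _ _ (Category.comp_id _)⟩
  have hg : i ≫ (EtOver.postcomp f hf).map g' = g := EtOver.hom_ext _ _ (Category.id_comp _)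
  rw [← hg]
  have := hM
  have hT' : IsAffine T'.obj.left.left := hT
  exact (cart_iff_of_comp i _ ((cartMap_restr_iff hf M g').1 (cartAt (restr hf M) E T' hT' g'))).2
    (cartMap_of_isIso M i)

theorem isQuasicoherent_of_restr (hs : RepWith @Surjective f) (M : ModEt Y) (hM : (restr hf M).IsQuasicoherent) :
    M.IsQuasicoherent := by
  refine isQuasicoherent_of_cartAt fun E hE => ?_
  let R := (EtOver.bc hs.1).obj E
  let c : (EtOver.postcomp f hf).obj R ⟶ E := (EtPullRestrict.adj hs.1 hf).counit.app E
  have hsurj : Surjective c.hom.left.left := by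
    have h := hs.property_snd E.obj.hom
    have e : c.hom.left = 𝟙 R.obj.left ≫ hs.1.snd E.obj.hom := rfl
    rw [e, Category.id_comp]
    exact h
  obtain ⟨ι, Z, hZ, k, -, hc⟩ := exists_affine_open_cover R
  obtain ⟨ι', hι', F, hF, e, hm, hcov⟩ := exists_cover_of_sieve (T := E)
    (fun V a => ∃ (i : ι) (b : V ⟶ (EtOver.postcomp f hf).obj (Z i)), a = b ≫ (EtOver.postcomp f hf).map (k i) ≫ c)
    (fun V V' a b ⟨i, q, hq⟩ => ⟨i, b ≫ q, by rw [hq, Category.assoc]⟩) (fun x => by
      obtain ⟨y, hy⟩ := hsurj.surj x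
      obtain ⟨i, z, hz⟩ := hc y
      refine ⟨_, (EtOver.postcomp f hf).map (k i) ≫ c, ⟨z, ?_⟩, i, 𝟙 _, (Category.id_comp _).symm⟩
      rw [← hy, ← hz]
      rfl)
  refine cartAt_of_cover F e hcov fun i => ?_
  obtain ⟨j, b, -⟩ := hm i
  have := hZ j
  exact cartAt_of_map (hF i) (cartAt_postcomp hf M hM (Z j)) b

theorem isQuasicoherent_of_pullModEt (hs : RepWith @Surjective f)
    [(SheafOfModules.pushforward.{u + 1} (bcRingHom hrep)).IsRightAdjoint]
    (M : ModEt Y) (hM : ((pullModEt hrep).obj M).IsQuasicoherent) : M.IsQuasicoherent :=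
  isQuasicoherent_of_restr hf hs M
    (ObjectProperty.prop_of_iso (SheafOfModules.isQuasicoherent (OEtRing X)) (pullIso hf hrep M).symm hM)

end Groth.Agent.EtQCoh5
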