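import Groth.Agent.EtQCoh5.Global
import Groth.Agent.EtQCoh5.Restrict

/-!
# Pullbacks of quasi-coherent modules are quasi-coherent
-/

set_option backward.isDefEq.respectTransparency false
set_option backward.isDefEq.respectTransparency.types false

noncomputable section

universe u

open CategoryTheory CategoryTheory.Limits AlgebraicGeometry Opposite AlgSp

namespace Groth.Agent.EtQCoh5

open Groth.Agent.AlgSpQ4.MV Groth.Agent.AlgSpDec Groth.Agent.EtQCoh

variable {S : Scheme.{u}} {X' X Y : Sp S} {g : X' ⟶ X} {f : X ⟶ Y} {h : X' ⟶ Y}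

section comp

variable (hg : Representable g) (hf : Representable f) (hh : Representable h) (w : g ≫ f = h)

/-- The comparison from the iterated base change. -/
def bcTo (E : EtOver Y) : (EtOver.bc hg).obj ((EtOver.bc hf).obj E) ⟶ (EtOver.bc hh).obj E :=
  EtOver.homMk (hh.lift ((EtOver.bc hg).obj ((EtOver.bc hf).obj E)).obj.hom
      (hg.snd (hf.fst E.obj.hom) ≫ hf.snd E.obj.hom) (by
    change hg.fst (hf.fst E.obj.hom) ≫ h = _
    rw [← w, ← Category.assoc, hg.w, Category.assoc, hf.w, Functor.map_comp, Category.assoc]))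
    (hh.lift_fst _ _ _)

/-- The first factor of the inverse comparison. -/
def bcFromAux (E : EtOver Y) : (hh.pullback E.obj.hom) ⟶ hf.pullback E.obj.hom :=
  hf.lift (hh.fst E.obj.hom ≫ g) (hh.snd E.obj.hom) (by rw [Category.assoc, w, hh.w])

/-- The comparison to the iterated base change. -/
def bcFrom (E : EtOver Y) : (EtOver.bc hh).obj E ⟶ (EtOver.bc hg).obj ((EtOver.bc hf).obj E) :=
  EtOver.homMk (hg.lift (hh.fst E.obj.hom) (bcFromAux hf hh w E) (by
    change _ = (yon S).map (bcFromAux hf hh w E) ≫ hf.fst E.obj.hom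
    rw [bcFromAux, hf.lift_fst]))
    (hg.lift_fst _ _ _)

theorem bcTo_snd (E : EtOver Y) : (bcTo hg hf hh w E).hom.left ≫ hh.snd E.obj.hom =
    hg.snd (hf.fst E.obj.hom) ≫ hf.snd E.obj.hom := hh.lift_snd _ _ _

theorem bcFrom_snd (E : EtOver Y) : (bcFrom hg hf hh w E).hom.left ≫ hg.snd (hf.fst E.obj.hom) =
    bcFromAux hf hh w E := hg.lift_snd _ _ _

theorem bcFrom_bcTo (E : EtOver Y) : bcFrom hg hf hh w E ≫ bcTo hg hf hh w E = 𝟙 _ := by
  refine EtOver.hom_ext _ _ (hh.hom_ext ((EtOver.w _).trans (EtOver.w (𝟙 ((EtOver.bc hh).obj E))).symm) ?_)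
  show ((bcFrom hg hf hh w E).hom.left ≫ (bcTo hg hf hh w E).hom.left) ≫ _ = 𝟙 _ ≫ hh.snd E.obj.hom
  rw [Category.assoc, bcTo_snd, reassoc_of% (bcFrom_snd hg hf hh w E), bcFromAux, hf.lift_snd]
  exact (Category.id_comp _).symm

theorem bcTo_bcFrom (E : EtOver Y) : bcTo hg hf hh w E ≫ bcFrom hg hf hh w E = 𝟙 _ := by
  refine EtOver.hom_ext _ _ (hg.hom_ext
    ((EtOver.w _).trans (EtOver.w (𝟙 ((EtOver.bc hg).obj ((EtOver.bc hf).obj E)))).symm) ?_)
  show ((bcTo hg hf hh w E).hom.left ≫ (bcFrom hg hf hh w E).hom.left) ≫ hg.snd (hf.fst E.obj.hom) =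
    𝟙 _ ≫ hg.snd (hf.fst E.obj.hom)
  rw [Category.assoc, bcFrom_snd]
  refine hf.hom_ext ?_ ?_
  · rw [Functor.map_comp, Category.assoc, bcFromAux, hf.lift_fst,
      show (yon S).map (bcTo hg hf hh w E).hom.left ≫ hh.fst E.obj.hom ≫ g =
        ((yon S).map (bcTo hg hf hh w E).hom.left ≫ hh.fst E.obj.hom) ≫ g from (Category.assoc _ _ _).symm,
      show (yon S).map (bcTo hg hf hh w E).hom.left ≫ hh.fst E.obj.hom =
        ((EtOver.bc hg).obj ((EtOver.bc hf).obj E)).obj.hom from EtOver.w (bcTo hg hf hh w E)]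
    refine Eq.trans (hg.w (hf.fst E.obj.hom)) ?_
    rw [Category.id_comp]
  · rw [Category.assoc, bcFromAux, hf.lift_snd, bcTo_snd, Category.id_comp]

theorem bcFrom_naturality {E E' : EtOver Y} (k : E ⟶ E') :
    (EtOver.bc hh).map k ≫ bcFrom hg hf hh w E' =
      bcFrom hg hf hh w E ≫ (EtOver.bc hg).map ((EtOver.bc hf).map k) := by
  haveI : IsIso (bcTo hg hf hh w E') := ⟨_, bcTo_bcFrom hg hf hh w E', bcFrom_bcTo hg hf hh w E'⟩
  rw [← cancel_mono (bcTo hg hf hh w E'), Category.assoc, bcFrom_bcTo, Category.comp_id, Category.assoc]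
  refine EtOver.hom_ext _ _ (hh.hom_ext ((EtOver.w _).trans (EtOver.w _).symm) ?_)
  show (EtOver.bcMap hh k).hom.left ≫ hh.snd E'.obj.hom =
    ((bcFrom hg hf hh w E).hom.left ≫ (EtOver.bcMap hg ((EtOver.bc hf).map k)).hom.left ≫
      (bcTo hg hf hh w E').hom.left) ≫ hh.snd E'.obj.hom
  rw [Category.assoc, Category.assoc, bcTo_snd, EtOver.bcMap_snd]
  show _ = (bcFrom hg hf hh w E).hom.left ≫ (EtOver.bcMap hg ((EtOver.bc hf).map k)).hom.left ≫
    hg.snd ((EtOver.bc hf).obj E').obj.hom ≫ hf.snd E'.obj.hom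
  rw [← Category.assoc (EtOver.bcMap hg ((EtOver.bc hf).map k)).hom.left, EtOver.bcMap_snd, Category.assoc]
  show _ = (bcFrom hg hf hh w E).hom.left ≫ hg.snd (hf.fst E.obj.hom) ≫ (EtOver.bcMap hf k).hom.left ≫
    hf.snd E'.obj.hom
  rw [EtOver.bcMap_snd, ← Category.assoc, ← Category.assoc, bcFrom_snd, bcFromAux, hf.lift_snd]

/-- Base change along a composite. -/
def bcCompIso : EtOver.bc hh ≅ EtOver.bc hf ⋙ EtOver.bc hg :=
  NatIso.ofComponents (fun E => ⟨bcFrom hg hf hh w E, bcTo hg hf hh w E, bcFrom_bcTo hg hf hh w E,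
    bcTo_bcFrom hg hf hh w E⟩) (fun k => bcFrom_naturality hg hf hh w k)

set_option maxHeartbeats 1000000 in
include w in
/-- Direct images compose. -/
theorem nonempty_pushCompIso : Nonempty (pushModEt hg ⋙ pushModEt hf ≅ pushModEt hh) := by
  haveI : (EtOver.bc hf ⋙ EtOver.bc hg).IsContinuous (etTop Y) (etTop X') :=
    Functor.isContinuous_comp _ _ _ (etTop X) _
  refine ⟨SheafOfModules.pushforwardComp.{u + 1} (bcRingHom hf) (bcRingHom hg) ≪≫
    SheafOfModules.pushforwardCongr₂.{u + 1} _ (bcCompIso hg hf hh w) ?_⟩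
  apply ObjectProperty.hom_ext
  refine NatTrans.ext (funext fun ⟨E⟩ => ?_)
  change ((BigSite.ORing Scheme.etalePrecoverage S).obj.map (hf.snd E.obj.hom).op ≫
      (BigSite.ORing Scheme.etalePrecoverage S).obj.map (hg.snd (hf.fst E.obj.hom)).op) ≫
    (BigSite.ORing Scheme.etalePrecoverage S).obj.map (bcFrom hg hf hh w E).hom.left.op =
    (BigSite.ORing Scheme.etalePrecoverage S).obj.map (hh.snd E.obj.hom).op
  rw [← Functor.map_comp, ← Functor.map_comp, ← op_comp, ← op_comp]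
  congr 2
  rw [← Category.assoc, bcFrom_snd, bcFromAux, hf.lift_snd]

end comp

variable {U V : Over S} {p : (yon S).obj U ⟶ Y} {q : (yon S).obj V ⟶ X} {r : (yon S).obj V ⟶ (yon S).obj U}

theorem isQuasicoherent_restr_pull (hf : Representable f) (hU : IsAffine U.left) (hp : RepWith @Etale p)
    (hq : RepWith @Etale q) (hr : Representable r) (hw : q ≫ f = r ≫ p)
    [(SheafOfModules.pushforward.{u + 1} (bcRingHom hf)).IsRightAdjoint]
    (G : ModEt Y) (hG : G.IsQuasicoherent) :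
    (restr (isEtaleMor_of_repWith q hq) ((pullModEt hf).obj G)).IsQuasicoherent := by
  have hqe := isEtaleMor_of_repWith q hq
  have hpe := isEtaleMor_of_repWith p hp
  haveI := PostcompSite.isContinuous q hqe
  haveI := PostcompSite.isContinuous p hpe
  have hpq : Representable (r ≫ p) := MorphismProperty.comp_mem _ r p hr hp.1
  obtain ⟨c₁⟩ := nonempty_pushCompIso hq.1 hf hpq hw
  obtain ⟨c₂⟩ := nonempty_pushCompIso hr hp.1 hpq rfl
  let adjX := (pullPushAdjModEt hf).comp (EtPullRestrict.modAdj hq.1 hqe)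
  let adjY := EtPullRestrict.modAdj hp.1 hpe
  let e : ∀ N, (restr hqe ((pullModEt hf).obj G) ⟶ N) ≃ (restr hpe G ⟶ (pushModEt hr).obj N) := fun N =>
    (adjX.homEquiv G N).trans ((Iso.homCongr (Iso.refl G) ((c₁ ≪≫ c₂.symm).app N)).trans
      (adjY.homEquiv G ((pushModEt hr).obj N)).symm)
  haveI := final_bc hr (top U)
  refine (presentationOfCorepresents (bcRingHom hr)
    (presentationAffine hU (restr hpe G) (isQuasicoherent_restr hpe G hG)) e ?_).isQuasicoherent
  intro N N' d k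
  show (adjY.homEquiv G _).symm (𝟙 G ≫ adjX.homEquiv G N' (d ≫ k) ≫ (c₁ ≪≫ c₂.symm).hom.app N') =
    (adjY.homEquiv G _).symm (𝟙 G ≫ adjX.homEquiv G N d ≫ (c₁ ≪≫ c₂.symm).hom.app N) ≫ (pushModEt hr).map k
  rw [← adjY.homEquiv_naturality_right_symm, adjX.homEquiv_naturality_right]
  congr 1
  simp only [Category.id_comp, Category.assoc]
  exact congrArg (adjX.homEquiv G N d ≫ ·) ((c₁ ≪≫ c₂.symm).hom.naturality k)

end Groth.Agent.EtQCoh5

namespace Groth.Agent.EtQCoh5

open Groth.Agent.AlgSpQ4.MV Groth.Agent.AlgSpDec Groth.Agent.EtQCoh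

variable {S : Scheme.{u}} {X Y : Sp S} {f : X ⟶ Y}

/-- A morphism with image in an open factors through it. -/
def openTo {E Z : EtOver X} (k : Z ⟶ E) (W : E.obj.left.left.Opens)
    (h : Set.range k.hom.left.left ⊆ (W : Set ↥E.obj.left.left)) : Z ⟶ etOpen E W :=
  EtOver.homMk (CategoryTheory.Over.homMk (IsOpenImmersion.lift W.ι k.hom.left.left (h.trans W.range_ι.ge)) (by
      change _ ≫ W.ι ≫ _ = _
      rw [IsOpenImmersion.lift_fac_assoc]
      exact Over.w k.hom.left)) (by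
    show (yon S).map _ ≫ (yon S).map _ ≫ E.obj.hom = Z.obj.hom
    rw [← Functor.map_comp_assoc]
    refine Eq.trans ?_ (EtOver.w k)
    congr 2
    exact Over.OverMorphism.ext (IsOpenImmersion.lift_fac _ _ _))

set_option maxHeartbeats 1000000 in
theorem cartAt_pull_open (hf : Representable f) {U : Over S} (p : (yon S).obj U ⟶ Y) (hp : RepWith @Etale p)
    [(SheafOfModules.pushforward.{u + 1} (bcRingHom hf)).IsRightAdjoint]
    (G : ModEt Y) (hG : G.IsQuasicoherent)
    (O : ((EtOver.bc hf).obj (EtOver.mk p hp)).obj.left.left.Opens) (hO : IsAffineOpen O)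
    (U' : U.left.Opens) (hU' : IsAffineOpen U') (hle : O ≤ (hf.snd p).left ⁻¹ᵁ U') :
    CartAt ((pullModEt hf).obj G) (etOpen ((EtOver.bc hf).obj (EtOver.mk p hp)) O) := by
  let R := (EtOver.bc hf).obj (EtOver.mk p hp)
  let W := etOpen R O
  let T : Over S := Over.mk (U'.ι ≫ U.hom)
  let j : T ⟶ U := CategoryTheory.Over.homMk U'.ι rfl
  have hj : RepWith @Etale ((yon S).map j ≫ p) :=
    AlgSpLib.repWith_comp ((repWith_yon_map_iff _ _).2 (inferInstanceAs (Etale U'.ι))) hp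
  have hr₀ : Set.range (O.ι ≫ (hf.snd p).left) ⊆ Set.range U'.ι := by
    rintro _ ⟨x, rfl⟩
    exact U'.range_ι.ge (hle (O.range_ι.le ⟨x, rfl⟩))
  let r : W.obj.left ⟶ T := CategoryTheory.Over.homMk (IsOpenImmersion.lift U'.ι (O.ι ≫ (hf.snd p).left) hr₀) (by
    show IsOpenImmersion.lift _ _ hr₀ ≫ U'.ι ≫ U.hom = O.ι ≫ R.obj.left.hom
    rw [IsOpenImmersion.lift_fac_assoc, Category.assoc]
    exact congrArg (O.ι ≫ ·) (Over.w (hf.snd p)))
  have hrj : r ≫ j = (etOpenι R O).hom.left ≫ hf.snd p :=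
    Over.OverMorphism.ext (IsOpenImmersion.lift_fac _ _ _)
  have hw : W.obj.hom ≫ f = (yon S).map r ≫ (yon S).map j ≫ p := by
    show ((yon S).map (etOpenι R O).hom.left ≫ hf.fst p) ≫ f = _
    rw [← Category.assoc ((yon S).map r), ← Functor.map_comp, hrj, Category.assoc, hf.w, Functor.map_comp,
      Category.assoc]
  have hq := isQuasicoherent_restr_pull hf (U := T) (V := W.obj.left) (p := (yon S).map j ≫ p) (q := W.obj.hom)
    (r := (yon S).map r) (show IsAffine T.left from hU') hj W.property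
    (representable_yon_map r) hw G hG
  haveI : IsAffine (top W.obj.left).obj.left.left := hO
  have hc := cartAt_postcomp (isEtaleMor_of_repWith _ W.property) ((pullModEt hf).obj G) hq (top W.obj.left)
  exact cartAt_of_map (show IsAffine W.obj.left.left from hO) hc (EtOver.homMk (𝟙 _) (by
    show (yon S).map (𝟙 W.obj.left) ≫ 𝟙 _ ≫ W.obj.hom = W.obj.hom
    rw [(yon S).map_id, Category.id_comp, Category.id_comp]))

theorem isQuasicoherent_pull (hf : Representable f) (hY : IsAlgSpace Y)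
    [(SheafOfModules.pushforward.{u + 1} (bcRingHom hf)).IsRightAdjoint]
    (G : ModEt Y) (hG : G.IsQuasicoherent) : ((pullModEt hf).obj G).IsQuasicoherent := by
  refine isQuasicoherent_of_cartAt fun E hE => ?_
  obtain ⟨U, a, ha, has⟩ := hY.atlas
  let R := (EtOver.bc hf).obj (EtOver.mk a ha)
  have sq := ha.rep.isPullback' (E.obj.hom ≫ f)
  let t := ha.rep.snd (E.obj.hom ≫ f)
  have ht : Etale t.left := ha.property_snd (E.obj.hom ≫ f)
  let V : EtOver X := EtOver.mk ((yon S).map t ≫ E.obj.hom)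
    (AlgSpLib.repWith_comp ((repWith_yon_map_iff _ _).2 ht) E.property)
  let c : V ⟶ E := EtOver.homMk t rfl
  let b : V ⟶ R := EtOver.homMk (hf.lift V.obj.hom (ha.rep.fst' (E.obj.hom ≫ f)) (by
      show ((yon S).map t ≫ E.obj.hom) ≫ f = _
      rw [Category.assoc]
      exact sq.w.symm))
    (hf.lift_fst _ _ _)
  have hts : Surjective t.left := has.property_snd (E.obj.hom ≫ f)
  have hloc : ∀ z : ↥R.obj.left.left, ∃ (O : R.obj.left.left.Opens) (U' : U.left.Opens),
      IsAffineOpen O ∧ IsAffineOpen U' ∧ O ≤ (hf.snd a).left ⁻¹ᵁ U' ∧ z ∈ O := fun z => by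
    obtain ⟨U', hU', hz, -⟩ := exists_isAffineOpen_mem_and_subset (U := (⊤ : U.left.Opens))
      (x := (hf.snd a).left z) trivial
    obtain ⟨O, hO, hzO, hOle⟩ := exists_isAffineOpen_mem_and_subset (U := (hf.snd a).left ⁻¹ᵁ U') (x := z) hz
    exact ⟨O, U', hO, hU', hOle, hzO⟩
  choose O U' hO hU' hle hzO using hloc
  obtain ⟨ι, hι, F, hF, e, hm, hcov⟩ := exists_cover_of_sieve (T := E)
    (fun Z m => ∃ z, Nonempty (Z ⟶ etOpen R (O z))) (fun Z Z' m k ⟨z, ⟨l⟩⟩ => ⟨z, ⟨k ≫ l⟩⟩) (fun x => by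
      obtain ⟨y, hy⟩ := hts.surj x
      let O' := b.hom.left.left ⁻¹ᵁ O (b.hom.left.left y)
      refine ⟨etOpen V O', etOpenι V O' ≫ c, ?_, b.hom.left.left y, ⟨?_⟩⟩
      · obtain ⟨y', hy'⟩ := (range_etOpenι V O').ge (show y ∈ O' from hzO _)
        refine ⟨y', ?_⟩
        show t.left ((etOpenι V O').hom.left.left y') = x
        rw [hy', hy]
      · exact openTo (etOpenι V O' ≫ b) _ (by
          rintro _ ⟨y', rfl⟩
          exact (range_etOpenι V O').le ⟨y', rfl⟩))
  refine cartAt_of_cover F e hcov fun i => ?_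
  obtain ⟨z, ⟨k⟩⟩ := hm i
  exact cartAt_of_map (hF i) (cartAt_pull_open hf a ha G hG (O z) (hO z) (U' z) (hU' z) (hle z)) k

end Groth.Agent.EtQCoh5
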