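import Groth.Agent.EtQCoh5.Dense
import Groth.Agent.AlgSpDec.EtNbhdCofiltered
import Groth.Agent.AlgSpPts.Geom
import Groth.Prelude.Def_AlgSpOX3
import Mathlib.CategoryTheory.Limits.Types.Filtered

/-!
# Stalks of direct images along integral universally injective morphisms
-/

set_option backward.isDefEq.respectTransparency false
set_option backward.isDefEq.respectTransparency.types false

noncomputable section

universe u

open CategoryTheory CategoryTheory.Limits AlgebraicGeometry Opposite AlgSp Groth.Agent.AlgSpLib Groth.Agent.AlgSpDec Groth.Agent.AlgSpPts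

namespace Groth.Agent.EtQCoh5

variable {S : Scheme.{u}} {X Y : Sp S} {f : X ⟶ Y} {hf : Representable f}

theorem map_ofScheme {T T' : Over S} (g : T ⟶ T') (x : ↥T.left) :
    Points.map ((yon S).map g) (Points.ofScheme T x) = Points.ofScheme T' (g.left x) := by
  rw [← Points.ofPt_eq_map_ofScheme]
  exact (congrArg (fun k => Points.ofPt k x) (Category.comp_id ((yon S).map g)).symm).trans (ofPt_comp g (𝟙 _) x)

/-- Lifting a geometric point of a scheme along an etale morphism through a given point. -/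
theorem exists_lift_pt {W V : Over S} (l : W ⟶ V) [Etale l.left] {K : Type u} [Field K] [IsAlgClosed K]
    {str : Spec (CommRingCat.of K) ⟶ S} (a : Over.mk str ⟶ V) (w : ↥W.left)
    (hw : l.left w = a.left (IsLocalRing.closedPoint K)) :
    ∃ b : Over.mk str ⟶ W, b ≫ l = a := by
  obtain ⟨c, hc, -⟩ := exists_lift_geometric (IsAlgSpace.yon_obj W) (IsAlgSpace.yon_obj V)
    (f := (yon S).map l) (locP_of_repWith ((repWith_yon_map_iff _ _).2 ‹Etale l.left›))
    ((yon S).map a) (u := Points.ofScheme W w) (by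
      rw [map_ofScheme, hw, Points.ofPt_eq_map_ofScheme, map_ofScheme])
  obtain ⟨b, rfl⟩ := (yon S).map_surjective c
  rw [← Functor.map_comp] at hc
  exact ⟨b, (yon S).map_injective hc⟩

variable (hf) (z : FieldPt X)

/-- The neighbourhood of a point given by the base change of a neighbourhood of its image. -/
def bcNbhd (N : EtNbhd (z.map f)) : EtNbhd z :=
  ⟨(EtOver.bc hf).obj N.1, ⟨hf.lift z.toHom N.2.1 ((N.2.2.trans (FieldPt.toHom_map f z)).symm),
    hf.lift_fst _ _ _⟩⟩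

def bcNbhdMap {N N' : EtNbhd (z.map f)} (g : N ⟶ N') : bcNbhd hf z N ⟶ bcNbhd hf z N' :=
  CategoryOfElements.homMk _ _ ((EtOver.bc hf).map g.val) (Subtype.ext (hf.hom_ext (by
    show (yon S).map (hf.lift z.toHom N.2.1 _ ≫ (EtOver.bcMap hf g.val).hom.left) ≫ hf.fst N'.1.obj.hom =
      (yon S).map (hf.lift z.toHom N'.2.1 _) ≫ hf.fst N'.1.obj.hom
    rw [Functor.map_comp, Category.assoc]
    refine (congrArg ((yon S).map (hf.lift z.toHom N.2.1 _) ≫ ·) (EtOver.w (EtOver.bcMap hf g.val))).trans ?_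
    exact (hf.lift_fst _ _ _).trans (hf.lift_fst _ _ _).symm) (by
    show (hf.lift z.toHom N.2.1 _ ≫ (EtOver.bcMap hf g.val).hom.left) ≫ hf.snd N'.1.obj.hom =
      hf.lift z.toHom N'.2.1 _ ≫ hf.snd N'.1.obj.hom
    rw [Category.assoc, EtOver.bcMap_snd, ← Category.assoc, hf.lift_snd, hf.lift_snd]
    exact congrArg Subtype.val g.2)))

variable {hf} (h : IntUnivInj hf) (hY : IsAlgSpace Y) (hz : z.IsGeometric)

include h hY hz

theorem exists_bcNbhd_hom (V : EtNbhd z) : ∃ (N : EtNbhd (z.map f)), Nonempty (bcNbhd hf z N ⟶ V) := by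
  haveI : IsAlgClosed z.K := hz
  obtain ⟨E, l, w, hw⟩ := exists_bc_nbhd h hY V.1 (V.2.1.left (IsLocalRing.closedPoint z.K))
  haveI : Etale l.hom.left.left := EtOver.etale_left l
  obtain ⟨b, hb⟩ := exists_lift_pt l.hom.left V.2.1 w hw
  have hb' : (yon S).map b ≫ hf.fst E.obj.hom = z.toHom := by
    rw [← V.2.2, ← hb, Functor.map_comp, Category.assoc]
    exact congrArg _ (EtOver.w l).symm
  let N : EtNbhd (z.map f) := ⟨E, ⟨b ≫ hf.snd E.obj.hom, by
    show (yon S).map _ ≫ E.obj.hom = _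
    rw [Functor.map_comp, Category.assoc, ← hf.w, ← Category.assoc, hb', FieldPt.toHom_map]⟩⟩
  refine ⟨N, ⟨CategoryOfElements.homMk _ _ l (Subtype.ext ?_)⟩⟩
  show hf.lift z.toHom N.2.1 _ ≫ l.hom.left = V.2.1
  rw [← hb]
  congr 1
  exact hf.hom_ext ((hf.lift_fst _ _ _).trans hb'.symm) (hf.lift_snd _ _ _)

theorem exists_nbhd_factor (N : EtNbhd (z.map f)) {V : EtNbhd z} (π : V ⟶ bcNbhd hf z N) :
    ∃ (N' : EtNbhd (z.map f)) (k : N' ⟶ N) (l : bcNbhd hf z N' ⟶ V), l ≫ π = bcNbhdMap hf z k := by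
  haveI : IsAlgClosed z.K := hz
  obtain ⟨E', k, l, hl, w, hw⟩ := exists_split h N.1 π.val (V.2.1.left (IsLocalRing.closedPoint z.K))
  haveI : Etale l.hom.left.left := EtOver.etale_left l
  obtain ⟨b, hb⟩ := exists_lift_pt l.hom.left V.2.1 w hw
  have hb' : (yon S).map b ≫ hf.fst E'.obj.hom = z.toHom := by
    rw [← V.2.2, ← hb, Functor.map_comp, Category.assoc]
    exact congrArg _ (EtOver.w l).symm
  let N' : EtNbhd (z.map f) := ⟨E', ⟨b ≫ hf.snd E'.obj.hom, by
    show (yon S).map _ ≫ E'.obj.hom = _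
    rw [Functor.map_comp, Category.assoc, ← hf.w, ← Category.assoc, hb', FieldPt.toHom_map]⟩⟩
  have hb₂ : hf.lift z.toHom N'.2.1 ((N'.2.2.trans (FieldPt.toHom_map f z)).symm) = b :=
    hf.hom_ext ((hf.lift_fst _ _ _).trans hb'.symm) (hf.lift_snd _ _ _)
  have hN : hf.lift z.toHom N.2.1 ((N.2.2.trans (FieldPt.toHom_map f z)).symm) = b ≫ (EtOver.bcMap hf k).hom.left := by
    have h1 : V.2.1 ≫ π.val.hom.left = hf.lift z.toHom N.2.1 ((N.2.2.trans (FieldPt.toHom_map f z)).symm) :=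
      congrArg Subtype.val π.2
    rw [← h1, ← hb, Category.assoc]
    exact congrArg (fun φ => b ≫ φ.hom.left) hl
  refine ⟨N', CategoryOfElements.homMk _ _ k (Subtype.ext ?_), CategoryOfElements.homMk _ _ l (Subtype.ext ?_),
    CategoryOfElements.ext _ _ _ hl⟩
  · show (b ≫ hf.snd E'.obj.hom) ≫ k.hom.left = N.2.1
    rw [Category.assoc, ← EtOver.bcMap_snd hf k, ← Category.assoc, ← hN, hf.lift_snd]
  · show hf.lift z.toHom N'.2.1 _ ≫ l.hom.left = V.2.1
    rw [hb₂, hb]

theorem stalkEt_pushEt_equiv (hX : IsAlgSpace X) (F : EtSh X (Type (u + 1))) :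
    ∃ φ : stalkEt (z.map f) ((pushEt hf (Type (u + 1))).obj F) ≃ stalkEt z F,
      ∀ (N : EtNbhd (z.map f)) (s : F.obj.obj (op ((EtOver.bc hf).obj N.1))),
        φ (stalkEtι (z.map f) ((pushEt hf (Type (u + 1))).obj F) N s) = stalkEtι z F (bcNbhd hf z N) s := by
  haveI := isCofiltered_etNbhd z hX hz
  haveI := isCofiltered_etNbhd (z.map f) hY hz
  let P := (pushEt hf (Type (u + 1))).obj F
  let φ₀ : stalkEt (z.map f) P ⟶ stalkEt z F := colimit.desc (stalkEtDiagram (z.map f) P)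
    { pt := stalkEt z F
      ι :=
        { app := fun N => stalkEtι z F (bcNbhd hf z N.unop)
          naturality := fun N N' g => (colimit.w (stalkEtDiagram z F) (bcNbhdMap hf z g.unop).op).trans
            (Category.comp_id _).symm } }
  have key : ∀ N s, φ₀ (stalkEtι (z.map f) P N s) = stalkEtι z F (bcNbhd hf z N) s := fun N s => by
    show (stalkEtι (z.map f) P N ≫ φ₀) s = _
    simp only [φ₀, stalkEtι, colimit.ι_desc]
    rfl
  refine ⟨Equiv.ofBijective φ₀ ⟨fun a b hab => ?_, fun t => ?_⟩, key⟩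
  · obtain ⟨⟨N₁⟩, s₁, rfl⟩ := Types.jointly_surjective' a
    obtain ⟨⟨N₂⟩, s₂, rfl⟩ := Types.jointly_surjective' b
    let N := IsCofiltered.min N₁ N₂
    let g₁ : N ⟶ N₁ := IsCofiltered.minToLeft _ _
    let g₂ : N ⟶ N₂ := IsCofiltered.minToRight _ _
    have e₁ := ConcreteCategory.congr_hom (colimit.w (stalkEtDiagram (z.map f) P) g₁.op) s₁
    have e₂ := ConcreteCategory.congr_hom (colimit.w (stalkEtDiagram (z.map f) P) g₂.op) s₂
    rw [← e₁, ← e₂] at hab ⊢
    simp only [CategoryTheory.comp_apply] at hab ⊢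
    erw [key, key] at hab
    obtain ⟨⟨V⟩, p, q, hpq⟩ := (Types.FilteredColimit.colimit_eq_iff (stalkEtDiagram z F)).1 hab
    obtain ⟨p, rfl⟩ : ∃ p' : V ⟶ bcNbhd hf z N, p'.op = p := ⟨p.unop, rfl⟩
    obtain ⟨V', r, hr⟩ : ∃ (V' : EtNbhd z) (r : V' ⟶ V), r ≫ p = r ≫ q.unop :=
      ⟨_, IsCofiltered.eqHom p q.unop, IsCofiltered.eq_condition _ _⟩
    obtain ⟨N', k, l, hl⟩ := exists_nbhd_factor z h hY hz N (r ≫ p)
    have e := congrArg ((stalkEtDiagram z F).map (l ≫ r).op) hpq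
    have hl₂ : (l ≫ r) ≫ q.unop = bcNbhdMap hf z k := by rw [Category.assoc, ← hr, hl]
    have hl₁ : (l ≫ r) ≫ p = bcNbhdMap hf z k := by rw [Category.assoc, hl]
    rw [← CategoryTheory.comp_apply, ← CategoryTheory.comp_apply, ← Functor.map_comp, ← Functor.map_comp] at e
    rw [show p.op ≫ (l ≫ r).op = (bcNbhdMap hf z k).op from congrArg Quiver.Hom.op hl₁,
      show q ≫ (l ≫ r).op = (bcNbhdMap hf z k).op from congrArg Quiver.Hom.op hl₂] at e
    refine (ConcreteCategory.congr_hom (colimit.w (stalkEtDiagram (z.map f) P) k.op) _).symm.trans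
      (Eq.trans ?_ (ConcreteCategory.congr_hom (colimit.w (stalkEtDiagram (z.map f) P) k.op) _))
    exact congrArg (colimit.ι (stalkEtDiagram (z.map f) P) (op N')) e
  · obtain ⟨⟨V⟩, s, rfl⟩ := Types.jointly_surjective' t
    obtain ⟨N, ⟨l⟩⟩ := exists_bcNbhd_hom z h hY hz V
    refine ⟨stalkEtι (z.map f) P N ((stalkEtDiagram z F).map l.op s), (key _ _).trans ?_⟩
    exact ConcreteCategory.congr_hom (colimit.w (stalkEtDiagram z F) l.op) s

end Groth.Agent.EtQCoh5
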