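import Groth.Agent.EtQCoh5.Dense
import Groth.Agent.AlgSpLib.Points
import Mathlib.CategoryTheory.Sites.DenseSubsite.InducedTopology
import Mathlib.CategoryTheory.Sites.DenseSubsite.SheafEquiv

/-!
# Sheaves supported on the image of an integral universally injective morphism
-/

set_option backward.isDefEq.respectTransparency false
set_option backward.isDefEq.respectTransparency.types false

noncomputable section

universe u

open CategoryTheory CategoryTheory.Limits AlgebraicGeometry Opposite AlgSp Groth.Agent.AlgSpLib Groth.Agent.AlgSpDec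

namespace Groth.Agent.EtQCoh5

variable {S : Scheme.{u}} {X Y : Sp S} {f : X ⟶ Y}

/-- An object does not meet the image. -/
def Out (f : X ⟶ Y) (E : EtOver Y) : Prop :=
  Disjoint (Set.range (Points.map E.obj.hom)) (Set.range (Points.map f))

theorem exists_mem_of_cover {E : EtOver X} (R : Sieve E) (hR : R ∈ etTop X E) (x : ↥E.obj.left.left) :
    ∃ (V : EtOver X) (g : V ⟶ E), R g ∧ x ∈ Set.range g.hom.left.left := by
  obtain ⟨P, hP, hPR⟩ := (etPre X).mem_toGrothendieck_iff_of_isStableUnderComposition.1 hR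
  obtain ⟨κ, Z, g, rfl⟩ := P.exists_eq_ofArrows
  obtain ⟨k, hk⟩ := (ofArrows_mem_etPre_iff Z g).1 hP x
  exact ⟨Z k, g k, hPR _ _ (Presieve.ofArrows.mk k), hk⟩

variable (hf : Representable f)

theorem isEmpty_bc_of_out (E : EtOver Y) (hE : Out f E) : IsEmpty ↥((EtOver.bc hf).obj E).obj.left.left := by
  refine ⟨fun w => Set.disjoint_left.1 hE (show Points.ofPt (hf.fst E.obj.hom ≫ f) w ∈ _ from ?_) ?_⟩
  · exact ⟨Points.map ((yon S).map (hf.snd E.obj.hom)) (Points.ofScheme _ w), by
      rw [← Points.map_comp, ← hf.w, ← Points.ofPt_eq_map_ofScheme]⟩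
  · exact ⟨Points.map (hf.fst E.obj.hom) (Points.ofScheme _ w), by
      rw [← Points.map_comp, ← Points.ofPt_eq_map_ofScheme]⟩

theorem out_of_hom {E E' : EtOver Y} (g : E' ⟶ E) (hE : Out f E) : Out f E' := by
  refine hE.mono_left ?_
  rintro _ ⟨x, rfl⟩
  exact ⟨Points.map ((yon S).map g.hom.left) x, by rw [← Points.map_comp, EtOver.w g]⟩

variable {hf} (h : IntUnivInj hf)

include h

/-- The complement of the image. -/
def outOpen (E : EtOver Y) : E.obj.left.left.Opens :=
  ⟨(Set.range (hf.snd E.obj.hom).left)ᶜ,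
    (haveI := (h E.obj.hom).1; (hf.snd E.obj.hom).left.isClosedMap.isClosed_range).isOpen_compl⟩

theorem out_outOpen (E : EtOver Y) : Out f (etOpen E (outOpen h E)) := by
  refine Set.disjoint_left.2 ?_
  rintro _ ⟨x, rfl⟩ ⟨y, hy⟩
  let O := etOpen E (outOpen h E)
  let x' : Points ((yon S).obj E.obj.left) := Points.map ((yon S).map (etOpenι E (outOpen h E)).hom.left) x
  have hx' : Points.map f y = Points.map E.obj.hom x' := by
    rw [hy, ← Points.map_comp]
    rfl
  obtain ⟨z, -, hz⟩ := exists_point_of_isPullback (hf.isPullback E.obj.hom) hx'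
  let t := Points.toScheme _ z
  have h1 : (hf.snd E.obj.hom).left t = Points.toScheme _ x' := by
    have e : Points.map ((yon S).map (hf.snd E.obj.hom)) (Points.ofScheme _ t) =
        Points.ofScheme _ ((hf.snd E.obj.hom).left t) := by
      rw [← Points.ofPt_eq_map_ofScheme]
      exact (congrArg (fun k => Points.ofPt k t) (Category.comp_id _).symm).trans (ofPt_comp _ (𝟙 _) t)
    rw [Points.ofScheme_toScheme, hz] at e
    rw [e, Points.toScheme_ofScheme]
  have h2 : Points.toScheme _ x' ∈ outOpen h E := by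
    have e : x' = Points.ofScheme _ ((etOpenι E (outOpen h E)).hom.left.left (Points.toScheme _ x)) := by
      rw [show x' = Points.map ((yon S).map (etOpenι E (outOpen h E)).hom.left)
          (Points.ofScheme _ (Points.toScheme _ x)) by rw [Points.ofScheme_toScheme],
        ← Points.ofPt_eq_map_ofScheme]
      exact (congrArg (fun k => Points.ofPt k _) (Category.comp_id _).symm).trans (ofPt_comp _ (𝟙 _) _)
    rw [e, Points.toScheme_ofScheme]
    exact (range_etOpenι E (outOpen h E)).le ⟨_, rfl⟩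
  exact h2 ⟨t, h1⟩

theorem isLocallyFaithful_bc : (EtOver.bc hf).IsLocallyFaithful (etTop X) := by
  refine ⟨fun {E₁ E₂} k₁ k₂ e => ?_⟩
  have sq := E₁.property.rep.isPullback' E₂.obj.hom
  let p₁ := E₁.property.rep.fst' E₂.obj.hom
  let p₂ := E₁.property.rep.snd E₂.obj.hom
  let P : EtOver Y := EtOver.mk ((yon S).map p₁ ≫ E₁.obj.hom) (by
    refine repWith_comp ((repWith_yon_map_iff _ _).2 ?_) E₁.property
    exact E₂.property.property _ _ _ sq.flip)
  let π₁ : P ⟶ E₁ := EtOver.homMk p₁ rfl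
  let π₂ : P ⟶ E₂ := EtOver.homMk p₂ sq.w.symm
  have hg : ∀ k : E₁ ⟶ E₂, ∃ s : E₁ ⟶ P, s ≫ π₁ = 𝟙 _ ∧ s ≫ π₂ = k := fun k => by
    obtain ⟨d, hd₁, hd₂⟩ := sq.exists_lift (𝟙 _) ((yon S).map k.hom.left)
      ((Category.id_comp _).trans (EtOver.w k).symm)
    obtain ⟨δ, rfl⟩ := (yon S).map_surjective d
    rw [← Functor.map_comp] at hd₁ hd₂
    rw [← (yon S).map_id] at hd₁
    exact ⟨EtOver.homMk δ (by
        show (yon S).map δ ≫ (yon S).map p₁ ≫ E₁.obj.hom = E₁.obj.hom
        rw [← Category.assoc, ← Functor.map_comp, (yon S).map_injective hd₁, (yon S).map_id, Category.id_comp]),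
      EtOver.hom_ext _ _ ((yon S).map_injective hd₁), EtOver.hom_ext _ _ ((yon S).map_injective hd₂)⟩
  obtain ⟨s₁, hs₁, hs₁'⟩ := hg k₁
  obtain ⟨s₂, hs₂, hs₂'⟩ := hg k₂
  have hs : (EtOver.bc hf).map s₁ = (EtOver.bc hf).map s₂ := by
    have a : (EtOver.bc hf).map s₁ ≫ (EtOver.bc hf).map π₁ = (EtOver.bc hf).map s₂ ≫ (EtOver.bc hf).map π₁ := by
      rw [← Functor.map_comp, ← Functor.map_comp, hs₁, hs₂]
    have b : (EtOver.bc hf).map s₁ ≫ (EtOver.bc hf).map π₂ = (EtOver.bc hf).map s₂ ≫ (EtOver.bc hf).map π₂ := by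
      rw [← Functor.map_comp, ← Functor.map_comp, hs₁', hs₂', e]
    refine EtOver.hom_ext _ _ (hf.hom_ext ((EtOver.w _).trans (EtOver.w _).symm)
      ((yon S).map_injective (sq.hom_ext ?_ ?_)))
    · rw [← Functor.map_comp, ← Functor.map_comp, Category.assoc, Category.assoc]
      have a' := congrArg (fun k => k.hom.left ≫ hf.snd E₁.obj.hom) a
      simp only [EtOver.bc_map] at a'
      congr 1
      calc (EtOver.bcMap hf s₁).hom.left ≫ hf.snd P.obj.hom ≫ p₁ =
          ((EtOver.bcMap hf s₁).hom.left ≫ (EtOver.bcMap hf π₁).hom.left) ≫ hf.snd E₁.obj.hom := by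
            rw [Category.assoc, EtOver.bcMap_snd]; rfl
        _ = ((EtOver.bcMap hf s₂).hom.left ≫ (EtOver.bcMap hf π₁).hom.left) ≫ hf.snd E₁.obj.hom := a'
        _ = _ := by rw [Category.assoc, EtOver.bcMap_snd]; rfl
    · rw [← Functor.map_comp, ← Functor.map_comp, Category.assoc, Category.assoc]
      have b' := congrArg (fun k => k.hom.left ≫ hf.snd E₂.obj.hom) b
      simp only [EtOver.bc_map] at b'
      congr 1
      calc (EtOver.bcMap hf s₁).hom.left ≫ hf.snd P.obj.hom ≫ p₂ =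
          ((EtOver.bcMap hf s₁).hom.left ≫ (EtOver.bcMap hf π₂).hom.left) ≫ hf.snd E₂.obj.hom := by
            rw [Category.assoc, EtOver.bcMap_snd]; rfl
        _ = ((EtOver.bcMap hf s₂).hom.left ≫ (EtOver.bcMap hf π₂).hom.left) ≫ hf.snd E₂.obj.hom := b'
        _ = _ := by rw [Category.assoc, EtOver.bcMap_snd]; rfl
  obtain ⟨l, hl₁, -⟩ := (EtOver.isPullback_bc_map_pullback hf s₁ s₂).exists_lift (𝟙 _) (𝟙 _) (by rw [hs])
  let D := EtOver.pullbackFst s₁ s₂
  have hD : D = EtOver.pullbackSnd s₁ s₂ := by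
    have := congrArg (· ≫ π₁) (EtOver.pullback_condition s₁ s₂)
    simp only [Category.assoc, hs₁, hs₂, Category.comp_id] at this
    exact this
  have heq : D ≫ k₁ = D ≫ k₂ := by
    rw [← hs₁', ← hs₂', ← Category.assoc, EtOver.pullback_condition, ← hD, Category.assoc]
  refine (etTop X).superset_covering ?_ ((etTop X).top_mem _)
  intro Z m _
  exact ⟨_, D, m ≫ l, heq, by rw [Category.assoc, hl₁, Category.comp_id]⟩

theorem isSheaf_induced [(EtOver.bc hf).IsCoverDense (etTop X)] [(EtOver.bc hf).IsLocallyFull (etTop X)]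
    [(EtOver.bc hf).IsLocallyFaithful (etTop X)]
    (P : (EtOver Y)ᵒᵖ ⥤ Type (u + 1)) (hP : Presieve.IsSheaf (etTop Y) P)
    (hout : ∀ E, Out f E → Nonempty (Unique (P.obj (op E)))) :
    Presieve.IsSheaf ((EtOver.bc hf).inducedTopology (etTop X)) P := by
  intro E R hR
  rw [Functor.mem_inducedTopology_iff_of_isCoverDense] at hR
  let O := etOpenι E (outOpen h E)
  let R' : Sieve E := R ⊔ Sieve.generate (Presieve.singleton O)
  have hR' : R' ∈ etTop Y E := by
    have key : ∀ x : ↥E.obj.left.left, ∃ (V : EtOver Y) (g : V ⟶ E), R' g ∧ x ∈ Set.range g.hom.left.left := by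
      intro x
      by_cases hx : x ∈ Set.range (hf.snd E.obj.hom).left
      · obtain ⟨w, hw⟩ := hx
        obtain ⟨W, g, ⟨V, r, k, hr, hk⟩, w', hw'⟩ := exists_mem_of_cover _ hR w
        refine ⟨V, r, Or.inl hr, (hf.snd V.obj.hom).left (k.hom.left.left w'), ?_⟩
        have e := congrArg (fun φ => φ.left (k.hom.left.left w')) (EtOver.bcMap_snd hf r)
        refine Eq.trans e.symm ?_
        show (hf.snd E.obj.hom).left ((EtOver.bcMap hf r).hom.left.left (k.hom.left.left w')) = x
        rw [← hw, ← hw']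
        exact congrArg (hf.snd E.obj.hom).left (congrArg (fun φ => φ.hom.left.left w') hk.symm)
      · exact ⟨_, O, Or.inr ⟨_, 𝟙 _, O, ⟨⟩, Category.id_comp _⟩, (range_etOpenι E _).ge hx⟩
    choose V g hg hx using key
    refine (etTop Y).superset_covering ?_ (AlgSp.ofArrows_mem_etTop V g fun x => ⟨x, hx x⟩)
    rw [Sieve.generate_le_iff]
    intro Z m hm
    obtain ⟨x⟩ := hm
    exact hg x
  have hu : ∀ {W : EtOver Y} (m : W ⟶ E), R' m → ¬ R m → Out f W := by
    intro W m hm hn
    rcases hm with hm | ⟨_, k, _, ⟨⟩, -⟩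
    · exact absurd hm hn
    · exact out_of_hom k (out_outOpen h E)
  intro x hx
  classical
  let x' : Presieve.FamilyOfElements P R'.arrows := fun W m hm =>
    if hr : R m then x m hr else (hout W (hu m hm hr)).some.default
  have hx' : x'.Compatible := by
    intro W₁ W₂ W g₁ g₂ m₁ m₂ h₁ h₂ e
    by_cases r₁ : R m₁ <;> by_cases r₂ : R m₂
    · simp only [x', dif_pos r₁, dif_pos r₂]
      exact hx g₁ g₂ r₁ r₂ e
    all_goals first
      | exact @Subsingleton.elim _ (hout W (out_of_hom g₂ (hu m₂ h₂ r₂))).some.instSubsingleton _ _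
      | exact @Subsingleton.elim _ (hout W (out_of_hom g₁ (hu m₁ h₁ r₁))).some.instSubsingleton _ _
  obtain ⟨t, ht, htu⟩ := hP R' hR' x' hx'
  refine ⟨t, fun W m hm => (ht m (Or.inl hm)).trans (dif_pos hm), fun t' ht' => htu t' fun W m hm => ?_⟩
  by_cases hr : R m
  · exact (ht' m hr).trans (dif_pos hr).symm
  · exact @Subsingleton.elim _ (hout W (hu m hm hr)).some.instSubsingleton _ _

omit h in
theorem unique_of_isEmpty {Q : (EtOver X)ᵒᵖ ⥤ Type (u + 1)} (hQ : Presieve.IsSheaf (etTop X) Q) (W : EtOver X)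
    [IsEmpty ↥W.obj.left.left] : Nonempty (Unique (Q.obj (op W))) := by
  have hb : (⊥ : Sieve W) ∈ etTop X W := by
    refine (etTop X).superset_covering ?_ (AlgSp.ofArrows_mem_etTop (fun i : PEmpty.{1} => (i.elim : EtOver X))
      (fun i => i.elim) fun x => isEmptyElim x)
    rw [Sieve.generate_le_iff]
    intro Z m hm
    obtain ⟨i⟩ := hm
    exact i.elim
  obtain ⟨t, -, ht⟩ := hQ ⊥ hb (fun _ _ hm => hm.elim) (fun _ _ _ _ _ _ _ h₁ => h₁.elim)
  exact ⟨⟨⟨t⟩, fun s => ht s fun _ _ hm => hm.elim⟩⟩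

variable (hY : IsAlgSpace Y)

include hY

theorem essImage_pushEt_of_induced {A : Type*} [Category A]
    [∀ Z : (EtOver X)ᵒᵖ, HasLimitsOfShape (StructuredArrow Z (EtOver.bc hf).op) A]
    (G : EtSh Y A) (hG : Presheaf.IsSheaf ((EtOver.bc hf).inducedTopology (etTop X)) G.obj) :
    (pushEt hf A).essImage G := by
  haveI := isCoverDense_bc h hY
  haveI := isLocallyFull_bc h
  haveI := isLocallyFaithful_bc h
  let J := (EtOver.bc hf).inducedTopology (etTop X)
  let G' : Sheaf J A := ⟨G.obj, hG⟩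
  let e := (EtOver.bc hf).sheafPushforwardContinuous A J (etTop X)
  exact ⟨e.objPreimage G', ⟨(fullyFaithfulSheafToPresheaf _ _).preimageIso
    ((sheafToPresheaf J A).mapIso (e.objObjPreimageIso G'))⟩⟩

theorem essImage_pushEt_type (G : EtSh Y (Type (u + 1))) :
    (pushEt hf (Type (u + 1))).essImage G ↔ ∀ E, Out f E → Nonempty (Unique (G.obj.obj (op E))) := by
  constructor
  · rintro ⟨F, ⟨i⟩⟩ E hE
    haveI := isEmpty_bc_of_out hf E hE
    obtain ⟨U⟩ := unique_of_isEmpty ((isSheaf_iff_isSheaf_of_type _ _).1 F.property) ((EtOver.bc hf).obj E)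
    let eqv := (((sheafToPresheaf _ _).mapIso i).app (op E)).toEquiv
    exact ⟨@Equiv.unique _ _ U eqv.symm⟩
  · intro hG
    haveI := isCoverDense_bc h hY
    haveI := isLocallyFull_bc h
    haveI := isLocallyFaithful_bc h
    exact essImage_pushEt_of_induced h hY G ((isSheaf_iff_isSheaf_of_type _ _).2
      (isSheaf_induced h _ ((isSheaf_iff_isSheaf_of_type _ _).1 G.property) hG))

theorem essImage_pushEt_ab (G : AbEt Y) :
    (pushEt hf AddCommGrpCat.{u + 1}).essImage G ↔ ∀ E, Out f E → Subsingleton ↥(G.obj.obj (op E)) := by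
  constructor
  · rintro ⟨F, ⟨i⟩⟩ E hE
    haveI := isEmpty_bc_of_out hf E hE
    obtain ⟨U⟩ := unique_of_isEmpty ((isSheaf_iff_isSheaf_of_type _ _).1
      ((Presheaf.isSheaf_iff_isSheaf_forget _ F.obj (CategoryTheory.forget _)).1 F.property))
      ((EtOver.bc hf).obj E)
    let eqv := ((CategoryTheory.forget AddCommGrpCat.{u + 1}).mapIso
      (((sheafToPresheaf _ _).mapIso i).app (op E))).toEquiv
    exact @Equiv.subsingleton _ _ eqv.symm (@Unique.instSubsingleton _ U)
  · intro hG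
    haveI := isCoverDense_bc h hY
    haveI := isLocallyFull_bc h
    haveI := isLocallyFaithful_bc h
    refine essImage_pushEt_of_induced h hY G
      ((Presheaf.isSheaf_iff_isSheaf_forget _ G.obj (CategoryTheory.forget _)).2 ((isSheaf_iff_isSheaf_of_type _ _).2
      (isSheaf_induced h _ ((isSheaf_iff_isSheaf_of_type _ _).1
        ((Presheaf.isSheaf_iff_isSheaf_forget _ G.obj (CategoryTheory.forget _)).1 G.property)) ?_)))
    intro E hE
    haveI := hG E hE
    exact ⟨@uniqueOfSubsingleton _ (hG E hE) (0 : ↥(G.obj.obj (op E)))⟩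

end Groth.Agent.EtQCoh5
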