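import Groth.Agent.EtQCoh5.ProjSect
import Groth.Agent.QCoh.Qcqs
import Mathlib.RingTheory.Localization.BaseChange

/-!
# The Zariski companion of a quasi-coherent module with small sections
-/

set_option backward.isDefEq.respectTransparency false
set_option backward.isDefEq.respectTransparency.types false
set_option linter.style.haveILetI false

noncomputable section

universe u

open CategoryTheory CategoryTheory.Limits AlgebraicGeometry Opposite AlgSp TensorProduct TopologicalSpace

namespace Groth.Agent.EtQCoh5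

open Groth.Agent.AlgSpQ4.MV Groth.Agent.AlgSpDec Groth.Agent.EtQCoh

variable {S : Scheme.{u}} {U : Over S}

/-- The inclusion of the objects given by opens. -/
def openMap {W W' : U.left.Opens} (h : W' ≤ W) : openObj (U := U) W' ⟶ openObj W :=
  (EtOver.ofScheme U).map (etaleOfLE h)

theorem openRing_openMap {W W' : U.left.Opens} (h : W' ≤ W) (a : gam (openObj (U := U) W)) :
    openRing W' (pb (openMap h) a) = (U.left.presheaf.map (homOfLE h).op).hom (openRing W a) := by
  have e : (U.left.homOfLE h).appTop ≫ W'.topIso.hom = W.topIso.hom ≫ U.left.presheaf.map (homOfLE h).op := by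
    rw [Scheme.homOfLE_appTop, Scheme.Opens.topIso_hom, Scheme.Opens.topIso_hom]
    simp only [Category.assoc, Scheme.Opens.toScheme_presheaf_map, ← Functor.map_comp]
    rfl
  exact congrArg (fun k => k.hom a) e

theorem openObj_hom_ext {T : EtOver ((yon S).obj U)} {W : U.left.Opens} (a b : T ⟶ openObj W) : a = b := by
  have key : ∀ c : T ⟶ openObj W, (yon S).map (c.hom.left ≫ EtOver.homOfEtale (etaleOfOpen U.left W)) = T.obj.hom :=
    fun c => by
      refine Eq.trans ?_ (EtOver.w c)
      rw [Functor.map_comp]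
      exact congrArg (_ ≫ ·) (Category.comp_id _).symm
  have h := congrArg CommaMorphism.left ((yon S).map_injective ((key a).trans (key b).symm))
  exact EtOver.hom_ext _ _ (Over.OverMorphism.ext ((cancel_mono W.ι).1 h))

theorem exists_openObj_lift {T : EtOver ((yon S).obj U)} {W W' : U.left.Opens} (a : T ⟶ openObj W)
    (h : Set.range (a.hom.left.left ≫ W.ι) ⊆ (W' : Set ↥U.left)) : Nonempty (T ⟶ openObj W') := by
  have hr := h.trans W'.range_ι.ge
  refine ⟨EtOver.homMk (CategoryTheory.Over.homMk (IsOpenImmersion.lift W'.ι (a.hom.left.left ≫ W.ι) hr) ?_) ?_⟩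
  · show IsOpenImmersion.lift _ _ hr ≫ W'.ι ≫ U.hom = T.obj.left.hom
    rw [IsOpenImmersion.lift_fac_assoc, Category.assoc]
    exact Over.w a.hom.left
  · refine Eq.trans ?_ (EtOver.w a)
    show (yon S).map _ ≫ (yon S).map _ ≫ 𝟙 _ = (yon S).map _ ≫ (yon S).map _ ≫ 𝟙 _
    refine (congrArg (_ ≫ ·) (Category.comp_id _)).trans (Eq.trans ?_ (congrArg (_ ≫ ·) (Category.comp_id _)).symm)
    refine ((yon S).map_comp _ _).symm.trans (Eq.trans ?_ ((yon S).map_comp _ _))
    congr 1
    exact Over.OverMorphism.ext (IsOpenImmersion.lift_fac _ _ _)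

theorem small_of_affine {X : Sp S} (M : ModEt X)
    (h : ∀ E : EtOver X, IsAffine E.obj.left.left → Small.{u} (sectModEt M E)) (E : EtOver X) :
    Small.{u} (sectModEt M E) := by
  obtain ⟨ι, Y, hY, g, -, hc⟩ := exists_affine_open_cover E
  haveI := fun i => h (Y i) (hY i)
  exact small_of_injective (f := fun s i => res M (g i) s) fun s t hst => sect_ext' M Y g hc fun i => congrFun hst i

variable (M : ModEt ((yon S).obj U))

/-- Every module of sections is small. -/
class SmallSections : Prop where
  small : ∀ E, Small.{u} (sectModEt M E)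

variable [SmallSections M]

instance (E : EtOver ((yon S).obj U)) : Small.{u} (sectModEt M E) := SmallSections.small E

/-- The small model of the sections over an open. -/
abbrev zarSect (W : U.left.Opens) : Type u := Shrink.{u} (sectModEt M (openObj W))

/-- The identification with the sections. -/
def zarEquiv (W : U.left.Opens) : zarSect M W ≃+ sectModEt M (openObj W) := Shrink.addEquiv

instance (W : U.left.Opens) : Module Γ(U.left, W) (zarSect M W) := Module.compHom _ (openRing W).symm.toRingHom

theorem zarEquiv_smul (W : U.left.Opens) (r : Γ(U.left, W)) (x : zarSect M W) :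
    zarEquiv M W (r • x) = (openRing W).symm r • zarEquiv M W x :=
  (Shrink.linearEquiv (gam (openObj (U := U) W)) (sectModEt M (openObj W))).map_smul ((openRing W).symm r) x

/-- Restriction on the small models. -/
def zarRes {W W' : U.left.Opens} (h : W' ≤ W) : zarSect M W →+ zarSect M W' :=
  (zarEquiv M W').symm.toAddMonoidHom.comp ((res M (openMap h)).comp (zarEquiv M W).toAddMonoidHom)

theorem zarEquiv_res {W W' : U.left.Opens} (h : W' ≤ W) (x : zarSect M W) :
    zarEquiv M W' (zarRes M h x) = res M (openMap h) (zarEquiv M W x) := (zarEquiv M W').apply_symm_apply _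

theorem zarRes_self {W : U.left.Opens} (h : W ≤ W) (x : zarSect M W) : zarRes M h x = x := by
  refine (zarEquiv M W).injective ((zarEquiv_res M _ x).trans ?_)
  rw [openObj_hom_ext (openMap h) (𝟙 _)]
  exact res_id M _

theorem zarRes_trans {W W' W'' : U.left.Opens} (h₁ : W' ≤ W) (h₂ : W'' ≤ W') (h : W'' ≤ W) (x : zarSect M W) :
    zarRes M h x = zarRes M h₂ (zarRes M h₁ x) := by
  refine (zarEquiv M W'').injective ?_
  rw [zarEquiv_res, zarEquiv_res, zarEquiv_res, openObj_hom_ext (openMap h) (openMap h₂ ≫ openMap h₁)]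
  exact res_comp M _ _ _

/-- The small presheaf of sections on opens. -/
def zarAb : (U.left.Opens)ᵒᵖ ⥤ Ab.{u} where
  obj W := AddCommGrpCat.of (zarSect M W.unop)
  map i := AddCommGrpCat.ofHom (zarRes M (leOfHom i.unop))
  map_id W := AddCommGrpCat.hom_ext (AddMonoidHom.ext fun (x : zarSect M W.unop) =>
    (zarRes_self M (W := W.unop) le_rfl x : zarRes M le_rfl x = x))
  map_comp {A B C} i j := AddCommGrpCat.hom_ext (AddMonoidHom.ext fun (x : zarSect M A.unop) =>
    (zarRes_trans M (leOfHom i.unop) (leOfHom j.unop) (leOfHom (i ≫ j).unop) x :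
      zarRes M (leOfHom (i ≫ j).unop) x = zarRes M (leOfHom j.unop) (zarRes M (leOfHom i.unop) x)))

instance (W : (U.left.Opens)ᵒᵖ) : Module (U.left.ringCatSheaf.obj.obj W) ((zarAb M).obj W) :=
  inferInstanceAs (Module Γ(U.left, W.unop) (zarSect M W.unop))

/-- The presheaf of modules on opens. -/
def zarPre : PresheafOfModules.{u} U.left.ringCatSheaf.obj :=
  PresheafOfModules.ofPresheaf (zarAb M) fun {W W'} i r x => by
    refine (zarEquiv M W'.unop).injective ((zarEquiv_res M _ _).trans ?_)
    show res M _ (zarEquiv M W.unop (r • x)) = zarEquiv M W'.unop ((show Γ(U.left, W'.unop) from (U.left.presheaf.map i).hom r) • (show zarSect M W'.unop from zarRes M (leOfHom i.unop) x))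
    rw [zarEquiv_smul, zarEquiv_smul, zarEquiv_res, res_smul]
    congr 1
    refine (openRing W'.unop).injective ?_
    rw [openRing_openMap, RingEquiv.apply_symm_apply, RingEquiv.apply_symm_apply]
    rfl

theorem isSheaf_zarAb : TopCat.Presheaf.IsSheaf (X := U.left.toTopCat) (zarAb M) := by
  rw [TopCat.Presheaf.isSheaf_iff_isSheafUniqueGluing]
  intro ι V₀ sf hsf
  let V : ι → U.left.Opens := V₀
  change TopCat.Presheaf.IsCompatible (zarAb M) V sf at hsf
  show ∃! s, TopCat.Presheaf.IsGluing (zarAb M) V sf s
  have hc : ∀ x : ↥(openObj (U := U) (iSup V)).obj.left.left,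
      ∃ i, x ∈ Set.range (openMap (le_iSup V i)).hom.left.left := fun x => by
    obtain ⟨i, hi⟩ := Opens.mem_iSup.1 (show (iSup V).ι x ∈ iSup V from (iSup V).range_ι.le ⟨x, rfl⟩)
    refine ⟨i, ⟨⟨(iSup V).ι x, hi⟩, (iSup V).ι.isOpenEmbedding.injective ?_⟩⟩
    exact congrArg (fun k : (V i : Scheme) ⟶ U.left => k ⟨(iSup V).ι x, hi⟩) (U.left.homOfLE_ι (le_iSup V i))
  obtain ⟨z, hz⟩ := exists_glue M (fun i => openObj (U := U) (V i)) (fun i => openMap (le_iSup V i)) hc
    (fun i => zarEquiv M (V i) (sf i)) fun i j T a b hab => by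
    have e : a.hom.left.left ≫ (V i).ι = b.hom.left.left ≫ (V j).ι := by
      have h := congrArg (fun k : T ⟶ openObj (iSup V) => k.hom.left.left ≫ (iSup V).ι) hab
      change (a.hom.left.left ≫ U.left.homOfLE (le_iSup V i)) ≫ (iSup V).ι = (b.hom.left.left ≫ U.left.homOfLE (le_iSup V j)) ≫ (iSup V).ι at h
      rwa [Category.assoc, Category.assoc, Scheme.homOfLE_ι, Scheme.homOfLE_ι] at h
    obtain ⟨c⟩ := exists_openObj_lift (W' := V i ⊓ V j) a (by
      rintro _ ⟨t, rfl⟩
      refine ⟨(V i).range_ι.le ⟨a.hom.left.left t, rfl⟩, ?_⟩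
      rw [e]
      exact (V j).range_ι.le ⟨b.hom.left.left t, rfl⟩)
    have h := congrArg (zarEquiv M (V i ⊓ V j)) (hsf i j)
    change zarEquiv M _ (zarRes M _ (sf i)) = zarEquiv M _ (zarRes M _ (sf j)) at h
    rw [zarEquiv_res, zarEquiv_res] at h
    rw [openObj_hom_ext a (c ≫ openMap inf_le_left), openObj_hom_ext b (c ≫ openMap inf_le_right), res_comp,
      res_comp]
    exact congrArg (res M c) h
  refine ⟨(zarEquiv M (iSup V)).symm z, fun i => ?_, fun y hy => ?_⟩
  · refine (zarEquiv M (V i)).injective ((zarEquiv_res M _ _).trans ?_)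
    rw [AddEquiv.apply_symm_apply]
    exact hz i
  · refine (zarEquiv M (iSup V)).injective ?_
    rw [AddEquiv.apply_symm_apply]
    refine sect_ext' M (fun i => openObj (U := U) (V i)) (fun i => openMap (le_iSup V i)) hc fun i => ?_
    rw [hz i, ← hy i]
    exact (zarEquiv_res M _ y).symm

/-- The Zariski module of a module with small sections. -/
def zarMod : U.left.Modules := { val := zarPre M, isSheaf := isSheaf_zarAb M }

/-- It is a companion. -/
def zarCompanion : ZarCompanion U.left (zarMod M) ((resSchModEt U).obj M) where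
  iso W := (zarEquiv M W).symm.trans AddEquiv.ulift.symm
  map_smul W a m := by
    refine congrArg ULift.up ((zarEquiv M W).injective ?_)
    show zarEquiv M W ((zarEquiv M W).symm _) = zarEquiv M W (a • (zarEquiv M W).symm m)
    rw [AddEquiv.apply_symm_apply, zarEquiv_smul, AddEquiv.apply_symm_apply]
    rfl
  map_res {W W'} h m := by
    refine congrArg ULift.up ((zarEquiv M W').injective ?_)
    refine ((zarEquiv M W').apply_symm_apply _).trans ?_
    show _ = zarEquiv M W' (zarRes M _ ((zarEquiv M W).symm m))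
    rw [zarEquiv_res, AddEquiv.apply_symm_apply]
    rfl

theorem isLocalization_openMap {W : U.left.Opens} (hW : IsAffineOpen W) (f : Γ(U.left, W)) :
    letI := (pb (openMap (U := U) (U.left.basicOpen_le f))).toAlgebra
    IsLocalization.Away ((openRing W).symm f) (gam (openObj (U := U) (U.left.basicOpen f))) := by
  letI := (pb (openMap (U := U) (U.left.basicOpen_le f))).toAlgebra
  have := hW.isLocalization_basicOpen f
  have key : ∀ a, openRing (U.left.basicOpen f) (pb (openMap (U.left.basicOpen_le f)) a) =
      algebraMap Γ(U.left, W) Γ(U.left, U.left.basicOpen f) (openRing W a) := openRing_openMap _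
  have hk : ∀ n : ℕ, openRing W ((openRing W).symm f ^ n) = f ^ n := fun n => by
    rw [map_pow, RingEquiv.apply_symm_apply]
  refine { map_units := ?_, surj := ?_, exists_of_eq := ?_ }
  · rintro ⟨_, n, rfl⟩
    refine (isUnit_map_iff (openRing (U.left.basicOpen f)) _).1 ?_
    show IsUnit (openRing _ (pb _ ((openRing W).symm f ^ n)))
    rw [key, hk]
    exact IsLocalization.map_units _ (⟨f ^ n, Submonoid.pow_mem _ (Submonoid.mem_powers f) n⟩ : Submonoid.powers f)
  · intro z
    obtain ⟨⟨a, _, n, rfl⟩, h⟩ := IsLocalization.surj (Submonoid.powers f) (openRing (U.left.basicOpen f) z)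
    refine ⟨⟨(openRing W).symm a, _, n, rfl⟩, (openRing (U.left.basicOpen f)).injective ?_⟩
    show openRing _ (z * pb _ ((openRing W).symm f ^ n)) = openRing _ (pb _ _)
    rw [map_mul, key, key, hk, RingEquiv.apply_symm_apply]
    exact h
  · intro a b h
    have h' : algebraMap Γ(U.left, W) Γ(U.left, U.left.basicOpen f) (openRing W a) = algebraMap _ _ (openRing W b) := by
      rw [← key, ← key]
      exact congrArg _ h
    obtain ⟨⟨_, n, rfl⟩, hc⟩ := IsLocalization.exists_of_eq (M := Submonoid.powers f) h'
    refine ⟨⟨_, n, rfl⟩, (openRing W).injective ?_⟩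
    rw [map_mul, map_mul, hk]
    exact hc

variable [M.IsQuasicoherent]

theorem isQCoh_zarMod : Coh.IsQCoh (zarMod M) := by
  refine QCoh.isQCoh_of_sections (fun W hW f s => ?_) fun W hW f t ht => ?_
  all_goals
    haveI : IsAffine (openObj (U := U) W).obj.left.left := hW
    haveI hD : IsAffine (openObj (U := U) (U.left.basicOpen f)).obj.left.left := hW.basicOpen f
    let g := openMap (U := U) (U.left.basicOpen_le f)
    letI := (pb g).toAlgebra
    haveI := isLocalization_openMap hW f
    have hb := cartAt M (openObj W) (openObj (U.left.basicOpen f)) hD g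
    let mk := TensorProduct.mk (gam (openObj (U := U) W)) (gam (openObj (U := U) (U.left.basicOpen f)))
      (sectModEt M (openObj W)) 1
    have hθ : ∀ x, θ M g (mk x) = res M g x := fun x => (θ_tmul M g 1 x).trans (one_smul _ _)
    haveI : IsLocalizedModule (Submonoid.powers ((openRing W).symm f)) mk :=
      IsLocalization.tensorProduct_isLocalizedModule _ _
  · obtain ⟨z, hz⟩ := hb.2 (zarEquiv M _ s)
    obtain ⟨⟨x, _, n, rfl⟩, hx⟩ := IsLocalizedModule.surj (Submonoid.powers ((openRing W).symm f)) mk z
    refine ⟨n, (zarEquiv M W).symm x, (zarEquiv M (U.left.basicOpen f)).injective ?_⟩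
    show zarEquiv M _ (zarRes M _ ((zarEquiv M W).symm x)) = zarEquiv M _ (_ • s)
    rw [zarEquiv_res, AddEquiv.apply_symm_apply, zarEquiv_smul]
    have e1 : θ M g (pb g ((openRing W).symm f ^ n) • z) = res M g x := by
      rw [← hθ, ← hx]
      congr 1
    rw [θ_smul, hz] at e1
    refine e1.symm.trans (congrArg (· • _) ((openRing (U.left.basicOpen f)).injective ?_))
    rw [openRing_openMap, RingEquiv.apply_symm_apply, map_pow, map_pow, RingEquiv.apply_symm_apply]
  · have e1 : θ M g (mk (zarEquiv M W t)) = 0 := by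
      rw [hθ]
      have h := congrArg (zarEquiv M _) ht
      change zarEquiv M _ (zarRes M _ t) = zarEquiv M _ 0 at h
      rw [zarEquiv_res, map_zero] at h
      exact h
    obtain ⟨⟨_, n, rfl⟩, hn⟩ := (IsLocalizedModule.eq_zero_iff (Submonoid.powers ((openRing W).symm f)) mk).1
      ((injective_iff_map_eq_zero _).1 hb.1 _ e1)
    refine ⟨n, (zarEquiv M W).injective ?_⟩
    rw [map_zero, zarEquiv_smul, map_pow]
    exact hn

end Groth.Agent.EtQCoh5
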